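import Cfsg.Agent.DerIdx59.Basic

/-! Abelian normal subgroups: either imprimitive or cyclic and fixed-point-free. -/

set_option autoImplicit false
set_option linter.unusedSectionVars false

namespace Cfsg.Agent.DerIdx59

open MulAction
open scoped Pointwise

variable {L V : Type*} [Group L] [Finite L] [AddCommGroup V] [Finite V] [DistribMulAction L V]

/-- Translates of a fixed space. -/
lemma translate_card {r : ℕ} [hr : Fact r.Prime] (hrV : ∀ v : V, r • v = 0 → v = 0)
    {W : AddSubgroup V} {x g z : L} (hgW : ∀ w ∈ W, g • w ∈ W) (hzW : ∀ w ∈ W, z • w ∈ W)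
    (hzf : ∀ w ∈ W, z • w = w → w = 0) (hzr : z ^ r = 1)
    (hzx : Commute z x) (hzg : Commute z g) (hxg : x * g = z * g * x) :
    Nat.card (W ⊓ fixW V (Subgroup.zpowers x) : AddSubgroup V) ^ r ≤ Nat.card W := by
  set W0 : AddSubgroup V := W ⊓ fixW V (Subgroup.zpowers x) with hW0
  have hx0 : ∀ v ∈ W0, x • v = v := fun v hv => hv.2 x (Subgroup.mem_zpowers x)
  have hWpow : ∀ (t : L), (∀ w ∈ W, t • w ∈ W) → ∀ (n : ℕ), ∀ w ∈ W, t ^ n • w ∈ W := by
    intro t ht n
    induction n with
    | zero => simp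
    | succ n ih => intro w hw; rw [pow_succ, mul_smul]; exact ih _ (ht w hw)
  have hcomm : ∀ i : ℕ, x * g ^ i = z ^ i * g ^ i * x := by
    intro i
    induction i with
    | zero => simp
    | succ i ih =>
      calc x * g ^ (i + 1) = x * g ^ i * g := by rw [pow_succ, mul_assoc]
        _ = z ^ i * g ^ i * (x * g) := by rw [ih, mul_assoc]
        _ = z ^ i * (g ^ i * z) * g * x := by rw [hxg]; simp only [mul_assoc]
        _ = z ^ i * (z * g ^ i) * g * x := by rw [(hzg.pow_right i).eq]
        _ = z ^ (i + 1) * g ^ (i + 1) * x := by simp only [pow_succ, mul_assoc]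
  have hxk : ∀ (i k : ℕ), ∀ v ∈ W0, x ^ k • g ^ i • v = (z ^ i) ^ k • g ^ i • v := by
    intro i k v hv
    induction k with
    | zero => simp
    | succ k ih =>
      rw [pow_succ', mul_smul, ih, smul_smul, ((hzx.pow_left i).pow_left k).symm.eq, mul_smul,
        smul_smul x, hcomm, mul_smul, mul_smul, hx0 v hv, smul_smul, ← pow_succ]
  let f : (Fin r → W0) →+ W :=
    { toFun := fun v => ⟨∑ i : Fin r, g ^ (i : ℕ) • (v i : V), sum_mem fun i _ => hWpow g hgW i _ (v i).2.1⟩
      map_zero' := Subtype.ext (by simp)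
      map_add' := fun a b => Subtype.ext (by simp [smul_add, Finset.sum_add_distrib]) }
  have hinj : Function.Injective f := by
    rw [injective_iff_map_eq_zero]
    intro v hv
    have h0 : ∑ i : Fin r, g ^ (i : ℕ) • (v i : V) = 0 := congrArg Subtype.val hv
    funext j
    have hop : ∑ k ∈ Finset.range r, (z ^ (r - (j : ℕ))) ^ k • x ^ k • (∑ i : Fin r, g ^ (i : ℕ) • (v i : V)) = 0 := by
      rw [h0]; simp
    simp only [Finset.smul_sum] at hop
    rw [Finset.sum_comm] at hop
    rw [Finset.sum_eq_single j] at hop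
    · have e : ∀ k ∈ Finset.range r, (z ^ (r - (j : ℕ))) ^ k • x ^ k • g ^ (j : ℕ) • (v j : V) = g ^ (j : ℕ) • (v j : V) := by
        intro k _
        rw [hxk _ _ _ (v j).2, smul_smul, ← (Commute.pow_pow_self z (r - (j:ℕ)) j).mul_pow, ← pow_add,
          Nat.sub_add_cancel j.isLt.le, hzr, one_pow, one_smul]
      rw [Finset.sum_congr rfl e, Finset.sum_const, Finset.card_range] at hop
      exact Subtype.ext ((smul_eq_zero_iff_eq (g ^ (j : ℕ))).mp (hrV _ hop))
    · intro i _ hij
      have hm : ∀ k ∈ Finset.range r, (z ^ (r - (j : ℕ))) ^ k • x ^ k • g ^ (i : ℕ) • (v i : V) =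
          (z ^ (r - (j : ℕ) + i)) ^ k • g ^ (i : ℕ) • (v i : V) := by
        intro k _
        rw [hxk _ _ _ (v i).2, smul_smul, ← (Commute.pow_pow_self z (r - (j:ℕ)) i).mul_pow, ← pow_add]
      rw [Finset.sum_congr rfl hm]
      set c := z ^ (r - (j : ℕ) + (i : ℕ)) with hc
      set u := g ^ (i : ℕ) • (v i : V) with hu
      have huW : u ∈ W := hWpow g hgW i _ (v i).2.1
      have hcr : c ^ r = 1 := by rw [hc, ← pow_mul, mul_comm, pow_mul, hzr, one_pow]
      have hfix : c • (∑ k ∈ Finset.range r, c ^ k • u) = ∑ k ∈ Finset.range r, c ^ k • u := by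
        rw [Finset.smul_sum]
        have h1 := Finset.sum_range_succ (fun j => c ^ j • u) r
        have h2 := Finset.sum_range_succ' (fun j => c ^ j • u) r
        simp only [hcr, pow_zero, one_smul] at h1 h2
        rw [h1] at h2
        simp only [smul_smul, ← pow_succ']
        exact (add_right_cancel h2).symm
      have hcop : (orderOf z).Coprime (r - (j : ℕ) + i) := by
        refine Nat.Coprime.coprime_dvd_left (orderOf_dvd_of_pow_eq_one hzr) ?_
        rw [hr.out.coprime_iff_not_dvd]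
        intro hd
        have hi := i.isLt; have hj := j.isLt
        have hne : (i : ℕ) ≠ (j : ℕ) := fun e => hij (Fin.ext e)
        obtain ⟨t, ht⟩ := hd
        rcases t with _ | _ | t
        · omega
        · omega
        · nlinarith [Nat.sub_le r (j : ℕ)]
      obtain ⟨m, hm'⟩ := exists_pow_eq_self_of_coprime (x := z) hcop.symm
      refine hzf _ (sum_mem fun k _ => hWpow c (fun w hw => hWpow z hzW _ w hw) k u huW) ?_
      rw [← hm']
      exact (stabilizer L _).pow_mem hfix m
    · exact fun h => absurd (Finset.mem_univ j) h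
  have := Nat.card_le_card_of_injective f hinj
  rwa [Nat.card_fun, Nat.card_fin] at this

lemma card_nsmul_cancel {r : ℕ} [hr : Fact r.Prime] (hrV : ∀ v : V, r • v = 0 → v = 0) :
    ∀ (n : ℕ) (v : V), r ^ n • v = 0 → v = 0 := by
  intro n
  induction n with
  | zero => simp
  | succ n ih => intro v hv; rw [pow_succ, mul_smul] at hv; exact hrV v (ih _ hv)

/-- The operator summing over a subgroup. -/
lemma sum_subgroup_fixed (H : Subgroup L) [Fintype H] (v : V) :
    ∀ u ∈ H, u • (∑ h : H, (h : L) • v) = ∑ h : H, (h : L) • v := by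
  intro u hu
  rw [Finset.smul_sum]
  refine Fintype.sum_equiv (Equiv.mulLeft (⟨u, hu⟩ : H)) _ _ fun h => ?_
  rw [smul_smul]; rfl

variable {E : Subgroup L} [E.Normal]

/-- An elementary abelian normal subgroup of order above `r` gives the bound. -/
lemma elem_bound [FaithfulSMul L V] (hfp : FpfOutside E V) (hE : E ≠ ⊥) (hirr : Irr L V) {r : ℕ}
    [hr : Fact r.Prime] (hrV : ∀ v : V, r • v = 0 → v = 0) (A : Subgroup L) (hA : A.Normal)
    (hel : ∀ a ∈ A, a ^ r = 1) (hab : ∀ a ∈ A, ∀ b ∈ A, a * b = b * a) (hcard : r < Nat.card A) :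
    (E.index + 1) ^ 2 ≤ Nat.card V := by
  classical
  have : Nontrivial V := by
    by_contra h
    rw [not_nontrivial_iff_subsingleton] at h
    have : Subsingleton L := ⟨fun a b => FaithfulSMul.eq_of_smul_eq_smul fun v : V => Subsingleton.elim _ _⟩
    exact hE (Subsingleton.elim _ _)
  obtain ⟨v0, hv0⟩ := exists_ne (0 : V)
  obtain ⟨a, ha, ha1⟩ : ∃ a ∈ A, a ≠ 1 := by
    have hb : A ≠ ⊥ := fun h => by rw [h, Subgroup.card_bot] at hcard; have := hr.out.one_lt; omega
    exact (A.ne_bot_iff_exists_ne_one).mp hb |>.elim fun x hx => ⟨x, x.2, fun e => hx (Subtype.ext e)⟩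
  obtain ⟨c, hc, hc1, w, hw, hcw⟩ : ∃ c ∈ A, c ≠ 1 ∧ ∃ w : V, w ≠ 0 ∧ c • w = w := by
    by_contra hcon
    push Not at hcon
    have hord : orderOf a = r := orderOf_eq_prime (hel a ha) ha1
    obtain ⟨b, hb, hbn⟩ : ∃ b ∈ A, b ∉ Subgroup.zpowers a := by
      by_contra h
      push Not at h
      have := Subgroup.card_le_of_le (H := A) (K := Subgroup.zpowers a) h
      rw [Nat.card_zpowers, hord] at this; omega
    have hz : ∀ w ∈ (⊤ : AddSubgroup V), a • w = w → w = 0 := fun w _ e => by
      by_contra h; exact hcon a ha ha1 w h e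
    obtain ⟨i, w, -, hw0, hfix⟩ := exists_fix_translate hrV (AddSubgroup.mem_top v0) hv0 (hab b hb a ha)
      (hel b hb) (hel a ha) (fun _ _ => trivial) (fun _ _ => trivial) hz
    refine hcon _ (mul_mem hb (pow_mem ha i)) (fun e => hbn ?_) w hw0 hfix
    rw [eq_inv_of_mul_eq_one_left e]
    exact inv_mem (pow_mem (Subgroup.mem_zpowers a) i)
  obtain ⟨H0, ⟨hH0A, hH0W⟩, hmax⟩ := Set.Finite.exists_maximalFor (fun H : Subgroup L => Nat.card H)
    {H : Subgroup L | H ≤ A ∧ fixW V H ≠ ⊥} (Set.toFinite _)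
    ⟨Subgroup.zpowers c, Subgroup.zpowers_le.mpr hc, fun h => hw (by
      have : w ∈ fixW V (Subgroup.zpowers c) := fun u hu => by
        obtain ⟨k, rfl⟩ := Subgroup.mem_zpowers_iff.mp hu
        exact (stabilizer L w).zpow_mem hcw k
      rw [h] at this
      exact this)⟩
  have hH01 : 1 < Nat.card H0 := by
    by_contra hle
    have h2 : Subgroup.zpowers c ≤ A := Subgroup.zpowers_le.mpr hc
    have h3 : fixW V (Subgroup.zpowers c) ≠ ⊥ := fun h => hw (by
      have : w ∈ fixW V (Subgroup.zpowers c) := fun u hu => by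
        obtain ⟨k, rfl⟩ := Subgroup.mem_zpowers_iff.mp hu
        exact (stabilizer L w).zpow_mem hcw k
      rw [h] at this
      exact this)
    have h4 : 1 < Nat.card (Subgroup.zpowers c) := by
      rw [Nat.card_zpowers, orderOf_eq_prime (hel c hc) hc1]; exact hr.out.one_lt
    have := hmax ⟨h2, h3⟩ (by simp only; omega)
    simp only at this; omega
  let cj : L → Subgroup L → Subgroup L := fun g H => H.map (MulAut.conj g).toMonoidHom
  let ι := {H : Subgroup L // ∃ g, H = cj g H0}
  let W : ι → AddSubgroup V := fun H => fixW V H.1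
  have hmem : ∀ (g u : L) (H : Subgroup L), u ∈ cj g H ↔ g⁻¹ * u * g ∈ H := by
    intro g u H
    constructor
    · rintro ⟨h, hh, rfl⟩; simpa [mul_assoc] using hh
    · intro h; exact ⟨_, h, by simp [mul_assoc]⟩
  have hWcj : ∀ (g : L) (H : Subgroup L) (v : V), v ∈ fixW V H → g • v ∈ fixW V (cj g H) := by
    intro g H v hv u hu
    have := hv _ ((hmem g u H).mp hu)
    rw [mul_smul, mul_smul, inv_smul_eq_iff] at this
    exact this
  have hcjA : ∀ g, cj g H0 ≤ A := fun g u hu => by
    have := hA.conj_mem _ (hH0A ((hmem g u H0).mp hu)) g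
    simpa [mul_assoc] using this
  have hcjc : ∀ g, Nat.card (cj g H0) = Nat.card H0 := fun g =>
    Subgroup.card_map_of_injective (MulAut.conj g).injective
  have hperm : ∀ (g : L) (H : ι), ∃ H', ∀ w ∈ W H, g • w ∈ W H' := by
    rintro g ⟨H, k, rfl⟩
    refine ⟨⟨cj (g * k) H0, g * k, rfl⟩, fun w hw => ?_⟩
    have h1 := hWcj g _ w hw
    have h2 : cj g (cj k H0) = cj (g * k) H0 := by
      ext u; rw [hmem, hmem, hmem]; simp [mul_assoc]
    rw [h2] at h1; exact h1
  have hne : ∀ H : ι, W H ≠ ⊥ := by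
    rintro ⟨H, g, rfl⟩ h
    obtain ⟨v, hv, hv1⟩ := (AddSubgroup.bot_or_exists_ne_zero (fixW V H0)).resolve_left hH0W
    have := hWcj g H0 v hv
    rw [show fixW V (cj g H0) = ⊥ from h, AddSubgroup.mem_bot, smul_eq_zero_iff_eq] at this
    exact hv1 this
  have hspan : ⨆ H, W H = ⊤ := by
    refine (hirr (⨆ H, W H) fun g w hw => ?_).resolve_left ?_
    · induction hw using AddSubgroup.iSup_induction' with
      | hp H x hx =>
        obtain ⟨H', h'⟩ := hperm g H
        exact AddSubgroup.mem_iSup_of_mem H' (h' x hx)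
      | h1 => rw [smul_zero]; exact zero_mem _
      | hadd x y _ _ hx hy => rw [smul_add]; exact add_mem hx hy
    · intro h
      exact hne ⟨cj 1 H0, 1, rfl⟩ (le_bot_iff.mp (h ▸ le_iSup W _))
  have hY : ∀ H : ι, Nat.card (W H) = Nat.card (fixW V H0) := by
    rintro ⟨H, g, rfl⟩
    refine (Nat.card_congr ?_).symm
    refine ⟨fun v => ⟨g • v.1, hWcj g H0 v.1 v.2⟩, fun v => ⟨g⁻¹ • v.1, ?_⟩, fun v => ?_, fun v => ?_⟩
    · have h1 := hWcj g⁻¹ _ v.1 v.2
      have h2 : cj g⁻¹ (cj g H0) = H0 := by ext u; rw [hmem, hmem]; simp [mul_assoc]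
      rw [h2] at h1; exact h1
    · simp
    · simp
  have hk : 2 ≤ Nat.card ι := by
    by_contra hlt
    have : Nonempty ι := ⟨⟨cj 1 H0, 1, rfl⟩⟩
    have : 0 < Nat.card ι := Nat.card_pos
    have hs : Subsingleton ι := Finite.card_le_one_iff_subsingleton.mp (by omega)
    have hn : H0.Normal := ⟨fun u hu g => by
      have h1 : g * u * g⁻¹ ∈ cj g H0 := (hmem _ _ _).mpr (by simpa [mul_assoc] using hu)
      have e : cj g H0 = cj 1 H0 := congrArg Subtype.val (hs.elim (⟨cj g H0, g, rfl⟩ : ι) ⟨cj 1 H0, 1, rfl⟩)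
      rw [e, hmem] at h1
      simpa using h1⟩
    exact hH0W (fixW_eq_bot hirr hn (fun h => by rw [h, Subgroup.card_bot] at hH01; omega))
  refine imprim_bound hfp hE W hk hY hperm hspan ?_
  have := Fintype.ofFinite ι
  let f : (∀ H : ι, W H) →+ V :=
    { toFun := fun v => ∑ H, (v H : V)
      map_zero' := by simp
      map_add' := fun a b => by simp [Finset.sum_add_distrib] }
  have hinj : Function.Injective f := by
    rw [injective_iff_map_eq_zero]
    intro v hv
    funext H'
    have := Fintype.ofFinite H'.1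
    have h0 : ∑ h : H'.1, (h : L) • (∑ H, (v H : V)) = 0 := by
      rw [show ∑ H, (v H : V) = 0 from hv]; simp
    simp only [Finset.smul_sum] at h0
    rw [Finset.sum_comm, Finset.sum_eq_single H'] at h0
    · rw [Finset.sum_congr rfl (fun (h : H'.1) _ => (v H').2 (h : L) h.2), Finset.sum_const, Finset.card_univ,
        ← Nat.card_eq_fintype_card] at h0
      obtain ⟨k, hk⟩ := (IsPGroup.iff_card (p := r) (G := H'.1)).mp (fun x => ⟨1, Subtype.ext (by
        obtain ⟨g, hg⟩ := H'.2
        have hx := x.2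
        have e : ∀ u : L, u ∈ H'.1 ↔ u ∈ cj g H0 := fun u => by rw [hg]
        have := hcjA g ((e _).mp hx)
        simpa using hel _ this)⟩)
      rw [hk] at h0
      exact Subtype.ext (card_nsmul_cancel hrV k _ h0)
    · intro H _ hne'
      by_contra hz
      obtain ⟨g, hg⟩ := H.2
      obtain ⟨g', hg'⟩ := H'.2
      have hA1 : H.1 ≤ A := hg ▸ hcjA g
      have hA2 : H'.1 ≤ A := hg' ▸ hcjA g'
      have hbig : fixW V (H.1 ⊔ H'.1) ≠ ⊥ := by
        intro hb
        apply hz
        rw [← AddSubgroup.mem_bot, ← hb]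
        have hle : H.1 ⊔ H'.1 ≤ stabilizer L (∑ h : H'.1, (h : L) • (v H : V)) := by
          refine sup_le (fun u hu => ?_) (fun u hu => sum_subgroup_fixed H'.1 _ u hu)
          show u • _ = _
          rw [Finset.smul_sum]
          refine Finset.sum_congr rfl fun h _ => ?_
          rw [smul_smul, hab u (hA1 hu) h (hA2 h.2), mul_smul, (v H).2 u hu]
        exact fun u hu => hle hu
      have hc0 : Nat.card H.1 = Nat.card H0 := hg ▸ hcjc g
      have := hmax ⟨sup_le hA1 hA2, hbig⟩ (by
        simp only; rw [← hc0]; exact Subgroup.card_le_of_le le_sup_left)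
      simp only at this
      have e : H.1 = H.1 ⊔ H'.1 := Subgroup.eq_of_le_of_card_ge le_sup_left (by omega)
      have hle : H'.1 ≤ H.1 := e ▸ le_sup_right
      have hc0' : Nat.card H'.1 = Nat.card H0 := hg' ▸ hcjc g'
      exact hne' (Subtype.ext (Subgroup.eq_of_le_of_card_ge hle (by omega)).symm)
    · exact fun h => absurd (Finset.mem_univ H') h
  have hle := Nat.card_le_card_of_injective f hinj
  rw [Nat.card_pi] at hle
  simp only [hY, Finset.prod_const, Finset.card_univ, ← Nat.card_eq_fintype_card] at hle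
  exact hle

/-- An abelian normal `r`-subgroup gives the bound or is fixed-point-free with at most `r`
solutions of `a ^ r = 1`. -/
lemma abelian_cases [FaithfulSMul L V] (hfp : FpfOutside E V) (hE : E ≠ ⊥) (hirr : Irr L V) {r : ℕ}
    [hr : Fact r.Prime] (hrV : ∀ v : V, r • v = 0 → v = 0) (A : Subgroup L) (hA : A.Normal)
    (hAr : IsPGroup r A) (hab : ∀ a ∈ A, ∀ b ∈ A, a * b = b * a) :
    (E.index + 1) ^ 2 ≤ Nat.card V ∨
      (SemiReg A V ∧ Nat.card {a : A // a ^ r = 1} ≤ r) := by
  let Ω : Subgroup L :=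
    { carrier := {a | a ∈ A ∧ a ^ r = 1}
      one_mem' := ⟨one_mem A, one_pow r⟩
      mul_mem' := fun {a b} ha hb => ⟨mul_mem ha.1 hb.1, by
        rw [Commute.mul_pow (hab a ha.1 b hb.1), ha.2, hb.2, one_mul]⟩
      inv_mem' := fun {a} ha => ⟨inv_mem ha.1, by rw [inv_pow, ha.2, inv_one]⟩ }
  have hΩ : Ω.Normal := ⟨fun a ha g => ⟨hA.conj_mem a ha.1 g, by rw [conj_pow, ha.2]; group⟩⟩
  have hc : Nat.card {a : A // a ^ r = 1} = Nat.card Ω := Nat.card_congr
    { toFun := fun a => ⟨a.1.1, a.1.2, by simpa using congrArg Subtype.val a.2⟩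
      invFun := fun a => ⟨⟨a.1, a.2.1⟩, Subtype.ext (by simpa using a.2.2)⟩
      left_inv := fun a => rfl
      right_inv := fun a => rfl }
  by_cases hbig : r < Nat.card Ω
  · exact Or.inl (elem_bound hfp hE hirr hrV Ω hΩ (fun a ha => ha.2) (fun a ha b hb => hab a ha.1 b hb.1) hbig)
  refine Or.inr ⟨fun a ha ha1 v hv => ?_, by omega⟩
  obtain ⟨k, hk⟩ := hAr ⟨a, ha⟩
  obtain ⟨m, hm⟩ := (Nat.dvd_prime_pow hr.out).mp (orderOf_dvd_of_pow_eq_one hk)
  have hord : orderOf a = r ^ m := by rw [← Subgroup.orderOf_mk a ha]; exact hm.2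
  have hm0 : m ≠ 0 := fun h => ha1 (orderOf_eq_one_iff.mp (by rw [hord, h, pow_zero]))
  set b := a ^ r ^ (m - 1) with hbdef
  have hbr : b ^ r = 1 := by
    rw [hbdef, ← pow_mul, ← pow_succ, Nat.sub_add_cancel (by omega : 1 ≤ m), ← hord, pow_orderOf_eq_one]
  have hb1 : b ≠ 1 := fun h => by
    have := Nat.le_of_dvd (pow_pos hr.out.pos _) (orderOf_dvd_of_pow_eq_one h)
    rw [hord] at this
    exact absurd this (not_le.mpr (Nat.pow_lt_pow_right hr.out.one_lt (by omega)))
  have hbΩ : b ∈ Ω := ⟨pow_mem ha _, hbr⟩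
  have hzp : Subgroup.zpowers b = Ω := by
    refine Subgroup.eq_of_le_of_card_ge (Subgroup.zpowers_le.mpr hbΩ) ?_
    rw [Nat.card_zpowers, orderOf_eq_prime hbr hb1]; omega
  have hbv : v ∈ fixW V Ω := by
    intro u hu
    rw [← hzp] at hu
    obtain ⟨j, rfl⟩ := Subgroup.mem_zpowers_iff.mp hu
    exact (stabilizer L v).zpow_mem ((stabilizer L v).pow_mem hv _) j
  rw [fixW_eq_bot hirr hΩ (fun h => hb1 (by rw [h] at hbΩ; exact hbΩ))] at hbv
  exact hbv

/-- An abelian `r`-group with at most `r` solutions of `a ^ r = 1` is cyclic. -/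
lemma cyclic_of_omega {r : ℕ} [hr : Fact r.Prime] (A : Subgroup L) (hAr : IsPGroup r A)
    (hab : ∀ a ∈ A, ∀ b ∈ A, a * b = b * a) (h : Nat.card {a : A // a ^ r = 1} ≤ r) : IsCyclic A := by
  letI : CommGroup A := { A.toGroup with mul_comm := fun a b => Subtype.ext (hab a a.2 b b.2) }
  have hker : ∀ k, Nat.card (powMonoidHom (α := A) (r ^ k)).ker ≤ r ^ k := by
    intro k
    induction k with
    | zero =>
      rw [pow_zero, Finite.card_le_one_iff_subsingleton]
      exact ⟨fun a b => Subtype.ext ((show (a : A) ^ 1 = 1 from a.2).trans (show (b : A) ^ 1 = 1 from b.2).symm |> fun e => by simpa using e)⟩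
    | succ k ih =>
      set K := (powMonoidHom (α := A) (r ^ (k + 1))).ker
      let f : K →* A := (powMonoidHom r).comp K.subtype
      rw [Subgroup.card_eq_card_quotient_mul_card_subgroup f.ker,
        Nat.card_congr (QuotientGroup.quotientKerEquivRange f).toEquiv, pow_succ]
      refine Nat.mul_le_mul (le_trans ?_ ih) (le_trans ?_ h)
      · refine Subgroup.card_le_of_le ?_
        rintro _ ⟨x, rfl⟩
        show ((x : A) ^ r) ^ r ^ k = 1
        rw [← pow_mul, mul_comm, ← pow_succ]
        exact x.2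
      · exact Nat.card_le_card_of_injective (fun x => (⟨(x.1 : A), x.2⟩ : {a : A // a ^ r = 1}))
          (fun x y e => Subtype.ext (Subtype.ext (congrArg (fun z => z.1) e)))
  rw [IsCyclic.iff_exponent_eq_card]
  refine Nat.dvd_antisymm Group.exponent_dvd_nat_card ?_
  obtain ⟨n, hn⟩ := IsPGroup.iff_card.mp hAr
  obtain ⟨e, he, hee⟩ := (Nat.dvd_prime_pow hr.out).mp (hn ▸ Group.exponent_dvd_nat_card (G := A))
  have htop : (powMonoidHom (α := A) (r ^ e)).ker = ⊤ := by
    ext a; simp only [MonoidHom.mem_ker, powMonoidHom_apply, Subgroup.mem_top, iff_true]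
    rw [← hee]; exact Monoid.pow_exponent_eq_one a
  have h1 := hker e
  rw [htop, Subgroup.card_top, hn] at h1
  rw [hn, hee]
  exact Nat.pow_dvd_pow r ((Nat.pow_le_pow_iff_right hr.out.one_lt).mp h1)

end Cfsg.Agent.DerIdx59
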