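import Mathlib

/-! Numerical inequalities for the index of the derangement subgroup. -/

set_option autoImplicit false

namespace Cfsg.Agent.DerIdx59

open Finset

lemma sq_le_of_dvd {q s t : ℕ} (hs : 2 ≤ s) (ht : 2 ≤ t) (h1 : q ∣ s - 1) (h2 : q ∣ s * t - 1) :
    (q + 1) ^ 2 ≤ s * t := by
  have h3 : s * t - 1 = (s - 1) * t + (t - 1) := by
    obtain ⟨s', rfl⟩ : ∃ s', s = s' + 1 := ⟨s - 1, by omega⟩
    rw [Nat.add_sub_cancel, add_mul, one_mul]; omega
  rw [h3] at h2
  have h4 := (Nat.dvd_add_right (Dvd.dvd.mul_right h1 t)).mp h2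
  have l1 := Nat.le_of_dvd (by omega) h1
  have l2 := Nat.le_of_dvd (by omega) h4
  rw [sq]
  exact Nat.mul_le_mul (by omega) (by omega)

lemma bernoulli_half (d k : ℕ) (hk : 2 ≤ k) : (k * d + 2) ^ 2 ≤ 4 * (d + 1) ^ k := by
  induction k, hk using Nat.le_induction with
  | base => exact le_of_eq (by ring)
  | succ k hk ih =>
    rcases Nat.eq_zero_or_pos d with rfl | hd
    · simp
    have h2 : 2 * d ≤ k * d := Nat.mul_le_mul_right d hk
    have h3 : d * d ≤ d * ((k * d + 2) * (k * d)) :=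
      Nat.mul_le_mul_left d (le_trans (by omega) (Nat.le_mul_of_pos_left _ (by omega)))
    calc ((k + 1) * d + 2) ^ 2 ≤ (k * d + 2) ^ 2 * (d + 1) := by nlinarith [h3]
      _ ≤ 4 * (d + 1) ^ k * (d + 1) := by gcongr
      _ = 4 * (d + 1) ^ (k + 1) := by ring

lemma imprim_arith {q Y k n : ℕ} (hk : 2 ≤ k) (hY : 1 ≤ Y) (h : q * 2 ≤ k * (Y - 1))
    (hn : Y ^ k ≤ n) : (q + 1) ^ 2 ≤ n := by
  have h2 := bernoulli_half (Y - 1) k hk
  rw [Nat.sub_add_cancel hY] at h2
  nlinarith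

/-- Half powers. -/
lemma two_sided_arith {q Q r n : ℕ} (hr : 2 ≤ r) (hQ : 1 ≤ Q) (h : q + 1 ≤ Q) (hn : Q ^ r ≤ n) :
    (q + 1) ^ 2 ≤ n :=
  le_trans (le_trans (Nat.pow_le_pow_left h 2) (Nat.pow_le_pow_right hQ hr)) hn

/-- Number of maximal totally isotropic subspaces, general type. -/
def isoI (r u : ℕ) : ℕ := ∏ j ∈ range u, (r ^ (u - j) + 1)

/-- Number of maximal totally singular subspaces, plus type. -/
def isoP (u : ℕ) : ℕ := ∏ j ∈ range u, (2 ^ (u - j - 1) + 1)

/-- Number of maximal totally singular subspaces, minus type. -/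
def isoM (u : ℕ) : ℕ := ∏ j ∈ range u, (2 ^ (u - j + 1) + 1)

lemma isoI_succ (r u : ℕ) : isoI r (u + 1) = isoI r u * (r ^ (u + 1) + 1) := by
  rw [isoI, prod_range_succ']; congr 1
  exact prod_congr rfl fun j _ => by rw [Nat.add_sub_add_right]

lemma isoP_succ (u : ℕ) : isoP (u + 1) = isoP u * (2 ^ u + 1) := by
  rw [isoP, prod_range_succ']; congr 1
  exact prod_congr rfl fun j _ => by rw [Nat.add_sub_add_right]

lemma isoM_succ (u : ℕ) : isoM (u + 1) = isoM u * (2 ^ (u + 2) + 1) := by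
  rw [isoM, prod_range_succ']; congr 1
  exact prod_congr rfl fun j _ => by rw [Nat.add_sub_add_right]

lemma isoI_one (r : ℕ) : isoI r 1 = r + 1 := by simp [isoI]
lemma isoP_one : isoP 1 = 2 := by simp [isoP]
lemma isoM_one : isoM 1 = 5 := by simp [isoM]

lemma le_isoI {r : ℕ} : ∀ u, 1 ≤ u → r ≤ isoI r u := by
  intro u hu
  induction u, hu using Nat.le_induction with
  | base => rw [isoI_one]; omega
  | succ u hu ih =>
    rw [isoI_succ]
    exact le_trans ih (Nat.le_mul_of_pos_right _ (by omega))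

lemma odd_arith {q r u a Q n : ℕ} (hr : 3 ≤ r) (hu : 1 ≤ u) (har : r ≤ a) (haQ : a + 1 ≤ Q)
    (h : q * a ≤ isoI r u * (Q - 1)) (hn : Q ^ (r ^ u) ≤ n) : (q + 1) ^ 2 ≤ n := by
  have key : ∀ v, 1 ≤ v → isoI r v ^ 2 ≤ r ^ 2 * (r + 1) ^ (r ^ v - 2) := by
    intro v hv
    induction v, hv using Nat.le_induction with
    | base =>
      rw [isoI_one, pow_one]
      have : r + 1 ≤ (r + 1) ^ (r - 2) := Nat.le_self_pow (by omega) _
      nlinarith
    | succ v hv ih =>
      rw [isoI_succ, mul_pow]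
      have hrv : 3 ≤ r ^ v := le_trans hr (Nat.le_self_pow (by omega) _)
      have h2 : 2 * (v + 1) ≤ r ^ v * (r - 1) := by
        have : v + 1 ≤ r ^ v := by
          have := @Nat.lt_pow_self v r (by omega)
          omega
        calc 2 * (v + 1) ≤ 2 * r ^ v := by omega
          _ ≤ r ^ v * (r - 1) := by rw [mul_comm]; exact Nat.mul_le_mul_left _ (by omega)
      have he : r ^ (v + 1) - 2 = r ^ v - 2 + r ^ v * (r - 1) := by
        rw [pow_succ, Nat.mul_sub, mul_one]
        have : r ^ v ≤ r ^ v * r := Nat.le_mul_of_pos_right _ (by omega)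
        omega
      rw [he, pow_add (r + 1), ← mul_assoc]
      refine Nat.mul_le_mul ih (le_trans ?_ (Nat.pow_le_pow_right (by omega) h2))
      rw [mul_comm 2, pow_mul]
      refine Nat.pow_le_pow_left ?_ 2
      have h5 : r ^ (v + 1) < (r + 1) ^ (v + 1) := Nat.pow_lt_pow_left (by omega) (by omega)
      omega
  have hI := le_isoI (r := r) u hu
  have h1 : (q + 1) * r ≤ isoI r u * Q := by
    obtain ⟨Q', rfl⟩ : ∃ Q', Q = Q' + 1 := ⟨Q - 1, by omega⟩
    rw [Nat.add_sub_cancel] at h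
    nlinarith [Nat.mul_le_mul_left q har]
  have h2 : r ^ 2 * (q + 1) ^ 2 ≤ r ^ 2 * Q ^ (r ^ u) := by
    have hru : 2 ≤ r ^ u := le_trans (by omega) (Nat.le_self_pow (by omega) _)
    calc r ^ 2 * (q + 1) ^ 2 = ((q + 1) * r) ^ 2 := by ring
      _ ≤ (isoI r u * Q) ^ 2 := Nat.pow_le_pow_left h1 2
      _ = isoI r u ^ 2 * Q ^ 2 := by ring
      _ ≤ r ^ 2 * (r + 1) ^ (r ^ u - 2) * Q ^ 2 := Nat.mul_le_mul_right _ (key u hu)
      _ ≤ r ^ 2 * Q ^ (r ^ u - 2) * Q ^ 2 := by
          gcongr; omega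
      _ = r ^ 2 * Q ^ (r ^ u) := by rw [mul_assoc, ← pow_add, Nat.sub_add_cancel hru]
  exact le_trans (Nat.le_of_mul_le_mul_left h2 (by positivity)) hn

/-- The even case: the common conclusion. -/
lemma even_core {c b q Q u n : ℕ} (P : ℕ → ℕ) (hu : 2 ≤ u) (hc : 0 < c) (hQ : 1 ≤ Q) (hbQ : b ≤ Q)
    (hcP : c ≤ P u) (hb : P u ≤ c * b ^ (2 ^ (u - 1) - 1))
    (h : q * c ≤ P u * (Q - 1)) (hn : Q ^ (2 ^ u) ≤ n) : (q + 1) ^ 2 ≤ n := by
  have h1 : (q + 1) * c ≤ P u * Q := by
    obtain ⟨Q', rfl⟩ : ∃ Q', Q = Q' + 1 := ⟨Q - 1, by omega⟩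
    rw [Nat.add_sub_cancel] at h
    nlinarith
  have h2 : c * (q + 1) ≤ c * Q ^ (2 ^ (u - 1)) := by
    have hh : 1 ≤ 2 ^ (u - 1) := Nat.one_le_two_pow
    calc c * (q + 1) = (q + 1) * c := by ring
      _ ≤ P u * Q := h1
      _ ≤ c * b ^ (2 ^ (u - 1) - 1) * Q := Nat.mul_le_mul_right _ hb
      _ ≤ c * Q ^ (2 ^ (u - 1) - 1) * Q := by gcongr
      _ = c * Q ^ (2 ^ (u - 1)) := by rw [mul_assoc, ← pow_succ, Nat.sub_add_cancel hh]
  have h3 := Nat.pow_le_pow_left (Nat.le_of_mul_le_mul_left h2 hc) 2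
  refine le_trans h3 (le_trans (le_of_eq ?_) hn)
  rw [← pow_mul, ← pow_succ, Nat.sub_add_cancel (by omega : 1 ≤ u)]

lemma small_even {q c B Q u n : ℕ} (hu : u = 1) (hc : 0 < c) (hB : B ≤ c)
    (h : q * c ≤ B * (Q - 1)) (hQ : 1 ≤ Q) (hn : Q ^ (2 ^ u) ≤ n) : (q + 1) ^ 2 ≤ n := by
  subst hu
  have : q ≤ Q - 1 := Nat.le_of_mul_le_mul_left (by
    calc c * q = q * c := by ring
      _ ≤ B * (Q - 1) := h
      _ ≤ c * (Q - 1) := Nat.mul_le_mul_right _ hB) hc
  exact two_sided_arith le_rfl hQ (by omega) hn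

lemma two_general_arith {q u a Q n : ℕ} (hu : 1 ≤ u) (har : 4 ≤ a) (haQ : a + 1 ≤ Q)
    (h : q * a ≤ isoI 2 u * (Q - 1)) (hn : Q ^ (2 ^ u) ≤ n) : (q + 1) ^ 2 ≤ n := by
  have h' : q * 4 ≤ isoI 2 u * (Q - 1) := le_trans (Nat.mul_le_mul_left q har) h
  rcases (show u = 1 ∨ u = 2 ∨ 3 ≤ u by omega) with rfl | rfl | h3
  · exact small_even rfl (by norm_num) (by simp [isoI_one]) h' (by omega) hn
  · have e : isoI 2 2 = 15 := by rw [isoI_succ, isoI_one]; norm_num
    rw [e] at h'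
    refine le_trans (Nat.pow_le_pow_left (show q + 1 ≤ Q ^ 2 from ?_) 2) (le_trans (le_of_eq ?_) hn)
    · obtain ⟨Q', rfl⟩ : ∃ Q', Q = Q' + 5 := ⟨Q - 5, by omega⟩
      rw [show Q' + 5 - 1 = Q' + 4 by omega] at h'
      nlinarith
    · ring
  · have key : ∀ v, 3 ≤ v → isoI 2 v ≤ 4 * 5 ^ (2 ^ (v - 1) - 1) := by
      intro v hv
      induction v, hv using Nat.le_induction with
      | base => rw [isoI_succ, isoI_succ, isoI_one]; norm_num
      | succ v hv ih =>
        rw [isoI_succ]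
        have he : 2 ^ (v + 1 - 1) - 1 = 2 ^ (v - 1) - 1 + 2 ^ (v - 1) := by
          have : 2 ^ v = 2 * 2 ^ (v - 1) := by rw [← pow_succ', Nat.sub_add_cancel (by omega)]
          have := @Nat.one_le_two_pow (v - 1)
          simp only [Nat.add_sub_cancel]; omega
        rw [he, pow_add (5 : ℕ), ← mul_assoc]
        refine Nat.mul_le_mul ih ?_
        have h5 : v ≤ 2 ^ (v - 1) := by
          have := @Nat.lt_two_pow_self (v - 1); omega
        refine le_trans ?_ (Nat.pow_le_pow_right (by norm_num) h5)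
        have : 2 * 2 ^ v < 5 ^ v := by
          calc 2 * 2 ^ v = 2 ^ (v + 1) := by ring
            _ < 4 ^ v := by
              rw [show (4:ℕ) = 2 ^ 2 by norm_num, ← pow_mul]
              exact Nat.pow_lt_pow_right (by norm_num) (by omega)
            _ ≤ 5 ^ v := Nat.pow_le_pow_left (by norm_num) _
        rw [pow_succ]; omega
    refine even_core (b := 5) (isoI 2) (by omega) (by norm_num) (by omega) (by omega) ?_ (key u h3) h' hn
    calc 4 ≤ isoI 2 2 := by rw [isoI_succ, isoI_one]; norm_num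
      _ ≤ isoI 2 u := by
        clear h hn h' key
        induction u, h3 using Nat.le_induction with
        | base => rw [isoI_succ 2 2]; exact Nat.le_mul_of_pos_right _ (by positivity)
        | succ v hv ih => rw [isoI_succ 2 v]; exact le_trans (ih (by omega)) (Nat.le_mul_of_pos_right _ (by positivity))

lemma plus_arith {q u Q n : ℕ} (hu : 1 ≤ u) (haQ : 3 ≤ Q)
    (h : q * 2 ≤ isoP u * (Q - 1)) (hn : Q ^ (2 ^ u) ≤ n) : (q + 1) ^ 2 ≤ n := by
  rcases (show u = 1 ∨ u = 2 ∨ 3 ≤ u by omega) with rfl | rfl | h3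
  · exact small_even rfl (by norm_num) (by simp [isoP_one]) h (by omega) hn
  · have e : isoP 2 = 6 := by rw [isoP_succ, isoP_one]; norm_num
    rw [e] at h
    refine le_trans (Nat.pow_le_pow_left (show q + 1 ≤ Q ^ 2 from ?_) 2) (le_trans (le_of_eq ?_) hn)
    · obtain ⟨Q', rfl⟩ : ∃ Q', Q = Q' + 3 := ⟨Q - 3, by omega⟩
      rw [show Q' + 3 - 1 = Q' + 2 by omega] at h
      nlinarith
    · ring
  · have key : ∀ v, 3 ≤ v → isoP v ≤ 2 * 3 ^ (2 ^ (v - 1) - 1) := by
      intro v hv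
      induction v, hv using Nat.le_induction with
      | base => rw [isoP_succ, isoP_succ, isoP_one]; norm_num
      | succ v hv ih =>
        rw [isoP_succ]
        have he : 2 ^ (v + 1 - 1) - 1 = 2 ^ (v - 1) - 1 + 2 ^ (v - 1) := by
          have : 2 ^ v = 2 * 2 ^ (v - 1) := by rw [← pow_succ', Nat.sub_add_cancel (by omega)]
          have := @Nat.one_le_two_pow (v - 1)
          simp only [Nat.add_sub_cancel]; omega
        rw [he, pow_add (3 : ℕ), ← mul_assoc]
        refine Nat.mul_le_mul ih ?_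
        have h5 : v ≤ 2 ^ (v - 1) := by
          have := @Nat.lt_two_pow_self (v - 1); omega
        refine le_trans ?_ (Nat.pow_le_pow_right (by norm_num) h5)
        exact Nat.pow_lt_pow_left (by norm_num) (by omega)
    refine even_core (b := 3) isoP (by omega) (by norm_num) (by omega) (by omega) ?_ (key u h3) h hn
    clear h hn key
    induction u, h3 using Nat.le_induction with
    | base => rw [isoP_succ, isoP_succ, isoP_one]; norm_num
    | succ v hv ih => rw [isoP_succ]; exact le_trans (ih (by omega)) (Nat.le_mul_of_pos_right _ (by positivity))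

lemma minus_arith {q u Q n : ℕ} (hu : 1 ≤ u) (haQ : 9 ≤ Q)
    (h : q * 8 ≤ isoM u * (Q - 1)) (hn : Q ^ (2 ^ u) ≤ n) : (q + 1) ^ 2 ≤ n := by
  rcases (show u = 1 ∨ 2 ≤ u by omega) with rfl | h3
  · exact small_even rfl (by norm_num) (by simp [isoM_one]) h (by omega) hn
  · have key : ∀ v, 2 ≤ v → isoM v ≤ 8 * 9 ^ (2 ^ (v - 1) - 1) := by
      intro v hv
      induction v, hv using Nat.le_induction with
      | base => rw [isoM_succ, isoM_one]; norm_num
      | succ v hv ih =>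
        rw [isoM_succ]
        have he : 2 ^ (v + 1 - 1) - 1 = 2 ^ (v - 1) - 1 + 2 ^ (v - 1) := by
          have : 2 ^ v = 2 * 2 ^ (v - 1) := by rw [← pow_succ', Nat.sub_add_cancel (by omega)]
          have := @Nat.one_le_two_pow (v - 1)
          simp only [Nat.add_sub_cancel]; omega
        rw [he, pow_add (9 : ℕ), ← mul_assoc]
        refine Nat.mul_le_mul ih ?_
        have h5 : v ≤ 2 ^ (v - 1) := by
          have := @Nat.lt_two_pow_self (v - 1); omega
        refine le_trans ?_ (Nat.pow_le_pow_right (by norm_num) h5)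
        have : 4 * 2 ^ v < 9 ^ v := by
          calc 4 * 2 ^ v = 2 ^ (v + 2) := by ring
            _ < 8 ^ v := by
              rw [show (8:ℕ) = 2 ^ 3 by norm_num, ← pow_mul]
              exact Nat.pow_lt_pow_right (by norm_num) (by omega)
            _ ≤ 9 ^ v := Nat.pow_le_pow_left (by norm_num) _
        rw [pow_add]; omega
    refine even_core (b := 9) isoM (by omega) (by norm_num) (by omega) (by omega) ?_ (key u h3) h hn
    clear h hn key
    induction u, h3 using Nat.le_induction with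
    | base => rw [isoM_succ, isoM_one]; norm_num
    | succ v hv ih => rw [isoM_succ]; exact le_trans (ih (by omega)) (Nat.le_mul_of_pos_right _ (by positivity))

end Cfsg.Agent.DerIdx59
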