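import Cfsg.Agent.DerIdx59.Arith
import Cfsg.Agent.RecogB.Derangement

/-! Linear groups in which all elements outside a normal subgroup are fixed-point-free. -/

set_option autoImplicit false
set_option linter.unusedSectionVars false

namespace Cfsg.Agent.DerIdx59

open MulAction
open scoped Pointwise

variable {L V : Type*} [Group L] [Finite L] [AddCommGroup V] [Finite V] [DistribMulAction L V]

/-- Elements outside `E` fix no nonzero vector. -/
def FpfOutside (E : Subgroup L) (V : Type*) [AddCommGroup V] [DistribMulAction L V] : Prop :=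
  ∀ g : L, g ∉ E → ∀ v : V, g • v = v → v = 0

/-- No invariant subgroup other than the trivial ones. -/
def Irr (L V : Type*) [Group L] [AddCommGroup V] [DistribMulAction L V] : Prop :=
  ∀ W : AddSubgroup V, (∀ g : L, ∀ w ∈ W, g • w ∈ W) → W = ⊥ ∨ W = ⊤

/-- Nontrivial elements fix no nonzero vector. -/
def SemiReg (A : Subgroup L) (V : Type*) [AddCommGroup V] [DistribMulAction L V] : Prop :=
  ∀ a ∈ A, a ≠ 1 → ∀ v : V, a • v = v → v = 0

variable (V) in
/-- Vectors fixed by a subgroup. -/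
def fixW (U : Subgroup L) : AddSubgroup V where
  carrier := {v | ∀ u ∈ U, u • v = v}
  zero_mem' := fun u _ => smul_zero u
  add_mem' := fun {a b} ha hb u hu => by rw [smul_add, ha u hu, hb u hu]
  neg_mem' := fun {a} ha u hu => by rw [smul_neg, ha u hu]

lemma mem_fixW {U : Subgroup L} {v : V} : v ∈ fixW V U ↔ ∀ u ∈ U, u • v = v := Iff.rfl

lemma fixW_inv {U : Subgroup L} {g : L} (hg : ∀ u ∈ U, g⁻¹ * u * g ∈ U) {v : V}
    (hv : v ∈ fixW V U) : g • v ∈ fixW V U := by
  intro u hu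
  have h := hv _ (hg u hu)
  rw [mul_smul, mul_smul, inv_smul_eq_iff] at h
  exact h

lemma fixW_normal {U : Subgroup L} (hU : U.Normal) (g : L) {v : V} (hv : v ∈ fixW V U) :
    g • v ∈ fixW V U :=
  fixW_inv (fun u hu => by have := hU.conj_mem u hu g⁻¹; simpa using this) hv

lemma fixW_eq_bot (hirr : Irr L V) [FaithfulSMul L V] {U : Subgroup L} (hU : U.Normal) (hne : U ≠ ⊥) :
    fixW V U = ⊥ := by
  rcases hirr (fixW V U) (fun g w hw => fixW_normal hU g hw) with h | h
  · exact h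
  · exact absurd (Subgroup.eq_bot_iff_forall _ |>.2 fun u hu => FaithfulSMul.eq_of_smul_eq_smul fun v : V => by
      rw [one_smul]; exact (h.ge (AddSubgroup.mem_top v) : v ∈ fixW V U) u hu) hne

lemma index_mul_orbit {E : Subgroup L} {v : V} (hfp : FpfOutside E V) (hv : v ≠ 0) :
    E.index * Nat.card (orbit E v) = Nat.card (orbit L v) := by
  have hle : stabilizer L v ≤ E := fun g hg => by
    by_contra h; exact hv (hfp g h v hg)
  have hs : (stabilizer L v).subgroupOf E = stabilizer E v := by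
    ext x; simp [Subgroup.mem_subgroupOf, mem_stabilizer_iff, Subgroup.smul_def]
  rw [Nat.card_coe_set_eq, Nat.card_coe_set_eq, ← index_stabilizer, ← index_stabilizer, ← hs, mul_comm]
  exact Subgroup.relIndex_mul_index hle

lemma key {E : Subgroup L} (hfp : FpfOutside E V) {v : V} (hv : v ≠ 0) {T : Set V} {m : ℕ}
    (hT : ∀ g : L, g • v ∈ T) (hm : m ≤ Nat.card (orbit E v)) : E.index * m ≤ T.ncard := by
  refine le_trans (Nat.mul_le_mul_left _ hm) ?_
  rw [index_mul_orbit hfp hv, Nat.card_coe_set_eq]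
  refine Set.ncard_le_ncard ?_ (Set.toFinite _)
  rintro _ ⟨g, rfl⟩
  exact hT g

lemma card_orbit_mul (C : Subgroup L) (v : V) :
    Nat.card (orbit C v) * Nat.card (C ⊓ stabilizer L v : Subgroup L) = Nat.card C := by
  have hs : (stabilizer L v).subgroupOf C = stabilizer C v := by
    ext x; simp [Subgroup.mem_subgroupOf, mem_stabilizer_iff, Subgroup.smul_def]
  rw [Nat.card_coe_set_eq, ← index_stabilizer, ← hs, mul_comm, inf_comm,
    ← Subgroup.inf_subgroupOf_right, Nat.card_congr (Subgroup.subgroupOfEquivOfLe (inf_le_right : stabilizer L v ⊓ C ≤ C)).toEquiv.symm]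
  exact Subgroup.card_mul_index _

lemma card_orbit_mono {C E : Subgroup L} (h : C ≤ E) (v : V) :
    Nat.card (orbit C v) ≤ Nat.card (orbit E v) := by
  rw [Nat.card_coe_set_eq, Nat.card_coe_set_eq]
  refine Set.ncard_le_ncard ?_ (Set.toFinite _)
  rintro _ ⟨c, rfl⟩
  exact ⟨⟨c, h c.2⟩, rfl⟩

lemma card_le_orbit_of_semiReg {A : Subgroup L} (hA : SemiReg A V) {v : V} (hv : v ≠ 0) :
    Nat.card (orbit A v) = Nat.card A := by
  have h : A ⊓ stabilizer L v = ⊥ := by
    rw [Subgroup.eq_bot_iff_forall]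
    rintro a ⟨ha, hav⟩
    by_contra hne
    exact hv (hA a ha hne v hav)
  have := card_orbit_mul A v
  rwa [h, Subgroup.card_bot, mul_one] at this

lemma index_dvd_ncard {E : Subgroup L} [E.Normal] (hfp : FpfOutside E V) {H : Subgroup L}
    (hH : E ⊔ H = ⊤) {W : AddSubgroup V} (hW : ∀ h ∈ H, ∀ w ∈ W, h • w ∈ W) :
    E.index ∣ Nat.card W - 1 := by
  have h1 : Nat.card W - 1 = Nat.card ((W : Set V) \ {0} : Set V) := by
    rw [Nat.card_coe_set_eq, Set.ncard_sdiff_singleton_of_mem (W.zero_mem), ← Nat.card_coe_set_eq]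
    rfl
  rw [h1]
  refine RecogB.dvd_card_of_invariant (H := H) _ (fun x hx h => ⟨hW h h.2 x hx.1, fun e => hx.2 ?_⟩)
    (fun x hx => ?_)
  · exact (smul_eq_zero_iff_eq (h : L)).mp e
  · have hle : stabilizer H x ≤ E.subgroupOf H := fun s hs => by
      rw [Subgroup.mem_subgroupOf]
      by_contra hn
      exact hx.2 (hfp (s : L) hn x hs)
    have he : (E.subgroupOf H).index = E.index := by
      show E.relIndex H = _
      rw [← Subgroup.relIndex_sup_right, sup_comm, hH, Subgroup.relIndex_top_right]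
    rw [← he, Nat.card_coe_set_eq, ← index_stabilizer]
    exact Subgroup.index_dvd_of_le hle

lemma index_dvd_card {E : Subgroup L} [E.Normal] (hfp : FpfOutside E V) :
    E.index ∣ Nat.card V - 1 := by
  have := index_dvd_ncard (H := ⊤) hfp (by simp) (W := (⊤ : AddSubgroup V)) (fun _ _ _ _ => trivial)
  rwa [Nat.card_congr (Equiv.subtypeUnivEquiv (α := V) (p := fun v => v ∈ (⊤ : AddSubgroup V)) (fun _ => trivial))] at this

lemma reducible_bound {E : Subgroup L} [E.Normal] (hfp : FpfOutside E V) {H : Subgroup L}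
    (hH : E ⊔ H = ⊤) {W : AddSubgroup V} (hW : ∀ h ∈ H, ∀ w ∈ W, h • w ∈ W)
    (h0 : W ≠ ⊥) (h1 : W ≠ ⊤) : (E.index + 1) ^ 2 ≤ Nat.card V := by
  have hs : 2 ≤ Nat.card W := W.one_lt_card_iff_ne_bot.mpr h0
  have ht : 2 ≤ W.index := by
    have a : W.index ≠ 1 := fun h => h1 (AddSubgroup.index_eq_one.mp h)
    have b : W.index ≠ 0 := AddSubgroup.index_ne_zero_of_finite
    omega
  rw [← W.card_mul_index]
  refine sq_le_of_dvd hs ht (index_dvd_ncard hfp hH hW) ?_
  rw [W.card_mul_index]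
  exact index_dvd_card hfp

/-- The imprimitive case. -/
lemma imprim_bound [FaithfulSMul L V] {E : Subgroup L} (hfp : FpfOutside E V) (hE : E ≠ ⊥)
    {ι : Type*} [Finite ι] (W : ι → AddSubgroup V) (hk : 2 ≤ Nat.card ι) {Y : ℕ}
    (hY : ∀ i, Nat.card (W i) = Y) (hperm : ∀ (g : L) i, ∃ j, ∀ w ∈ W i, g • w ∈ W j)
    (hspan : ⨆ i, W i = ⊤) (hn : Y ^ Nat.card ι ≤ Nat.card V) :
    (E.index + 1) ^ 2 ≤ Nat.card V := by
  let T : Set V := ⋃ i, ((W i : Set V) \ {0})
  have hY1 : 1 ≤ Y := by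
    obtain ⟨⟨i⟩⟩ : Nonempty (Nonempty ι) := ⟨(Nat.card_pos_iff.mp (by omega)).1⟩
    rw [← hY i]; exact Nat.card_pos
  have hT : T.ncard ≤ Nat.card ι * (Y - 1) := by
    have := Fintype.ofFinite ι
    refine le_trans (Set.ncard_iUnion_le_of_fintype _) ?_
    rw [Nat.card_eq_fintype_card, ← Finset.card_univ, ← smul_eq_mul, ← Finset.sum_const]
    refine Finset.sum_le_sum fun i _ => ?_
    rw [Set.ncard_sdiff_singleton_of_mem (W i).zero_mem, ← Nat.card_coe_set_eq]
    exact le_of_eq (congrArg (· - 1) (hY i))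
  have hinv : ∀ v ∈ T, ∀ g : L, g • v ∈ T := by
    intro v hv g
    simp only [T, Set.mem_iUnion] at hv ⊢
    obtain ⟨i, hi, hi0⟩ := hv
    obtain ⟨j, hj⟩ := hperm g i
    exact ⟨j, hj v hi, fun e => hi0 ((smul_eq_zero_iff_eq g).mp e)⟩
  obtain ⟨v, hvT, hv2⟩ : ∃ v ∈ T, 2 ≤ Nat.card (orbit E v) := by
    by_contra hcon
    push Not at hcon
    apply hE
    rw [Subgroup.eq_bot_iff_forall]
    intro e he
    refine FaithfulSMul.eq_of_smul_eq_smul fun v : V => ?_
    rw [one_smul]
    have : ⨆ i, W i ≤ fixW V (Subgroup.zpowers e) := by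
      refine iSup_le fun i w hw => ?_
      intro u hu
      by_cases hw0 : w = 0
      · rw [hw0, smul_zero]
      have h1 := hcon w (Set.mem_iUnion.mpr ⟨i, hw, hw0⟩)
      have : Subsingleton (orbit E w) := Finite.card_le_one_iff_subsingleton.mp (by omega)
      have := Subsingleton.elim (⟨u • w, ⟨⟨u, (Subgroup.zpowers_le.mpr he) hu⟩, rfl⟩⟩ : orbit E w)
        ⟨w, mem_orbit_self w⟩
      exact congrArg Subtype.val this
    rw [hspan] at this
    exact this (AddSubgroup.mem_top v) e (Subgroup.mem_zpowers e)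
  have hv0 : v ≠ 0 := by
    simp only [T, Set.mem_iUnion] at hvT
    obtain ⟨i, -, h⟩ := hvT
    exact h
  exact imprim_arith hk hY1 (le_trans (key hfp hv0 (hinv v hvT) hv2) hT) hn

/-- Translating by the powers of a commuting fixed-point-free element produces a fixed vector. -/
lemma exists_fix_translate {r : ℕ} [hr : Fact r.Prime] (hrV : ∀ v : V, r • v = 0 → v = 0)
    {W : AddSubgroup V} {v : V} (hv : v ∈ W) (hv0 : v ≠ 0) {y z : L} (hyz : Commute y z)
    (hy : y ^ r = 1) (hzr : z ^ r = 1) (hyW : ∀ w ∈ W, y • w ∈ W) (hzW : ∀ w ∈ W, z • w ∈ W)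
    (hzf : ∀ w ∈ W, z • w = w → w = 0) :
    ∃ (i : ℕ) (w : V), w ∈ W ∧ w ≠ 0 ∧ (y * z ^ i) • w = w := by
  have hWpow : ∀ (g : L), (∀ w ∈ W, g • w ∈ W) → ∀ (n : ℕ), ∀ w ∈ W, g ^ n • w ∈ W := by
    intro g hg n
    induction n with
    | zero => simp
    | succ n ih => intro w hw; rw [pow_succ, mul_smul]; exact ih _ (hg w hw)
  have hyzW : ∀ i : ℕ, ∀ w ∈ W, (y * z ^ i) • w ∈ W := fun i w hw => by
    rw [mul_smul]; exact hyW _ (hWpow z hzW i w hw)
  have hsum : ∀ (g : L), g ^ r = 1 → ∀ u : V, g • (∑ j ∈ Finset.range r, g ^ j • u) = ∑ j ∈ Finset.range r, g ^ j • u := by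
    intro g hg u
    rw [Finset.smul_sum]
    have h1 := Finset.sum_range_succ (fun j => g ^ j • u) r
    have h2 := Finset.sum_range_succ' (fun j => g ^ j • u) r
    simp only [hg, pow_zero, one_smul] at h1 h2
    rw [h1] at h2
    have := add_right_cancel h2
    simp only [smul_smul, ← pow_succ']
    exact this.symm
  by_contra hcon
  push Not at hcon
  have he : ∀ i : ℕ, ∑ j ∈ Finset.range r, (y * z ^ i) ^ j • v = 0 := by
    intro i
    by_contra hne
    refine hcon i _ (sum_mem fun j _ => hWpow _ (hyzW i) j v hv) hne (hsum _ ?_ v)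
    rw [(hyz.pow_right i).mul_pow, hy, ← pow_mul, mul_comm, pow_mul, hzr, one_pow, one_mul]
  have hzero : ∑ j ∈ Finset.range r, y ^ j • (∑ i ∈ Finset.range r, (z ^ j) ^ i • v) = 0 := by
    rw [← Finset.sum_eq_zero (s := Finset.range r) (fun i _ => he i), Finset.sum_comm]
    refine Finset.sum_congr rfl fun j _ => ?_
    rw [Finset.smul_sum]
    refine Finset.sum_congr rfl fun i _ => ?_
    rw [(hyz.pow_right i).mul_pow, mul_smul, ← pow_mul, ← pow_mul, mul_comm i j]
  rw [Finset.sum_eq_single 0] at hzero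
  · simp only [pow_zero, one_pow, one_smul, Finset.sum_const, Finset.card_range] at hzero
    exact hv0 (hrV v hzero)
  · intro j hj hj0
    have hzj : ∀ w ∈ W, z ^ j • w = w → w = 0 := by
      intro w hw he'
      have hcop : (orderOf z).Coprime j := by
        refine Nat.Coprime.coprime_dvd_left (orderOf_dvd_of_pow_eq_one hzr) ?_
        exact hr.out.coprime_iff_not_dvd.mpr (Nat.not_dvd_of_pos_of_lt (Nat.pos_of_ne_zero hj0)
          (Finset.mem_range.mp hj))
      obtain ⟨m, hm⟩ := exists_pow_eq_self_of_coprime (x := z) hcop.symm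
      refine hzf w hw ?_
      rw [← hm]
      exact (stabilizer L w).pow_mem he' m
    rw [hzj _ (sum_mem fun i _ => hWpow _ (hWpow z hzW j) i v hv) (hsum _ (by rw [← pow_mul, mul_comm, pow_mul, hzr, one_pow]) v), smul_zero]
  · simp [hr.out.pos]

end Cfsg.Agent.DerIdx59
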