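import Cfsg.Agent.Lib.CharCore.Linear
import Cfsg.Agent.Lib.CharCore.Complete
import Cfsg.Agent.PermB.CentralizerAlgebra
import Cfsg.Agent.RecogB.Derangement

/-! A self-centralising abelian subgroup, regular on the points and with a fixed-point-free
normaliser: the order of the complement bounds the degree. -/

set_option autoImplicit false
set_option linter.unusedSectionVars false

namespace Cfsg.Agent.DerIdx59

open MulAction CharCore
open scoped ComplexConjugate

universe u v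

variable {H : Type u} [Group H] [Fintype H]

/-- The hypotheses on the regular subgroup `P` and the complement `E0` in its normaliser. -/
structure TIData (P E0 : Subgroup H) (Ω : Type v) [MulAction H Ω] : Prop where
  comm : ∀ x : P, ∀ y : P, x * y = y * x
  cent : ∀ u ∈ P, u ≠ 1 → ∀ g : H, g * u = u * g → g ∈ P
  norm : ∀ g : H, (∀ u ∈ P, g * u * g⁻¹ ∈ P) → ∃ p ∈ P, ∃ w ∈ E0, g = p * w
  nE : ∀ w ∈ E0, ∀ u ∈ P, w * u * w⁻¹ ∈ P
  free : ∀ w ∈ E0, ∀ u ∈ P, u ≠ 1 → w * u * w⁻¹ = u → w = 1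
  gen : ∀ K : Subgroup H, K.Normal → P ≤ K → K = ⊤
  semi : ∀ u ∈ P, u ≠ 1 → ∀ ω : Ω, u • ω ≠ ω
  card_eq : Nat.card P = Nat.card Ω
  trans : IsPretransitive H Ω

variable {Ω : Type v} [MulAction H Ω] {P E0 : Subgroup H}

/-- Conjugation by an element of `E0`, on `P`. -/
def TIData.cj (D : TIData P E0 Ω) (w : E0) : P →* P where
  toFun u := ⟨(w : H) * u * (w : H)⁻¹, D.nE w w.2 u u.2⟩
  map_one' := Subtype.ext (by simp)
  map_mul' x y := Subtype.ext (by simp)

lemma TIData.conj_iff (D : TIData P E0 Ω) {u v : H} (hu : u ∈ P) (hu1 : u ≠ 1) (hv : v ∈ P) :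
    IsConj u v ↔ ∃ w : E0, (w : H) * u * (w : H)⁻¹ = v := by
  refine ⟨fun h => ?_, fun ⟨w, h⟩ => isConj_iff.mpr ⟨w, h⟩⟩
  obtain ⟨g, hg⟩ := isConj_iff.mp h
  have hv1 : v ≠ 1 := fun e => hu1 (by
    rw [← hg, mul_inv_eq_one] at e
    exact mul_left_cancel (e.trans (mul_one g).symm))
  have hP : ∀ x ∈ P, g * x * g⁻¹ ∈ P := by
    intro x hx
    refine D.cent v hv hv1 _ ?_
    have hc : x * u = u * x := congrArg Subtype.val (D.comm ⟨x, hx⟩ ⟨u, hu⟩)
    rw [← hg]
    calc g * x * g⁻¹ * (g * u * g⁻¹) = g * (x * u) * g⁻¹ := by group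
      _ = g * (u * x) * g⁻¹ := by rw [hc]
      _ = g * u * g⁻¹ * (g * x * g⁻¹) := by group
  obtain ⟨p, hp, w, hw, rfl⟩ := D.norm g hP
  refine ⟨⟨w, hw⟩, ?_⟩
  have hc : p * v = v * p := congrArg Subtype.val (D.comm ⟨p, hp⟩ ⟨v, hv⟩)
  calc w * u * w⁻¹ = p⁻¹ * (p * w * u * (p * w)⁻¹) * p := by group
    _ = p⁻¹ * v * p := by rw [hg]
    _ = v := by rw [mul_assoc, ← hc, inv_mul_cancel_left]

lemma TIData.conj_unique (D : TIData P E0 Ω) {u : H} (hu : u ∈ P) (hu1 : u ≠ 1) {w w' : E0}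
    (h : (w : H) * u * (w : H)⁻¹ = (w' : H) * u * (w' : H)⁻¹) : w = w' := by
  have h1 : ((w' : H)⁻¹ * w) * u * ((w' : H)⁻¹ * w)⁻¹ = u := by
    calc ((w' : H)⁻¹ * w) * u * ((w' : H)⁻¹ * w)⁻¹ = (w' : H)⁻¹ * ((w : H) * u * (w : H)⁻¹) * w' := by group
      _ = u := by rw [h]; group
  have := D.free _ (mul_mem (inv_mem w'.2) w.2) u hu hu1 h1
  exact Subtype.ext (inv_mul_eq_one.mp this).symm

lemma TIData.cent_card (D : TIData P E0 Ω) {u : H} (hu : u ∈ P) (hu1 : u ≠ 1) :
    Nat.card (Subgroup.centralizer ({u} : Set H)) = Nat.card P := by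
  have : Subgroup.centralizer ({u} : Set H) = P := by
    ext g
    rw [Subgroup.mem_centralizer_singleton_iff]
    exact ⟨fun h => D.cent u hu hu1 g h,
      fun h => congrArg Subtype.val (D.comm ⟨g, h⟩ ⟨u, hu⟩)⟩
  rw [this]

open scoped Classical in
lemma TIData.column (D : TIData P E0 Ω) (u v : P) (hu1 : u ≠ 1) :
    ∑ χ : Cfsg.IrrCharacter H, (χ : H → ℂ) u * conj ((χ : H → ℂ) v) =
      (Nat.card P : ℂ) * ∑ w : E0, if D.cj w u = v then 1 else 0 := by
  have hu1' : (u : H) ≠ 1 := fun e => hu1 (Subtype.ext e)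
  rw [sum_apply_mul_conj]
  by_cases h : IsConj (u : H) v
  · obtain ⟨w, hw⟩ := (D.conj_iff u.2 hu1' v.2).mp h
    rw [if_pos h, D.cent_card u.2 hu1', Finset.sum_eq_single w]
    · rw [if_pos (Subtype.ext hw), mul_one]
    · intro w' _ hne
      exact if_neg fun e => hne (D.conj_unique u.2 hu1' ((congrArg Subtype.val e).trans hw.symm))
    · exact fun h' => absurd (Finset.mem_univ w) h'
  · rw [if_neg h, Finset.sum_eq_zero, mul_zero]
    intro w _
    exact if_neg fun e => h (isConj_iff.mpr ⟨w, congrArg Subtype.val e⟩)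

/-- The values of a linear character. -/
noncomputable def lv (f : P →* ℂˣ) (x : P) : ℂ := (f x : ℂ)

lemma isCharacter_lv (f : P →* ℂˣ) : Cfsg.IsCharacter P (lv f) :=
  IsIrrCharacter.isCharacter (isIrrCharacter_hom f)

open scoped Classical in
lemma inner_lv [Fintype P] (f g : P →* ℂˣ) :
    Cfsg.classInner (lv f) (lv g) = if f = g then 1 else 0 := by
  split_ifs with h
  · subst h
    exact classInner_irr_self ⟨lv f, isIrrCharacter_hom f⟩
  · refine classInner_irr_of_ne (χ := ⟨lv f, isIrrCharacter_hom f⟩) (ψ := ⟨lv g, isIrrCharacter_hom g⟩) ?_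
    intro e
    exact h (MonoidHom.ext fun x => Units.ext (congrFun (congrArg Subtype.val e) x))

/-- The multiplicity of a linear character in the restriction. -/
noncomputable def mu [Fintype P] (φ : H → ℂ) (f : P →* ℂˣ) : ℂ :=
  Cfsg.classInner (fun x : P => φ x) (lv f)

lemma mu_nat [Fintype P] (χ : Cfsg.IrrCharacter H) (f : P →* ℂˣ) : ∃ m : ℕ, mu (χ : H → ℂ) f = m :=
  IsCharacter.exists_classInner_eq_natCast (isCharacter_restrict (irr_isCharacter χ) P) (isCharacter_lv f)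

/-- The multiplicity, as a natural number. -/
noncomputable def mn [Fintype P] (χ : Cfsg.IrrCharacter H) (f : P →* ℂˣ) : ℕ := (mu_nat χ f).choose

lemma mn_spec [Fintype P] (χ : Cfsg.IrrCharacter H) (f : P →* ℂˣ) :
    mu (χ : H → ℂ) f = (mn χ f : ℂ) := (mu_nat χ f).choose_spec

lemma mn_one_char [Fintype P] {f : P →* ℂˣ} (hf : f ≠ 1) {χ : Cfsg.IrrCharacter H}
    (hχ : (χ : H → ℂ) = 1) : mn χ f = 0 := by
  have h := mn_spec χ f
  rw [hχ] at h
  have h1 : (fun x : P => (1 : H → ℂ) x) = lv (1 : P →* ℂˣ) := by funext x; simp [lv]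
  rw [mu, h1, inner_lv, if_neg (fun e => hf e.symm)] at h
  exact_mod_cast h.symm

lemma mn_one_one [Fintype P] {χ : Cfsg.IrrCharacter H} (hχ : (χ : H → ℂ) = 1) :
    mn χ (1 : P →* ℂˣ) = 1 := by
  have h := mn_spec χ (1 : P →* ℂˣ)
  rw [hχ] at h
  have h1 : (fun x : P => (1 : H → ℂ) x) = lv (1 : P →* ℂˣ) := by funext x; simp [lv]
  rw [mu, h1, inner_lv, if_pos rfl] at h
  exact_mod_cast h.symm

lemma mu_sum [Fintype P] {φ : H → ℂ} (hφ : Cfsg.IsCharacter H φ) (f : P →* ℂˣ) :
    mu φ f = ∑ χ : Cfsg.IrrCharacter H, Cfsg.classInner φ (χ : H → ℂ) * (mn χ f : ℂ) := by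
  have h : (fun x : P => φ x) =
      ∑ χ : Cfsg.IrrCharacter H, Cfsg.classInner φ (χ : H → ℂ) • (fun x : P => (χ : H → ℂ) x) := by
    funext x
    conv_lhs => rw [IsCharacter.eq_sum_classInner hφ]
    simp
  rw [mu, h, classInner_sum_left]
  refine Finset.sum_congr rfl fun χ _ => ?_
  rw [classInner_smul_left, ← mn_spec]
  rfl

lemma TIData.sum_lv (D : TIData P E0 Ω) [Fintype P] [Fintype (P →* ℂˣ)] [DecidableEq P] (x : P) :
    ∑ f : P →* ℂˣ, lv f x = if x = 1 then (Nat.card P : ℂ) else 0 := by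
  letI : CommGroup P := { (inferInstance : Group P) with mul_comm := D.comm }
  haveI : NeZero (Monoid.exponent P) := ⟨Monoid.exponent_ne_zero_of_finite⟩
  split_ifs with hx
  · subst hx
    simp [lv, ← Nat.card_eq_fintype_card, CommGroup.card_monoidHom_of_hasEnoughRootsOfUnity P ℂ]
  · obtain ⟨μ, hμ⟩ := CommGroup.exists_apply_ne_one_of_hasEnoughRootsOfUnity P ℂ hx
    have h : (μ x : ℂ) * ∑ f : P →* ℂˣ, lv f x = ∑ f : P →* ℂˣ, lv f x := by
      rw [Finset.mul_sum]
      exact Fintype.sum_equiv (Equiv.mulLeft μ) _ _ fun f => by simp [lv]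
    have h2 : ((μ x : ℂ) - 1) * ∑ f : P →* ℂˣ, lv f x = 0 := by
      rw [sub_mul, h, one_mul, sub_self]
    exact (mul_eq_zero.1 h2).resolve_left (sub_ne_zero.2 fun e => hμ (Units.ext e))

lemma TIData.fourier (D : TIData P E0 Ω) [Fintype P] [Fintype (P →* ℂˣ)] (χ : Cfsg.IrrCharacter H)
    (x : P) : (χ : H → ℂ) x = ∑ f : P →* ℂˣ, (mn χ f : ℂ) * lv f x := by
  classical
  simp only [← mn_spec, mu, classInner_def, mul_assoc, Finset.sum_mul]
  rw [← Finset.mul_sum, Finset.sum_comm]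
  have : ∀ y : P, ∑ f : P →* ℂˣ, (χ : H → ℂ) y * (conj (lv f y) * lv f x)
      = if y = x then (χ : H → ℂ) y * (Nat.card P : ℂ) else 0 := by
    intro y
    have e : ∀ f : P →* ℂˣ, conj (lv f y) * lv f x = lv f (y⁻¹ * x) := fun f => by
      rw [← IsCharacter.apply_inv (isCharacter_lv f) y]
      simp [lv]
    rw [← Finset.mul_sum, Finset.sum_congr rfl fun f _ => e f, D.sum_lv]
    by_cases hy : y = x
    · rw [if_pos hy, if_pos (by rw [hy, inv_mul_cancel])]
    · rw [if_neg hy, if_neg (fun h' => hy (inv_mul_eq_one.1 h')), mul_zero]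
  rw [Finset.sum_congr rfl fun y _ => this y, Finset.sum_ite_eq', if_pos (Finset.mem_univ x),
    ← mul_assoc, mul_comm (Nat.card P : ℂ)⁻¹, mul_assoc,
    inv_mul_cancel₀ (Nat.cast_ne_zero.2 Nat.card_pos.ne'), mul_one]

open scoped Classical in
/-- The norm of a difference of multiplicities. -/
lemma TIData.norm_diff (D : TIData P E0 Ω) [Fintype P] (a b : P →* ℂˣ) :
    (∑ χ : Cfsg.IrrCharacter H, ((mn χ a : ℤ) - mn χ b) ^ 2 : ℤ) =
      ∑ w : E0, (((if a.comp (D.cj w) = a then 1 else 0) - (if a.comp (D.cj w) = b then 1 else 0)) -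
        ((if b.comp (D.cj w) = a then 1 else 0) - (if b.comp (D.cj w) = b then 1 else 0)) : ℤ) := by
  apply Int.cast_injective (α := ℂ)
  push_cast
  set n : ℂ := (Nat.card P : ℂ) with hn
  have hn0 : n ≠ 0 := Nat.cast_ne_zero.2 Nat.card_pos.ne'
  have hr : ∀ χ : Cfsg.IrrCharacter H, ((mn χ a : ℂ) - mn χ b) ^ 2 =
      n⁻¹ * n⁻¹ * ∑ u : P, ∑ v : P, (conj (lv a u - lv b u) * (lv a v - lv b v)) *
        ((χ : H → ℂ) u * conj ((χ : H → ℂ) v)) := by
    intro χ
    have e : ((mn χ a : ℂ) - mn χ b) = n⁻¹ * ∑ u : P, (χ : H → ℂ) u * conj (lv a u - lv b u) := by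
      rw [← mn_spec, ← mn_spec, mu, mu, classInner_def, classInner_def, ← mul_sub, ← Finset.sum_sub_distrib]
      simp only [map_sub, mul_sub, hn]
    have e2 : ((mn χ a : ℂ) - mn χ b) = n⁻¹ * ∑ v : P, conj ((χ : H → ℂ) v) * (lv a v - lv b v) := by
      have h3 := congrArg (starRingEnd ℂ) e
      simp only [map_sub, map_natCast, map_mul, map_inv₀, map_sum, Complex.conj_conj, hn] at h3
      exact h3
    rw [sq]
    conv_lhs => rw [e]; arg 2; rw [← e, e2]
    rw [mul_mul_mul_comm, Finset.sum_mul_sum]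
    congr 1
    exact Finset.sum_congr rfl fun u _ => Finset.sum_congr rfl fun v _ => by ring
  rw [Finset.sum_congr rfl fun χ _ => hr χ, ← Finset.mul_sum, Finset.sum_comm]
  have hcol : ∀ u : P, ∑ χ : Cfsg.IrrCharacter H, ∑ v : P, (conj (lv a u - lv b u) * (lv a v - lv b v)) *
      ((χ : H → ℂ) u * conj ((χ : H → ℂ) v)) =
      n * ∑ w : E0, conj (lv a u - lv b u) * (lv a (D.cj w u) - lv b (D.cj w u)) := by
    intro u
    rw [Finset.sum_comm]
    by_cases hu : u = 1
    · subst hu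
      simp [lv]
    simp only [← Finset.mul_sum, D.column u _ hu]
    simp only [Finset.mul_sum]
    rw [Finset.sum_comm]
    refine Finset.sum_congr rfl fun w _ => ?_
    rw [Finset.sum_eq_single (D.cj w u)]
    · rw [if_pos rfl, hn]; ring
    · intro v _ hv; rw [if_neg (fun e => hv e.symm), mul_zero, mul_zero]
    · exact fun h' => absurd (Finset.mem_univ _) h'
  rw [Finset.sum_congr rfl fun u _ => hcol u, ← Finset.mul_sum, Finset.sum_comm,
    ← mul_assoc, mul_assoc n⁻¹, inv_mul_cancel₀ hn0, mul_one, Finset.mul_sum]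
  refine Finset.sum_congr rfl fun w _ => ?_
  have key : ∀ f g : P →* ℂˣ, n⁻¹ * ∑ u : P, conj (lv g u) * lv f (D.cj w u) =
      if f.comp (D.cj w) = g then 1 else 0 := by
    intro f g
    rw [← inner_lv, classInner_def, hn]
    congr 1
    exact Finset.sum_congr rfl fun u _ => by simp only [lv, MonoidHom.comp_apply]; ring
  rw [← key, ← key, ← key, ← key, ← mul_sub, ← mul_sub, ← mul_sub, ← Finset.sum_sub_distrib,
    ← Finset.sum_sub_distrib, ← Finset.sum_sub_distrib]
  congr 1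
  exact Finset.sum_congr rfl fun u _ => by simp only [map_sub]; ring

lemma mn_comp [Fintype P] (D : TIData P E0 Ω) (χ : Cfsg.IrrCharacter H) (w : E0) (a : P →* ℂˣ) :
    mn χ (a.comp (D.cj w)) = mn χ a := by
  have : (mn χ (a.comp (D.cj w)) : ℂ) = mn χ a := by
    rw [← mn_spec, ← mn_spec, mu, mu, classInner_def, classInner_def]
    congr 1
    refine Fintype.sum_bijective (D.cj w) ?_ _ _ fun u => ?_
    · refine (Finite.injective_iff_bijective).mp fun x y e => Subtype.ext ?_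
      have h := congrArg Subtype.val e
      exact mul_left_cancel (mul_right_cancel h)
    · show (χ : H → ℂ) u * conj (lv (a.comp (D.cj w)) u) =
        (χ : H → ℂ) ((w : H) * u * (w : H)⁻¹) * conj (lv a (D.cj w u))
      rw [irr_isClassFunction χ]
      rfl
  exact_mod_cast this

theorem char_bound [Fintype Ω] (D : TIData P E0 Ω) (he : 2 ≤ Nat.card E0)
    (hn : 2 ≤ Nat.card Ω) (hrank : Nat.card (orbitRel.Quotient H (Ω × Ω)) ≠ 2) :
    Nat.card Ω - 1 ≤ Nat.card E0 * (Nat.card E0 - 1) ∧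
      (Nat.card E0 * (Nat.card E0 - 1) = Nat.card Ω - 1 → Nat.card E0 ≤ 3) := by
  classical
  have : Fintype P := Fintype.ofFinite P
  letI cg : CommGroup P := { (inferInstance : Group P) with mul_comm := D.comm }
  haveI : NeZero (Monoid.exponent P) := ⟨Monoid.exponent_ne_zero_of_finite⟩
  haveI : Finite (P →* ℂˣ) := inferInstance
  have : Fintype (P →* ℂˣ) := Fintype.ofFinite _
  have := D.trans
  set n := Nat.card P with hn'
  set e := Nat.card E0 with he'
  rw [← D.card_eq] at hn ⊢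
  have hnX : Fintype.card (P →* ℂˣ) = n := by
    rw [← Nat.card_eq_fintype_card, hn']
    exact CommGroup.card_monoidHom_of_hasEnoughRootsOfUnity P ℂ
  set A : Finset (P →* ℂˣ) := Finset.univ.erase 1 with hA
  have hAmem : ∀ a, a ∈ A ↔ a ≠ 1 := fun a => by simp [hA]
  have hAc : A.card = n - 1 := by rw [hA, Finset.card_erase_of_mem (Finset.mem_univ _), Finset.card_univ, hnX]
  -- the free action on the nontrivial linear characters
  have hfree : ∀ a : P →* ℂˣ, a ≠ 1 → ∀ w : E0, a.comp (D.cj w) = a → w = 1 := by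
    intro a ha w hw
    by_contra hw1
    apply ha
    have hinj : Function.Injective (fun u : P => u⁻¹ * D.cj w u) := by
      intro x y hxy
      have h1 : D.cj w (x * y⁻¹) = x * y⁻¹ := by
        rw [map_mul, map_inv]
        have h2 : D.cj w x = x * (y⁻¹ * D.cj w y) := by
          rw [← show x⁻¹ * D.cj w x = y⁻¹ * D.cj w y from hxy, mul_inv_cancel_left]
        rw [h2, mul_assoc, mul_assoc, mul_inv_cancel, mul_one]
      by_contra hne
      refine hw1 (Subtype.ext (D.free w w.2 _ (x * y⁻¹).2 (fun e => hne ?_) (congrArg Subtype.val h1)))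
      exact mul_inv_eq_one.mp (Subtype.ext e : x * y⁻¹ = 1)
    refine MonoidHom.ext fun x => ?_
    obtain ⟨u, hu⟩ := (Finite.injective_iff_surjective.mp hinj) x
    rw [← hu]
    simp only [map_mul, map_inv, MonoidHom.one_apply]
    rw [show a (D.cj w u) = a u from DFunLike.congr_fun hw u, inv_mul_cancel, inv_one, one_mul]
  have hcomp : ∀ (a : P →* ℂˣ) (w : E0), a ≠ 1 → a.comp (D.cj w) ≠ 1 := by
    intro a w ha h
    refine ha (MonoidHom.ext fun x => ?_)
    have h2 : x = D.cj w (D.cj w⁻¹ x) := Subtype.ext (by simp [TIData.cj, mul_assoc])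
    rw [h2]
    exact DFunLike.congr_fun h _
  set Dd : (P →* ℂˣ) → (P →* ℂˣ) → ℤ := fun a b => ∑ χ : Cfsg.IrrCharacter H, ((mn χ a : ℤ) - mn χ b) ^ 2
  have hdiag : ∀ a : P →* ℂˣ, a ≠ 1 → ∑ w : E0, (if a.comp (D.cj w) = a then 1 else 0 : ℤ) = 1 := by
    intro a ha
    rw [Finset.sum_eq_single 1]
    · rw [if_pos]; exact MonoidHom.ext fun x => congrArg a (Subtype.ext (by simp [TIData.cj]))
    · intro w _ hw; exact if_neg fun h => hw (hfree a ha w h)
    · exact fun h => absurd (Finset.mem_univ _) h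
  have hD2 : ∀ a b : P →* ℂˣ, a ≠ 1 → b ≠ 1 → Dd a b ≤ 2 ∧ (Dd a b ≠ 2 → ∃ w : E0, a.comp (D.cj w) = b ∨ b.comp (D.cj w) = a) := by
    intro a b ha hb
    have hs : Dd a b = 2 - (∑ w : E0, ((if a.comp (D.cj w) = b then 1 else 0) + (if b.comp (D.cj w) = a then 1 else 0) : ℤ)) := by
      show (∑ χ : Cfsg.IrrCharacter H, ((mn χ a : ℤ) - mn χ b) ^ 2 : ℤ) = _
      rw [D.norm_diff]
      simp only [Finset.sum_sub_distrib, Finset.sum_add_distrib, hdiag a ha, hdiag b hb]
      ring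
    constructor
    · rw [hs]
      have : (0 : ℤ) ≤ ∑ w : E0, ((if a.comp (D.cj w) = b then 1 else 0) + (if b.comp (D.cj w) = a then 1 else 0) : ℤ) :=
        Finset.sum_nonneg fun w _ => by split_ifs <;> norm_num
      omega
    · intro h
      by_contra hne
      push Not at hne
      apply h
      rw [hs, Finset.sum_eq_zero (fun w _ => by rw [if_neg (hne w).1, if_neg (hne w).2]; rfl)]
      rfl
  -- the permutation character
  set π := PermB.permChar H Ω with hπ
  have hπc : Cfsg.IsCharacter H π := PermB.isCharacter_permChar H Ω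
  have hex : ∀ χ : Cfsg.IrrCharacter H, ∃ c : ℕ, Cfsg.classInner π (χ : H → ℂ) = c := fun χ =>
    IsCharacter.exists_classInner_irr_eq_natCast hπc χ
  choose c hc using hex
  have hπu : ∀ u : P, u ≠ 1 → π (u : H) = 0 := by
    intro u hu
    simp only [hπ, PermB.permChar, Nat.cast_eq_zero]
    have : IsEmpty (fixedBy Ω (u : H)) := ⟨fun x => D.semi u u.2 (fun e => hu (Subtype.ext e)) x.1 x.2⟩
    exact Nat.card_of_isEmpty
  have hreg : ∀ a : P →* ℂˣ, ∑ χ : Cfsg.IrrCharacter H, c χ * mn χ a = 1 := by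
    intro a
    have h1 : mu π a = 1 := by
      rw [mu, classInner_def, Finset.sum_eq_single 1]
      · have : fixedBy Ω (1 : H) = Set.univ := by ext; simp
        simp only [lv, hπ, PermB.permChar, OneMemClass.coe_one, this, Nat.card_univ, map_one,
          Units.val_one, map_one, mul_one]
        rw [← D.card_eq, inv_mul_cancel₀]
        exact Nat.cast_ne_zero.2 Nat.card_pos.ne'
      · intro u _ hu; rw [hπu u hu, zero_mul]
      · exact fun h => absurd (Finset.mem_univ _) h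
    rw [mu_sum hπc] at h1
    simp only [hc] at h1
    exact_mod_cast h1
  have hκ : ∀ a : P →* ℂˣ, ∃ χ : Cfsg.IrrCharacter H, c χ * mn χ a = 1 ∧ ∀ ψ, ψ ≠ χ → c ψ * mn ψ a = 0 := by
    intro a
    obtain ⟨χ, -, hχ⟩ : ∃ χ ∈ (Finset.univ : Finset (Cfsg.IrrCharacter H)), c χ * mn χ a ≠ 0 :=
      Finset.exists_ne_zero_of_sum_ne_zero (by rw [hreg a]; exact one_ne_zero)
    have h1 : c χ * mn χ a + ∑ ψ ∈ Finset.univ.erase χ, c ψ * mn ψ a = 1 := by
      rw [Finset.add_sum_erase _ (fun ψ => c ψ * mn ψ a) (Finset.mem_univ χ)]; exact hreg a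
    refine ⟨χ, by omega, fun ψ hψ => ?_⟩
    have := Finset.single_le_sum (f := fun ψ => c ψ * mn ψ a) (fun _ _ => Nat.zero_le _)
      (Finset.mem_erase.mpr ⟨hψ, Finset.mem_univ ψ⟩)
    omega
  choose κ hκ1 hκ0 using hκ
  have hcκ : ∀ a, c (κ a) = 1 := fun a => Nat.eq_one_of_mul_eq_one_right (hκ1 a)
  have hmκ : ∀ a, mn (κ a) a = 1 := fun a => Nat.eq_one_of_mul_eq_one_left (hκ1 a)
  have hκu : ∀ (a : P →* ℂˣ) χ, c χ ≠ 0 → mn χ a ≠ 0 → χ = κ a := by
    intro a χ h1 h2
    by_contra h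
    exact (Nat.mul_ne_zero h1 h2) (hκ0 a χ h)
  set one : Cfsg.IrrCharacter H := ⟨1, isIrrCharacter_one⟩ with hone
  have hκone : ∀ a : P →* ℂˣ, a ≠ 1 → κ a ≠ one := fun a ha h => by
    have := hmκ a
    rw [h, mn_one_char ha rfl] at this
    omega
  -- only the trivial character restricts trivially
  have htriv : ∀ χ : Cfsg.IrrCharacter H, (∀ a : P →* ℂˣ, a ≠ 1 → mn χ a = 0) → χ = one := by
    intro χ hχ
    have h1 : ∀ u : P, (χ : H → ℂ) u = (mn χ (1 : P →* ℂˣ) : ℂ) := by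
      intro u
      rw [D.fourier χ u, Finset.sum_eq_single 1]
      · simp [lv]
      · intro a _ ha; rw [hχ a ha]; simp
      · exact fun h => absurd (Finset.mem_univ _) h
    have hker : P ≤ charKernel (irr_isCharacter χ) := fun u hu => by
      rw [mem_charKernel]
      exact (h1 ⟨u, hu⟩).trans (by simpa using (h1 1).symm)
    have htop := D.gen _ inferInstance hker
    by_contra hne
    have h2 := classInner_irr_of_ne hne
    have h3 : ∀ g : H, (χ : H → ℂ) g = (χ : H → ℂ) 1 := fun g => by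
      have : g ∈ charKernel (irr_isCharacter χ) := by rw [htop]; trivial
      exact this
    rw [classInner_def] at h2
    simp only [hone, h3, Pi.one_apply, map_one, mul_one, Finset.sum_const, Finset.card_univ, nsmul_eq_mul,
      ← Nat.card_eq_fintype_card] at h2
    rw [← mul_assoc, inv_mul_cancel₀ (Nat.cast_ne_zero.2 Nat.card_pos.ne'), one_mul] at h2
    exact irr_apply_one_ne_zero χ h2
  have hdiff : ∀ a b : P →* ℂˣ, a ≠ 1 → b ≠ 1 → κ a ≠ κ b → ∀ χ, χ ≠ κ a → χ ≠ κ b → mn χ a = mn χ b := by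
    intro a b ha hb hab χ h1 h2
    have e1 : mn (κ a) b = 0 := by
      by_contra h; exact hab (hκu b (κ a) (by rw [hcκ]; omega) h)
    have e2 : mn (κ b) a = 0 := by
      by_contra h; exact hab (hκu a (κ b) (by rw [hcκ]; omega) h).symm
    have h3 := (hD2 a b ha hb).1
    have h4 : ∑ ψ ∈ ({κ a, κ b, χ} : Finset (Cfsg.IrrCharacter H)), ((mn ψ a : ℤ) - mn ψ b) ^ 2 ≤ Dd a b :=
      Finset.sum_le_sum_of_subset_of_nonneg (Finset.subset_univ _) fun _ _ _ => sq_nonneg _
    rw [Finset.sum_insert (by simp [hab, Ne.symm h1]), Finset.sum_insert (by simp [Ne.symm h2]),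
      Finset.sum_singleton, hmκ, hmκ, e1, e2] at h4
    have h5 : ((mn χ a : ℤ) - mn χ b) ^ 2 ≤ 0 := by push_cast at h4; linarith
    have h6 := pow_eq_zero_iff (n := 2) (by norm_num) |>.mp (le_antisymm h5 (sq_nonneg _))
    omega
  -- two different constituents
  obtain ⟨a0, b0, ha0, hb0, hab0⟩ : ∃ a b : P →* ℂˣ, a ≠ 1 ∧ b ≠ 1 ∧ κ a ≠ κ b := by
    by_contra hcon
    push Not at hcon
    obtain ⟨a1, ha1⟩ : A.Nonempty := Finset.card_pos.mp (by omega)
    rw [hAmem] at ha1
    have hsupp : ∀ χ, c χ ≠ 0 → χ = one ∨ χ = κ a1 := by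
      intro χ hχ
      by_cases hz : ∀ a : P →* ℂˣ, a ≠ 1 → mn χ a = 0
      · exact Or.inl (htriv χ hz)
      push Not at hz
      obtain ⟨a, ha, hm⟩ := hz
      exact Or.inr ((hκu a χ hχ hm).trans (hcon a a1 ha ha1))
    have hpos : 0 < Nat.card H := Nat.card_pos
    have hb : Cfsg.classInner π (one : H → ℂ) = 1 := by
      rw [classInner_def]
      have := sum_card_fixedBy_eq_card_orbits_mul_card_group H Ω
      simp only [hπ, PermB.permChar, hone, Pi.one_apply, map_one, mul_one, ← Nat.cast_sum]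
      simp only [← Nat.card_eq_fintype_card] at this
      rw [this]
      have : Subsingleton (Quotient (orbitRel H Ω)) := ⟨fun x y => by
        induction x using Quotient.inductionOn
        induction y using Quotient.inductionOn
        exact Quotient.sound (exists_smul_eq H _ _)⟩
      have : Nonempty Ω := (Nat.card_pos_iff.mp (show 0 < Nat.card Ω by rw [← D.card_eq]; omega)).1
      have : Nonempty (Quotient (orbitRel H Ω)) := ⟨Quotient.mk'' (Classical.arbitrary Ω)⟩
      rw [Nat.card_of_subsingleton (Classical.arbitrary (Quotient (orbitRel H Ω)))]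
      rw [one_mul, inv_mul_cancel₀]
      exact Nat.cast_ne_zero.2 hpos.ne'
    have hππ : Cfsg.classInner π π = 2 := by
      conv_lhs => rw [IsCharacter.eq_sum_classInner hπc]
      rw [classInner_sum_sum]
      simp only [hc, map_natCast]
      rw [← Finset.sum_subset (Finset.subset_univ {one, κ a1}) (fun χ _ hχ => ?_)]
      · rw [Finset.sum_pair (hκone a1 ha1).symm, hcκ]
        have : (c one : ℂ) = 1 := (hc one).symm.trans hb
        rw [this]; norm_num
      · have : c χ = 0 := by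
          by_contra h
          simp only [Finset.mem_insert, Finset.mem_singleton] at hχ
          exact hχ (hsupp χ h)
        simp [this]
    apply hrank
    rw [classInner_def] at hππ
    have hs := RecogB.sum_fixedBy_pairs H Ω
    simp only [hπ, PermB.permChar, map_natCast, ← Nat.cast_mul, ← Nat.cast_sum, hs] at hππ
    push_cast at hππ
    rw [mul_comm (Nat.card (orbitRel.Quotient H (Ω × Ω)) : ℂ), ← mul_assoc,
      inv_mul_cancel₀ (Nat.cast_ne_zero.2 hpos.ne'), one_mul] at hππ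
    exact_mod_cast hππ
  have hsame : ∀ a b : P →* ℂˣ, a ≠ 1 → b ≠ 1 → κ a = κ b → ∀ χ, mn χ a = mn χ b := by
    intro a b ha hb hab χ
    obtain ⟨ν, hν, hνa⟩ : ∃ ν : P →* ℂˣ, ν ≠ 1 ∧ κ ν ≠ κ a := by
      by_cases h : κ a0 = κ a
      · exact ⟨b0, hb0, fun e => hab0 (h.trans e.symm)⟩
      · exact ⟨a0, ha0, h⟩
    by_cases h1 : χ = κ a
    · rw [h1, hmκ, hab, hmκ]
    by_cases h2 : χ = κ ν
    · have z : ∀ d, κ d ≠ κ ν → mn (κ ν) d = 0 := fun d hd => by
        by_contra h; exact hd (hκu d (κ ν) (by rw [hcκ]; omega) h).symm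
      rw [h2, z a hνa.symm, z b (hab ▸ hνa.symm)]
    · exact (hdiff a ν ha hν hνa.symm χ h1 h2).trans
        (hdiff b ν hb hν (hab ▸ hνa.symm) χ (hab ▸ h1) h2).symm
  have horbit : ∀ a b : P →* ℂˣ, a ≠ 1 → b ≠ 1 → (κ a = κ b ↔ ∃ w : E0, a.comp (D.cj w) = b) := by
    intro a b ha hb
    constructor
    · intro hab
      have h0 : Dd a b ≠ 2 := by
        have : Dd a b = 0 := Finset.sum_eq_zero fun χ _ => by rw [hsame a b ha hb hab χ]; ring
        omega
      obtain ⟨w, hw | hw⟩ := (hD2 a b ha hb).2 h0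
      · exact ⟨w, hw⟩
      · refine ⟨w⁻¹, ?_⟩
        rw [← hw]
        exact MonoidHom.ext fun x => congrArg b (Subtype.ext (by simp [TIData.cj, mul_assoc]))
    · rintro ⟨w, rfl⟩
      refine hκu _ (κ a) (by rw [hcκ]; omega) ?_
      rw [mn_comp, hmκ]; omega
  have hm0 : ∀ a : P →* ℂˣ, a ≠ 1 → mn (κ a) (1 : P →* ℂˣ) = 0 := by
    intro a ha
    have hc1 : c one * mn one (1 : P →* ℂˣ) ≠ 0 := by
      rw [mn_one_one rfl, mul_one]
      intro h
      have h1 := hc one
      rw [h, classInner_def] at h1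
      have := sum_card_fixedBy_eq_card_orbits_mul_card_group H Ω
      simp only [hπ, PermB.permChar, hone, Pi.one_apply, map_one, mul_one, ← Nat.cast_sum,
        ← Nat.card_eq_fintype_card] at h1 this
      rw [this] at h1
      have hne : Nonempty (Quotient (orbitRel H Ω)) := ⟨Quotient.mk''
        ((Nat.card_pos_iff.mp (show 0 < Nat.card Ω by rw [← D.card_eq]; omega)).1.some)⟩
      have : 0 < Nat.card (Quotient (orbitRel H Ω)) * Nat.card H := Nat.mul_pos Nat.card_pos Nat.card_pos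
      simp at h1
    by_contra h
    have h1 := hκu 1 (κ a) (by rw [hcκ]; omega) h
    have h2 := hκu 1 one (left_ne_zero_of_mul hc1) (right_ne_zero_of_mul hc1)
    exact hκone a ha (h1.trans h2.symm)
  have hth : ∀ a : P →* ℂˣ, a ≠ 1 → ∀ x : P, (κ a : H → ℂ) x = ∑ w : E0, lv (a.comp (D.cj w)) x := by
    intro a ha x
    rw [D.fourier]
    have himg : ∀ w w' : E0, a.comp (D.cj w) = a.comp (D.cj w') → w = w' := by
      intro w w' h
      have : a.comp (D.cj (w * w'⁻¹)) = a := MonoidHom.ext fun y => by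
        have h2 := DFunLike.congr_fun h (D.cj w'⁻¹ y)
        simp only [MonoidHom.comp_apply] at h2 ⊢
        calc a (D.cj (w * w'⁻¹) y) = a (D.cj w (D.cj w'⁻¹ y)) :=
              congrArg a (Subtype.ext (by simp [TIData.cj, mul_assoc]))
          _ = a (D.cj w' (D.cj w'⁻¹ y)) := h2
          _ = a y := congrArg a (Subtype.ext (by simp [TIData.cj, mul_assoc]))
      exact mul_inv_eq_one.mp (hfree a ha _ this)
    rw [← Finset.sum_subset (Finset.subset_univ (Finset.univ.image fun w : E0 => a.comp (D.cj w))) ?_,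
      Finset.sum_image (fun w _ w' _ h => himg w w' h)]
    · refine Finset.sum_congr rfl fun w _ => ?_
      rw [mn_comp, hmκ, Nat.cast_one, one_mul]
    · intro f _ hf
      simp only [Finset.mem_image, Finset.mem_univ, true_and, not_exists] at hf
      have : mn (κ a) f = 0 := by
        by_cases hf1 : f = 1
        · rw [hf1]; exact hm0 a ha
        by_contra h
        obtain ⟨w, hw⟩ := (horbit a f ha hf1).mp (hκu f (κ a) (by rw [hcκ]; omega) h)
        exact hf w hw
      rw [this]; simp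
  have hth1 : ∀ a : P →* ℂˣ, a ≠ 1 → (κ a : H → ℂ) 1 = e := by
    intro a ha
    have := hth a ha 1
    simpa [lv, he', Nat.card_eq_fintype_card] using this
  -- the other irreducible characters
  set Θ : Finset (Cfsg.IrrCharacter H) := A.image κ with hΘ
  have hmem : ∀ a : P →* ℂˣ, a ≠ 1 → κ a ∈ Θ := fun a ha => Finset.mem_image_of_mem κ ((hAmem a).mpr ha)
  have hconst : ∀ χ, χ ∉ Θ → ∀ a b : P →* ℂˣ, a ≠ 1 → b ≠ 1 → mn χ a = mn χ b := by
    intro χ hχ a b ha hb
    by_cases h : κ a = κ b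
    · exact hsame a b ha hb h χ
    · exact hdiff a b ha hb h χ (fun e => hχ (e ▸ hmem a ha)) (fun e => hχ (e ▸ hmem b hb))
  set Mm : Cfsg.IrrCharacter H → ℕ := fun χ => mn χ a0
  have hMpos : ∀ χ, χ ∉ Θ → χ ≠ one → 1 ≤ Mm χ := by
    intro χ h1 h2
    by_contra h
    exact h2 (htriv χ fun a ha => by
      rw [hconst χ h1 a a0 ha ha0]
      show Mm χ = 0
      omega)
  have hone' : one ∉ Θ := by
    intro h
    obtain ⟨a, ha, h'⟩ := Finset.mem_image.mp h
    exact hκone a ((hAmem a).mp ha) h'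
  have hval : ∀ χ, χ ∉ Θ → ∀ x : P, (χ : H → ℂ) x =
      mn χ (1 : P →* ℂˣ) + (Mm χ : ℂ) * ((if x = 1 then (n : ℂ) else 0) - 1) := by
    intro χ hχ x
    rw [D.fourier, ← Finset.add_sum_erase _ _ (Finset.mem_univ (1 : P →* ℂˣ)), ← D.sum_lv x,
      ← Finset.add_sum_erase _ (fun f => lv f x) (Finset.mem_univ (1 : P →* ℂˣ))]
    have h1 : lv (1 : P →* ℂˣ) x = 1 := by simp [lv]
    rw [h1, mul_one, add_sub_cancel_left, Finset.mul_sum]
    congr 1
    refine Finset.sum_congr rfl fun f hf => ?_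
    rw [hconst χ hχ f a0 (Finset.ne_of_mem_erase hf) ha0]
  have hdeg : ∀ χ, χ ∉ Θ → (χ : H → ℂ) 1 = ((mn χ (1 : P →* ℂˣ) + (n - 1) * Mm χ : ℕ) : ℂ) := by
    intro χ hχ
    have h := hval χ hχ 1
    rw [if_pos rfl] at h
    rw [show ((1 : P) : H) = 1 from rfl] at h
    rw [h]; push_cast [Nat.cast_sub (show 1 ≤ n by omega)]; ring
  -- the square of one constituent
  set θ : H → ℂ := (κ a0 : H → ℂ) with hθ
  set φ : H → ℂ := θ * (fun g => conj (θ g)) with hφ
  have hφc : Cfsg.IsCharacter H φ :=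
    isCharacter_mul (irr_isCharacter _) (IsCharacter.star (irr_isCharacter _))
  have hex2 : ∀ χ : Cfsg.IrrCharacter H, ∃ k : ℕ, Cfsg.classInner φ (χ : H → ℂ) = k := fun χ =>
    IsCharacter.exists_classInner_irr_eq_natCast hφc χ
  choose nn hnn using hex2
  have hn1 : nn one = 1 := by
    have h1 : Cfsg.classInner φ (one : H → ℂ) = 1 := by
      rw [← classInner_irr_self (κ a0), classInner_def, classInner_def]
      simp [hφ, hθ, hone]
    rw [hnn] at h1; exact_mod_cast h1
  have hsum0 : ∑ χ : Cfsg.IrrCharacter H, nn χ * mn χ (1 : P →* ℂˣ) = e := by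
    have h1 : mu φ (1 : P →* ℂˣ) = (e : ℂ) := by
      have h2 : mu φ (1 : P →* ℂˣ) = Cfsg.classInner (fun x : P => θ x) (fun x : P => θ x) := by
        rw [mu, classInner_def, classInner_def]; simp [hφ, lv]
      rw [h2, show (fun x : P => θ x) = ∑ w : E0, lv (a0.comp (D.cj w)) from funext fun x => by
        rw [hθ, hth a0 ha0 x, Finset.sum_apply], classInner_sum_left]
      simp only [classInner_sum_right, inner_lv]
      have : ∀ w : E0, (∑ w' : E0, if a0.comp (D.cj w) = a0.comp (D.cj w') then (1:ℂ) else 0) = 1 := by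
        intro w
        rw [Finset.sum_eq_single w]
        · rw [if_pos rfl]
        · intro w' _ hne
          refine if_neg fun h => hne ?_
          have h' : a0.comp (D.cj (w' * w⁻¹)) = a0 := MonoidHom.ext fun y => by
            have h2 := DFunLike.congr_fun h (D.cj w⁻¹ y)
            simp only [MonoidHom.comp_apply] at h2 ⊢
            calc a0 (D.cj (w' * w⁻¹) y) = a0 (D.cj w' (D.cj w⁻¹ y)) :=
                  congrArg a0 (Subtype.ext (by simp [TIData.cj, mul_assoc]))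
              _ = a0 (D.cj w (D.cj w⁻¹ y)) := h2.symm
              _ = a0 y := congrArg a0 (Subtype.ext (by simp [TIData.cj, mul_assoc]))
          exact mul_inv_eq_one.mp (hfree a0 ha0 _ h')
        · exact fun h => absurd (Finset.mem_univ _) h
      simp [this, he', Nat.card_eq_fintype_card]
    rw [mu_sum hφc] at h1
    simp only [hnn] at h1
    exact_mod_cast h1
  have hdim : ∀ χ : Cfsg.IrrCharacter H, ∃ d : ℕ, (χ : H → ℂ) 1 = d := fun χ => by
    by_cases h : χ ∈ Θ
    · obtain ⟨a, ha, rfl⟩ := Finset.mem_image.mp h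
      exact ⟨e, hth1 a ((hAmem a).mp ha)⟩
    · exact ⟨_, hdeg χ h⟩
  choose dd hdd using hdim
  have hsum1 : ∑ χ : Cfsg.IrrCharacter H, nn χ * dd χ = e * e := by
    have h1 : φ 1 = (e : ℂ) * e := by simp [hφ, hθ, hth1 a0 ha0]
    rw [IsCharacter.eq_sum_classInner hφc] at h1
    simp only [Finset.sum_apply, Pi.smul_apply, smul_eq_mul, hnn, hdd] at h1
    exact_mod_cast h1
  have hddΘ : ∀ χ, χ ∉ Θ → dd χ = mn χ (1 : P →* ℂˣ) + (n - 1) * Mm χ := fun χ h => by
    exact_mod_cast (hdd χ).symm.trans (hdeg χ h)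
  set R : Finset (Cfsg.IrrCharacter H) := (Finset.univ \ Θ).erase one with hR
  have hRmem : ∀ χ, χ ∈ R ↔ χ ≠ one ∧ χ ∉ Θ := fun χ => by simp [hR]
  have hdd1 : dd one = 1 := by
    have := hdd one; simp [hone] at this; exact_mod_cast this.symm
  have hT0 : ∑ χ ∈ R, nn χ * mn χ (1 : P →* ℂˣ) + 1 = e := by
    rw [← hsum0, ← Finset.sum_sdiff (Finset.subset_univ Θ),
      Finset.sum_eq_zero (s := Θ) (fun χ hχ => by
        obtain ⟨a, ha, rfl⟩ := Finset.mem_image.mp hχ
        rw [hm0 a ((hAmem a).mp ha), mul_zero]), add_zero,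
      ← Finset.sum_erase_add _ _ (Finset.mem_sdiff.mpr ⟨Finset.mem_univ one, hone'⟩), hn1, mn_one_one rfl]
  have hT1 : ∑ χ ∈ R, nn χ * mn χ (1 : P →* ℂˣ) + (n - 1) * ∑ χ ∈ R, nn χ * Mm χ + 1 ≤ e * e := by
    have h1 : ∑ χ ∈ R, nn χ * dd χ = ∑ χ ∈ R, nn χ * mn χ (1 : P →* ℂˣ) + (n - 1) * ∑ χ ∈ R, nn χ * Mm χ := by
      rw [Finset.mul_sum, ← Finset.sum_add_distrib]
      exact Finset.sum_congr rfl fun χ hχ => by rw [hddΘ χ ((hRmem χ).mp hχ).2]; ring
    have h2 : ∑ χ ∈ R, nn χ * dd χ + nn one * dd one ≤ ∑ χ : Cfsg.IrrCharacter H, nn χ * dd χ := by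
      rw [hR, Finset.sum_erase_add _ _ (Finset.mem_sdiff.mpr ⟨Finset.mem_univ one, hone'⟩)]
      exact Finset.sum_le_sum_of_subset (Finset.subset_univ _)
    rw [h1, hn1, hdd1, hsum1] at h2
    omega
  obtain ⟨χ0, hχ0, hχn⟩ : ∃ χ ∈ R, nn χ * mn χ (1 : P →* ℂˣ) ≠ 0 :=
    Finset.exists_ne_zero_of_sum_ne_zero (by omega)
  have hM1 : 1 ≤ nn χ0 * Mm χ0 :=
    Nat.mul_pos (Nat.pos_of_ne_zero (left_ne_zero_of_mul hχn))
      (hMpos χ0 ((hRmem χ0).mp hχ0).2 ((hRmem χ0).mp hχ0).1)
  have hMsum : nn χ0 * Mm χ0 ≤ ∑ χ ∈ R, nn χ * Mm χ :=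
    Finset.single_le_sum (f := fun χ => nn χ * Mm χ) (fun _ _ => Nat.zero_le _) hχ0
  have hee : e * e = e * (e - 1) + e := by rw [← Nat.mul_succ, Nat.succ_eq_add_one, Nat.sub_add_cancel (by omega : 1 ≤ e)]
  have hmul : n - 1 ≤ (n - 1) * ∑ χ ∈ R, nn χ * Mm χ := Nat.le_mul_of_pos_right _ (by omega)
  refine ⟨by omega, fun heq => ?_⟩
  -- the extreme case
  have hS1 : ∑ χ ∈ R, nn χ * Mm χ = 1 := by
    by_contra h
    have : (n - 1) * 2 ≤ (n - 1) * ∑ χ ∈ R, nn χ * Mm χ := Nat.mul_le_mul_left _ (by omega)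
    omega
  have hχ1 : nn χ0 * Mm χ0 = 1 := by omega
  have hc0 : nn χ0 * mn χ0 (1 : P →* ℂˣ) + 1 = e := by
    rw [← hT0]
    congr 1
    refine (Finset.sum_eq_single (f := fun χ => nn χ * mn χ (1 : P →* ℂˣ)) χ0 (fun χ hχ hne => ?_) (fun h => absurd hχ0 h)).symm
    have h2 : nn χ * Mm χ = 0 := by
      have := Finset.add_sum_erase R (fun χ => nn χ * Mm χ) hχ0
      have h3 := Finset.single_le_sum (f := fun χ => nn χ * Mm χ) (fun _ _ => Nat.zero_le _)
        (Finset.mem_erase.mpr ⟨hne, hχ⟩)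
      omega
    have h4 := hMpos χ ((hRmem χ).mp hχ).2 ((hRmem χ).mp hχ).1
    have : nn χ = 0 := by
      rcases Nat.mul_eq_zero.mp h2 with h5 | h5
      · exact h5
      · omega
    rw [this, zero_mul]
  rw [Nat.eq_one_of_mul_eq_one_right hχ1, one_mul] at hc0
  have hMe := Nat.eq_one_of_mul_eq_one_left hχ1
  -- column orthogonality at a nontrivial element
  have : Nontrivial P := Finite.one_lt_card_iff_nontrivial.mp (by omega)
  obtain ⟨u, hu⟩ := exists_ne (1 : P)
  have hcol : ∑ χ : Cfsg.IrrCharacter H, Complex.normSq ((χ : H → ℂ) u) = n := by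
    have h1 := D.column u u hu
    rw [Finset.sum_eq_single (1 : E0)] at h1
    · rw [if_pos (Subtype.ext (by simp [TIData.cj])), mul_one] at h1
      simp only [Complex.mul_conj, ← Complex.ofReal_sum] at h1
      exact_mod_cast h1
    · intro w _ hw
      refine if_neg fun h => hw ?_
      exact Subtype.ext (D.free w w.2 u u.2 (fun e' => hu (Subtype.ext e')) (congrArg Subtype.val h))
    · exact fun h => absurd (Finset.mem_univ _) h
  have hv0 : Complex.normSq ((χ0 : H → ℂ) u) = ((e : ℝ) - 2) ^ 2 := by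
    rw [hval χ0 ((hRmem χ0).mp hχ0).2 u, if_neg hu, hMe]
    have : (mn χ0 (1 : P →* ℂˣ) : ℂ) + ((1 : ℕ) : ℂ) * (0 - 1) = (((e : ℝ) - 2 : ℝ) : ℂ) := by
      rw [← hc0]; push_cast; ring
    rw [this, Complex.normSq_ofReal, sq]
  have hΘsum : ∑ χ ∈ Θ, Complex.normSq ((χ : H → ℂ) u) = (n : ℝ) - e := by
    have h1 : ∑ a ∈ A, Complex.normSq ((κ a : H → ℂ) u) = (e : ℝ) * ((n : ℝ) - e) := by
      apply Complex.ofReal_injective
      push_cast
      have h2 : ∀ a ∈ A, (Complex.normSq ((κ a : H → ℂ) u) : ℂ) =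
          ∑ w : E0, ∑ w' : E0, lv a (D.cj w u * (D.cj w' u)⁻¹) := by
        intro a ha
        rw [← Complex.mul_conj, hth a ((hAmem a).mp ha) u, map_sum, Finset.sum_mul_sum]
        refine Finset.sum_congr rfl fun w _ => Finset.sum_congr rfl fun w' _ => ?_
        rw [← IsCharacter.apply_inv (isCharacter_lv (a.comp (D.cj w')))]
        simp [lv]
      rw [Finset.sum_congr rfl h2, Finset.sum_comm]
      have h3 : ∀ w : E0, ∑ a ∈ A, ∑ w' : E0, lv a (D.cj w u * (D.cj w' u)⁻¹) = (n : ℂ) - e := by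
        intro w
        rw [Finset.sum_comm]
        have h4 : ∀ w' : E0, ∑ a ∈ A, lv a (D.cj w u * (D.cj w' u)⁻¹) = (if w' = w then (n : ℂ) else 0) - 1 := by
          intro w'
          have h5 := Finset.add_sum_erase Finset.univ (fun a => lv a (D.cj w u * (D.cj w' u)⁻¹)) (Finset.mem_univ (1 : P →* ℂˣ))
          rw [D.sum_lv] at h5
          rw [eq_sub_iff_add_eq', hA]
          refine Eq.trans ?_ (h5.trans ?_)
          · simp [lv]
          · refine if_congr ⟨fun h => ?_, fun h => by rw [h, mul_inv_cancel]⟩ rfl rfl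
            exact D.conj_unique u.2 (fun e' => hu (Subtype.ext e')) (congrArg Subtype.val (mul_inv_eq_one.mp h)).symm
        simp [h4, Finset.sum_sub_distrib, he', Nat.card_eq_fintype_card]
      simp [h3, he', Nat.card_eq_fintype_card]
      ring
    have h6 : ∑ a ∈ A, Complex.normSq ((κ a : H → ℂ) u) = (e : ℝ) * ∑ χ ∈ Θ, Complex.normSq ((χ : H → ℂ) u) := by
      rw [hΘ, Finset.mul_sum]
      refine (Finset.sum_image' _ fun a ha => ?_).symm
      have hfib : A.filter (fun b => κ b = κ a) = Finset.univ.image (fun w : E0 => a.comp (D.cj w)) := by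
        ext b
        simp only [Finset.mem_filter, Finset.mem_image, Finset.mem_univ, true_and, hAmem]
        constructor
        · rintro ⟨hb, hk⟩; exact (horbit a b ((hAmem a).mp ha) hb).mp hk.symm
        · rintro ⟨w, rfl⟩
          exact ⟨hcomp a w ((hAmem a).mp ha),
            ((horbit a _ ((hAmem a).mp ha) (hcomp a w ((hAmem a).mp ha))).mpr ⟨w, rfl⟩).symm⟩
      rw [Finset.sum_congr rfl (fun b hb => by rw [(Finset.mem_filter.mp hb).2]), Finset.sum_const, nsmul_eq_mul]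
      congr 1
      rw [hfib, Finset.card_image_of_injective, Finset.card_univ, he', Nat.card_eq_fintype_card]
      intro w w' h
      have h' : a.comp (D.cj (w * w'⁻¹)) = a := MonoidHom.ext fun y => by
        have h2 := DFunLike.congr_fun h (D.cj w'⁻¹ y)
        simp only [MonoidHom.comp_apply] at h2 ⊢
        calc a (D.cj (w * w'⁻¹) y) = a (D.cj w (D.cj w'⁻¹ y)) :=
              congrArg a (Subtype.ext (by simp [TIData.cj, mul_assoc]))
          _ = a (D.cj w' (D.cj w'⁻¹ y)) := h2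
          _ = a y := congrArg a (Subtype.ext (by simp [TIData.cj, mul_assoc]))
      exact mul_inv_eq_one.mp (hfree a ((hAmem a).mp ha) _ h')
    have he0 : (e : ℝ) ≠ 0 := Nat.cast_ne_zero.2 (by omega)
    exact mul_left_cancel₀ he0 (h6.symm.trans h1)
  have hsub : insert one (insert χ0 Θ) ⊆ (Finset.univ : Finset (Cfsg.IrrCharacter H)) := Finset.subset_univ _
  have h7 : ∑ χ ∈ insert one (insert χ0 Θ), Complex.normSq ((χ : H → ℂ) u) ≤ n :=
    (Finset.sum_le_sum_of_subset_of_nonneg hsub fun _ _ _ => Complex.normSq_nonneg _).trans_eq hcol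
  rw [Finset.sum_insert (by simp [hone', ((hRmem χ0).mp hχ0).1.symm]),
    Finset.sum_insert ((hRmem χ0).mp hχ0).2, hv0, hΘsum] at h7
  simp only [hone, Pi.one_apply, map_one] at h7
  by_contra h8
  have h9 : (4 : ℝ) ≤ (e : ℝ) := by exact_mod_cast (show 4 ≤ e by omega)
  nlinarith

end Cfsg.Agent.DerIdx59
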