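import Cfsg.Agent.DerIdx59.Form
import Cfsg.Agent.DerIdx59.Arith

/-! The three types of symplectic `r`-groups and their numbers of maximal good subgroups. -/

set_option autoImplicit false
set_option linter.unusedSectionVars false

namespace Cfsg.Agent.DerIdx59

variable {L : Type*} [Group L] [Finite L]
variable {r : ℕ} [hr : Fact r.Prime] {A C U : Subgroup L} {z : L}

lemma mul_pow_twist {x y c : L} (hxc : Commute c x) (hyc : Commute c y) (h : y * x = c * x * y) :
    ∀ n : ℕ, (x * y) ^ n = c ^ (n * (n - 1) / 2) * (x ^ n * y ^ n) := by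
  have h1 : ∀ n : ℕ, y ^ n * x = c ^ n * (x * y ^ n) := by
    intro n
    induction n with
    | zero => simp
    | succ n ih =>
      calc y ^ (n + 1) * x = y * (y ^ n * x) := by rw [pow_succ', mul_assoc]
        _ = (y * c ^ n) * (x * y ^ n) := by rw [ih, mul_assoc]
        _ = (c ^ n * y) * (x * y ^ n) := by rw [(hyc.pow_left n).eq]
        _ = c ^ n * (y * x) * y ^ n := by simp only [mul_assoc]
        _ = c ^ n * (c * x * y) * y ^ n := by rw [h]
        _ = c ^ (n + 1) * (x * y ^ (n + 1)) := by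
          rw [pow_succ c, pow_succ' y]; simp only [mul_assoc]
  intro n
  induction n with
  | zero => simp
  | succ n ih =>
    have he : (n + 1) * (n + 1 - 1) / 2 = n * (n - 1) / 2 + n := by
      rcases n with _ | m
      · simp
      · simp only [Nat.add_sub_cancel]
        rw [← Nat.add_mul_div_right _ _ (show 0 < 2 by norm_num)]
        congr 1; ring
    calc (x * y) ^ (n + 1) = c ^ (n * (n - 1) / 2) * x ^ n * (y ^ n * x) * y := by
          rw [pow_succ, ih]; simp only [mul_assoc]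
      _ = c ^ (n * (n - 1) / 2) * (x ^ n * c ^ n) * (x * y ^ n) * y := by rw [h1]; simp only [mul_assoc]
      _ = c ^ (n * (n - 1) / 2) * (c ^ n * x ^ n) * (x * y ^ n) * y := by rw [(hxc.pow_pow n n).eq]
      _ = c ^ ((n + 1) * (n + 1 - 1) / 2) * (x ^ (n + 1) * y ^ (n + 1)) := by
          rw [he, pow_add, pow_succ x, pow_succ y]; simp only [mul_assoc]

/-- `U` cannot be extended. -/
def MaxGood (r : ℕ) (A C U : Subgroup L) (z : L) : Prop := Good r A C U ∧ Ext r C U z = ∅

lemma Good.centre_facts (hC : CForm r A C z) (hU : Good r A C U) :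
    ∀ g ∈ U ⊔ A, ∀ t ∈ centIn C U, g * t = t * g := by
  intro g hg t ht
  have : U ⊔ A ≤ Subgroup.centralizer {t} := sup_le
    (fun u hu => Subgroup.mem_centralizer_singleton_iff.mpr (ht.2 u hu))
    (fun a ha => Subgroup.mem_centralizer_singleton_iff.mpr (hC.central a ha t ht.1))
  exact Subgroup.mem_centralizer_singleton_iff.mp (this hg)

lemma MaxGood.mem_of_pow (hC : CForm r A C z) (hU : MaxGood r A C U z) {y : L}
    (hy : y ∈ centIn C U) (hyr : y ^ r = 1) : y ∈ U ⊔ Subgroup.zpowers z := by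
  by_contra h
  have : y ∈ Ext r C U z := ⟨hy, hyr, h⟩
  rw [hU.2] at this
  exact this

/-- The type where `A` is large or `r` is odd. -/
lemma MaxGood.cent_general (hC : CForm r A C z) (hU : MaxGood r A C U z) (hA : IsCyclic A)
    (hbig : r ≠ 2 ∨ 4 ≤ Nat.card A) : centIn C U = U ⊔ A := by
  obtain ⟨⟨a0, ha0⟩, hgen⟩ := IsCyclic.exists_generator (α := A)
  have hA0 : ∀ a ∈ A, ∃ k : ℤ, a0 ^ k = a := fun a ha => by
    obtain ⟨k, hk⟩ := Subgroup.mem_zpowers_iff.mp (hgen ⟨a, ha⟩)
    exact ⟨k, congrArg Subtype.val hk⟩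
  have hord : orderOf a0 = Nat.card A := by
    rw [← orderOf_eq_card_of_forall_mem_zpowers hgen, Subgroup.orderOf_mk]
  -- every element with a trivial class lies in `U ⊔ A`
  have hker : ∀ y ∈ centIn C U, (∃ a ∈ A, y ^ r = a ^ r) → y ∈ U ⊔ A := by
    rintro y hy ⟨a, ha, hya⟩
    have h1 : (y * a⁻¹) ^ r = 1 := by
      rw [Commute.mul_pow (hC.central a⁻¹ (inv_mem ha) y hy.1).symm, hya, inv_pow, mul_inv_cancel]
    have h2 := hU.mem_of_pow hC (mul_mem hy (hU.1.sup_le_centIn hC (Subgroup.mem_sup_right (inv_mem ha)))) h1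
    rw [show y = y * a⁻¹ * a by group]
    exact mul_mem (sup_le_sup_left hC.zle U h2) (Subgroup.mem_sup_right ha)
  apply hU.1.abelian_centIn hC
  intro s hs t ht
  by_cases hsA : s ∈ U ⊔ A
  · exact hU.1.centre_facts hC s hsA t ht
  obtain ⟨k, hk⟩ := hA0 _ (hC.pow s hs.1)
  obtain ⟨l, hl⟩ := hA0 _ (hC.pow t ht.1)
  have hkr : ¬ (r : ℤ) ∣ k := by
    rintro ⟨m, rfl⟩
    exact hsA (hker s hs ⟨a0 ^ m, zpow_mem ha0 m, by rw [← hk, mul_comm, zpow_mul, zpow_natCast]⟩)
  -- an exponent clearing the class of `t`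
  obtain ⟨i, hi⟩ : ∃ i : ℕ, (r : ℤ) ∣ l + k * i := by
    have hk0 : (k : ZMod r) ≠ 0 := by
      rwa [Ne, ZMod.intCast_zmod_eq_zero_iff_dvd]
    refine ⟨(-(l : ZMod r) / (k : ZMod r)).val, ?_⟩
    rw [← ZMod.intCast_zmod_eq_zero_iff_dvd]
    push_cast
    rw [ZMod.natCast_zmod_val, mul_div_cancel₀ _ hk0, add_neg_cancel]
  -- the commutator is an `r`-th power in `A`
  have hcA : ∀ c ∈ Subgroup.zpowers z, ∃ a ∈ A, c ^ (r * (r - 1) / 2) = a ^ r := by
    intro c hc
    have hcr : c ^ r = 1 := by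
      obtain ⟨j, rfl⟩ := Subgroup.mem_zpowers_iff.mp hc
      rw [← zpow_natCast, ← zpow_mul, mul_comm, zpow_mul, zpow_natCast, ← hC.z_ord, pow_orderOf_eq_one, one_zpow]
    by_cases hr2 : r = 2
    · obtain ⟨j, hj⟩ := hA0 c (hC.zle hc)
      obtain ⟨e, he⟩ := (IsPGroup.iff_card (p := r)).mp (hC.pgrp.to_le hC.le)
      have h4 : 4 ≤ Nat.card A := hbig.resolve_left (fun h => h hr2)
      have he2 : 2 ≤ e := by
        by_contra hlt
        have : Nat.card A ≤ 2 := by
          rw [he, hr2]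
          exact le_trans (Nat.pow_le_pow_right (by norm_num) (show e ≤ 1 by omega)) (le_refl 2)
        omega
      have hdvd : (Nat.card A : ℤ) ∣ j * 2 := by
        rw [← hord, orderOf_dvd_iff_zpow_eq_one, zpow_mul, hj]
        rw [hr2] at hcr
        exact_mod_cast hcr
      have hje : (2 : ℤ) ∣ j := by
        have h42 : (4 : ℤ) ∣ Nat.card A := by
          rw [he, hr2]; exact_mod_cast (pow_dvd_pow 2 he2)
        obtain ⟨w, hw⟩ := dvd_trans h42 hdvd
        exact ⟨w, by omega⟩
      obtain ⟨w, rfl⟩ := hje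
      refine ⟨a0 ^ w, zpow_mem ha0 w, ?_⟩
      rw [hr2, ← hj, show 2 * (2 - 1) / 2 = 1 from rfl, pow_one, ← zpow_natCast (a0 ^ w), ← zpow_mul, mul_comm]
      rfl
    · refine ⟨1, one_mem A, ?_⟩
      have hodd : Odd r := hr.out.odd_of_ne_two hr2
      obtain ⟨m, hm⟩ := hodd
      rw [one_pow, show r * (r - 1) / 2 = r * m by
        rw [show r - 1 = 2 * m by omega, ← mul_assoc, mul_comm r 2, mul_assoc, Nat.mul_div_cancel_left _ (by norm_num)],
        pow_mul, hcr, one_pow]
  have hsi : s ^ i ∈ centIn C U := pow_mem hs i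
  obtain ⟨b, hb, hbc⟩ := hcA _ (hC.comm (s ^ i) hsi.1 t ht.1)
  have hpow : (t * s ^ i) ^ r =
      (s ^ i * t * (s ^ i)⁻¹ * t⁻¹) ^ (r * (r - 1) / 2) * (t ^ r * (s ^ i) ^ r) := by
    apply mul_pow_twist
    · exact hC.central _ (hC.zle (hC.comm _ hsi.1 t ht.1)) t ht.1
    · exact hC.central _ (hC.zle (hC.comm _ hsi.1 t ht.1)) _ hsi.1
    · group
  have hmem : t * s ^ i ∈ U ⊔ A := by
    obtain ⟨m, hm⟩ := hi
    refine hker _ (mul_mem ht hsi) ⟨b * a0 ^ m, mul_mem hb (zpow_mem ha0 m), ?_⟩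
    rw [hpow, hbc, Commute.mul_pow (hC.central b hb _ (hC.le (zpow_mem ha0 m))), ← hl, ← pow_mul,
      mul_comm i r, pow_mul, ← hk, ← zpow_natCast (a0 ^ k), ← zpow_mul, ← zpow_add, hm,
      ← zpow_natCast (a0 ^ m), ← zpow_mul, mul_comm (r : ℤ) m]
  have h2 := hU.1.centre_facts hC _ hmem s hs
  have h3 : s * t = t * s := by
    have e : s * t * s ^ i = t * s * s ^ i := by
      rw [mul_assoc, ← h2, mul_assoc, mul_assoc, (Commute.self_pow s i).eq]
    exact mul_right_cancel e
  exact h3

/-- The type where `A` has order two. -/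
lemma MaxGood.cent_two (hC : CForm r A C z) (hU : MaxGood r A C U z) (hr2 : r = 2)
    (hA : A = Subgroup.zpowers z) :
    Nat.card (centIn C U) = 2 * Nat.card U ∨ Nat.card (centIn C U) = 8 * Nat.card U := by
  subst hr2
  set T := centIn C U with hT
  set H := U ⊔ A with hH
  have hHc : Nat.card H = 2 * Nat.card U := by
    rw [hH, hU.1.card_sup hC, hA, hC.zpow_card]; ring
  by_cases hle : T ≤ H
  · left
    rw [← hHc]
    exact le_antisymm (Subgroup.card_le_of_le hle) (Subgroup.card_le_of_le (hU.1.sup_le_centIn hC))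
  obtain ⟨y, hy, hyH⟩ := SetLike.not_le_iff_exists.mp hle
  have hz2 : z ^ 2 = 1 := by rw [← hC.z_ord, pow_orderOf_eq_one]
  have hsq : ∀ t ∈ T, t ∉ H → t ^ 2 = z := by
    intro t ht htH
    have h := hC.pow t ht.1
    rw [hA] at h
    obtain ⟨k, hk⟩ := mem_powers_iff_mem_zpowers.mpr h
    have hk' : z ^ k = t ^ 2 := hk
    rw [← hk', ← pow_mod_orderOf, hC.z_ord]
    rcases Nat.mod_two_eq_zero_or_one k with h0 | h0
    · exfalso
      refine htH (sup_le_sup_left hC.zle U (hU.mem_of_pow hC ht ?_))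
      rw [← hk', ← pow_mod_orderOf, hC.z_ord, h0, pow_zero]
    · rw [h0, pow_one]
  set T1 := centIn C (H ⊔ Subgroup.zpowers y) with hT1
  set H' := H ⊔ Subgroup.zpowers y with hH'
  have hT1mem : ∀ t ∈ T1, t ∈ T ∧ Commute y t := fun t ht =>
    ⟨centIn_anti (le_trans le_sup_left le_sup_left) ht,
      ht.2 y (Subgroup.mem_sup_right (Subgroup.mem_zpowers y))⟩
  have hHinT1 : ∀ t ∈ T1, t ∈ H ∨ t * y ∈ H := by
    intro t ht
    obtain ⟨htT, hty⟩ := hT1mem t ht
    by_cases h : t ∈ H
    · exact Or.inl h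
    refine Or.inr (sup_le_sup_left hC.zle U (hU.mem_of_pow hC (mul_mem htT hy) ?_))
    rw [(hty.symm).mul_pow, hsq t htT h, hsq y hy hyH, ← sq, hz2]
  have hT1card : Nat.card T1 ≤ 4 * Nat.card U := by
    classical
    let f : T1 → H × Fin 2 := fun t =>
      if h : (t : L) ∈ H then (⟨t, h⟩, 0) else (⟨(t : L) * y, (hHinT1 t t.2).resolve_left h⟩, 1)
    have hf : Function.Injective f := by
      intro a b e
      simp only [f] at e
      split at e <;> split at e
      · exact Subtype.ext (congrArg (fun p : H × Fin 2 => (p.1 : L)) e)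
      · simp at e
      · simp at e
      · exact Subtype.ext (mul_right_cancel (congrArg (fun p : H × Fin 2 => (p.1 : L)) e))
    have := Nat.card_le_card_of_injective f hf
    rw [Nat.card_prod, Nat.card_fin, hHc] at this
    omega
  have hyz : ∀ h ∈ H, h * y = y * h := fun h hh => hU.1.centre_facts hC h hh y hy
  have hH'T1 : H' ≤ T1 := by
    have hyC : y ∈ C := hy.1
    refine sup_le (fun h hh => ⟨(hU.1.sup_le_centIn hC hh).1, ?_⟩) (Subgroup.zpowers_le.mpr ⟨hyC, ?_⟩)
    · intro w hw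
      have : H ⊔ Subgroup.zpowers y ≤ Subgroup.centralizer {h} := sup_le
        (fun a ha => Subgroup.mem_centralizer_singleton_iff.mpr (hU.1.centre_facts hC a ha h (hU.1.sup_le_centIn hC hh)))
        (Subgroup.zpowers_le.mpr (Subgroup.mem_centralizer_singleton_iff.mpr (hyz h hh).symm))
      exact Subgroup.mem_centralizer_singleton_iff.mp (this hw)
    · intro w hw
      have : H ⊔ Subgroup.zpowers y ≤ Subgroup.centralizer {y} := sup_le
        (fun a ha => Subgroup.mem_centralizer_singleton_iff.mpr (hyz a ha))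
        (Subgroup.zpowers_le.mpr (Subgroup.mem_centralizer_singleton_iff.mpr rfl))
      exact Subgroup.mem_centralizer_singleton_iff.mp (this hw)
  have hlt : H < H' := lt_of_le_of_ne le_sup_left fun e =>
    hyH (e.ge (Subgroup.mem_sup_right (Subgroup.mem_zpowers y)))
  have hH'C : H' ≤ C := le_trans hH'T1 inf_le_left
  have h4 := succ_card_le (r := 2) (hC.pgrp.to_le hH'C) hlt
  have hb := hC.bilin' hlt.le hH'C
  rw [show centIn C H = T from centIn_sup_eq (fun g hg a ha => hC.central a ha g hg), hHc, ← hT1] at hb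
  have hH'le : Nat.card H' ≤ Nat.card T1 := Subgroup.card_le_of_le hH'T1
  have hUpos : 0 < Nat.card U := Nat.card_pos
  have hT8 : Nat.card T ≤ 8 * Nat.card U := by
    have h5 : Nat.card T1 * Nat.card H' ≤ 4 * Nat.card U * (4 * Nat.card U) :=
      Nat.mul_le_mul hT1card (le_trans hH'le hT1card)
    nlinarith
  obtain ⟨e, he⟩ := (IsPGroup.iff_card (p := 2)).mp (hC.pgrp.to_le (show T ≤ C from inf_le_left))
  obtain ⟨k, hk⟩ := (IsPGroup.iff_card (p := 2)).mp (hC.pgrp.to_le hU.1.1)
  right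
  rw [hk] at hT8 ⊢
  rw [he] at hT8 ⊢
  have hT4 : ¬ 2 ^ e ≤ 4 * 2 ^ k := by
    intro hle4
    rw [← hk, ← he] at hle4
    have hTH : T = H' := (Subgroup.eq_of_le_of_card_ge (le_trans hH'T1 (fun t ht => (hT1mem t ht).1))
      (by rw [hHc] at h4; omega)).symm
    apply hle
    refine le_of_eq (hU.1.abelian_centIn hC fun s hs t ht => ?_)
    have hs' : s ∈ H' := hTH ▸ hs
    have ht' : t ∈ T1 := hH'T1 (hTH ▸ ht)
    exact ht'.2 s hs'
  have h1 : k + 2 < e := by
    have : 2 ^ (k + 2) < 2 ^ e := by rw [pow_add]; omega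
    exact (Nat.pow_lt_pow_iff_right (by norm_num)).mp this
  have h2 : e ≤ k + 3 := by
    have : 2 ^ e ≤ 2 ^ (k + 3) := by rw [pow_add]; omega
    exact (Nat.pow_le_pow_iff_right (by norm_num)).mp this
  rw [show e = k + 3 by omega, pow_add]; ring

/-- Roots, general type. -/
lemma Good.roots_general (hC : CForm r A C z) (hU : Good r A C U) :
    (Roots r C U).ncard * Nat.card A ≤ r * Nat.card (centIn C U) := by
  classical
  set T := centIn C U with hT
  have hAT : A ≤ T := le_trans le_sup_right (hU.sup_le_centIn hC)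
  let X := {y : L // y ∈ Roots r C U}
  let f : X → T ⧸ A.subgroupOf T := fun y => QuotientGroup.mk ⟨y.1, y.2.1⟩
  have hfib : ∀ c, Nat.card {y : X // f y = c} ≤ r := by
    intro c
    rcases isEmpty_or_nonempty {y : X // f y = c} with h | ⟨⟨y0, hy0⟩⟩
    · simp
    rw [← hC.zpow_card]
    refine Nat.card_le_card_of_injective (fun y => (⟨y0.1⁻¹ * y.1.1, ?_⟩ : Subgroup.zpowers z)) ?_
    · have h1 : f y0 = f y.1 := hy0.trans y.2.symm
      have h2 : y0.1⁻¹ * y.1.1 ∈ A := by
        have := QuotientGroup.eq.mp h1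
        simpa [Subgroup.mem_subgroupOf] using this
      refine hC.z_all _ h2 ?_
      have h3 : Commute y0.1⁻¹ y.1.1 := by
        have h4 : Commute (y0.1⁻¹ * y.1.1) y0.1 := hC.central _ h2 _ y0.2.1.1
        have h6 : y0.1⁻¹ * y.1.1 * y0.1 = y.1.1 := by rw [h4.eq]; group
        show y0.1⁻¹ * y.1.1 = y.1.1 * y0.1⁻¹
        conv_rhs => rw [← h6]
        group
      rw [h3.mul_pow, inv_pow, y0.2.2, y.1.2.2]; simp
    · intro a b e
      exact Subtype.ext (Subtype.ext (mul_left_cancel (congrArg Subtype.val e)))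
  have hX : Nat.card X ≤ r * Nat.card (T ⧸ A.subgroupOf T) := by
    have := Fintype.ofFinite (T ⧸ A.subgroupOf T)
    rw [← Nat.card_congr (Equiv.sigmaFiberEquiv f), Nat.card_sigma, Nat.card_eq_fintype_card, mul_comm,
      ← Finset.card_univ, ← smul_eq_mul, ← Finset.sum_const]
    exact Finset.sum_le_sum fun c _ => hfib c
  calc (Roots r C U).ncard * Nat.card A = Nat.card X * Nat.card A := rfl
    _ ≤ r * Nat.card (T ⧸ A.subgroupOf T) * Nat.card (A.subgroupOf T) := by
        rw [Nat.card_congr (Subgroup.subgroupOfEquivOfLe hAT).toEquiv]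
        exact Nat.mul_le_mul_right _ hX
    _ = r * Nat.card T := by rw [mul_assoc, ← Subgroup.card_eq_card_quotient_mul_card_subgroup]

/-- For `r = 2` the signed count of roots is the same in all centralisers. -/
lemma Good.roots_two (hC : CForm r A C z) (hr2 : r = 2) (hA : A = Subgroup.zpowers z) {U U' : Subgroup L} (hU : Good r A C U)
    (hU' : Good r A C U') (h : U ≤ U') :
    2 * (Roots r C U).ncard + Nat.card (centIn C U') = 2 * (Roots r C U').ncard + Nat.card (centIn C U) := by
  classical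
  suffices H0 : ∀ d, ∀ U : Subgroup L, Good r A C U → U ≤ U' → Nat.card U' - Nat.card U = d →
      2 * (Roots r C U).ncard + Nat.card (centIn C U') = 2 * (Roots r C U').ncard + Nat.card (centIn C U)
    from H0 _ U hU h rfl
  intro d
  induction d using Nat.strong_induction_on with
  | _ d ih =>
    intro U hU h hd
    rcases eq_or_lt_of_le h with rfl | hlt
    · rfl
    obtain ⟨y, hy, hyn⟩ := SetLike.exists_of_lt hlt
    obtain ⟨hg, hc⟩ := hU.extend hC (hU'.mem_ext hC h hy hyn)
    set U1 := U ⊔ Subgroup.zpowers y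
    have hU1 : U1 ≤ U' := sup_le h (Subgroup.zpowers_le.mpr hy)
    have hUpos : 0 < Nat.card U := Nat.card_pos
    have hle := Subgroup.card_le_of_le hU1
    have hlt2 : Nat.card U < Nat.card U1 := by rw [hc, hr2]; omega
    have hrec := ih (Nat.card U' - Nat.card U1) (by omega) U1 hg hU1 rfl
    subst hr2
    set T := centIn C U with hT
    set T' := centIn C U1 with hT'
    have hTT : Nat.card T = 2 * Nat.card T' := by
      have a := hU.centIn_card hC
      have b := hg.centIn_card hC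
      rw [hc, ← hT'] at b
      rw [← hT] at a
      rw [← a] at b
      exact (Nat.eq_of_mul_eq_mul_right hUpos (by rw [← b]; ring)).symm
    have hTle : T' ≤ T := centIn_anti le_sup_left
    have hyT : y ∈ T' := hg.sup_le_centIn hC (Subgroup.mem_sup_left (Subgroup.mem_sup_right (Subgroup.mem_zpowers y)))
    have hy2 : y * y = 1 := by rw [← sq]; exact hU'.2.2 y hy
    set O : Set L := (T : Set L) \ T' with hO
    set I : Set L := {g | g ∈ O ∧ g ^ 2 = 1} with hI
    have hOc : O.ncard = Nat.card T' := by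
      rw [hO, Set.ncard_sdiff (show (T' : Set L) ⊆ T from hTle), ← Nat.card_coe_set_eq, ← Nat.card_coe_set_eq]
      simp only [SetLike.coe_sort_coe]
      omega
    have hflip : ∀ g ∈ O, g * y ∈ O ∧ ((g * y) ^ 2 = 1 ↔ ¬ g ^ 2 = 1) := by
      intro g hg'
      refine ⟨⟨mul_mem hg'.1 (hTle hyT), fun e => hg'.2 ?_⟩, ?_⟩
      · have := mul_mem e hyT
        rwa [mul_assoc, hy2, mul_one] at this
      have hcz := hC.comm y hyT.1 g hg'.1.1
      have hne : y * g * y⁻¹ * g⁻¹ ≠ 1 := by
        intro e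
        apply hg'.2
        refine ⟨hg'.1.1, ?_⟩
        have hgy : g * y = y * g := by
          rw [mul_inv_eq_one, mul_inv_eq_iff_eq_mul] at e; exact e.symm
        show g ∈ Subgroup.centralizer (U1 : Set L)
        rw [Subgroup.mem_centralizer_iff]
        intro w hw
        have : U1 ≤ Subgroup.centralizer {g} := sup_le
          (fun a ha => Subgroup.mem_centralizer_singleton_iff.mpr (hg'.1.2 a ha))
          (Subgroup.zpowers_le.mpr (Subgroup.mem_centralizer_singleton_iff.mpr hgy.symm))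
        exact Subgroup.mem_centralizer_singleton_iff.mp (this hw)
      have hz : y * g * y⁻¹ * g⁻¹ = z := by
        obtain ⟨k, hk⟩ := mem_powers_iff_mem_zpowers.mpr hcz
        have hk' : z ^ k = y * g * y⁻¹ * g⁻¹ := hk
        rw [← hk', ← pow_mod_orderOf, hC.z_ord]
        rcases Nat.mod_two_eq_zero_or_one k with h0 | h0
        · exact absurd (by rw [← hk', ← pow_mod_orderOf, hC.z_ord, h0, pow_zero]) hne
        · rw [h0, pow_one]
      have hgy2 : (g * y) ^ 2 = g ^ 2 * z := by
        have hyg : y * g = z * g * y := by rw [← hz]; group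
        calc (g * y) ^ 2 = g * (y * g) * y := by rw [sq]; simp only [mul_assoc]
          _ = (g * z) * g * (y * y) := by rw [hyg]; simp only [mul_assoc]
          _ = z * g ^ 2 := by rw [← (hC.central z hC.z_mem g hg'.1.1), hy2, mul_one, mul_assoc, sq]
          _ = g ^ 2 * z := hC.central z hC.z_mem _ (C.pow_mem hg'.1.1 2)
      have hz1 : z ≠ 1 := fun e => by have := hC.z_ord; rw [e, orderOf_one] at this; omega
      have hg2 := hC.pow g hg'.1.1
      constructor
      · intro e1 e2
        rw [hgy2, e2, one_mul] at e1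
        exact hz1 e1
      · intro e2
        have hmem : g ^ 2 ∈ Subgroup.zpowers z := hA ▸ hg2
        obtain ⟨k, hk⟩ := mem_powers_iff_mem_zpowers.mpr hmem
        have hk' : z ^ k = g ^ 2 := hk
        rcases Nat.mod_two_eq_zero_or_one k with h0 | h0
        · exact absurd (by rw [← hk', ← pow_mod_orderOf, hC.z_ord, h0, pow_zero]) e2
        · rw [hgy2, ← hk', ← pow_succ, ← pow_mod_orderOf, hC.z_ord,
            show (k + 1) % 2 = 0 by omega, pow_zero]
    have hI2 : 2 * I.ncard = Nat.card T' := by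
      have e1 : (fun g => g * y) '' I = O \ I := by
        ext g
        constructor
        · rintro ⟨w, ⟨hw, hw2⟩, rfl⟩
          exact ⟨(hflip w hw).1, fun hh => ((hflip w hw).2.mp hh.2) hw2⟩
        · rintro ⟨hgO, hgI⟩
          have hg2 : ¬ g ^ 2 = 1 := fun e => hgI ⟨hgO, e⟩
          exact ⟨g * y, ⟨(hflip g hgO).1, (hflip g hgO).2.mpr hg2⟩, by simp only; rw [mul_assoc, hy2, mul_one]⟩
      have e2 := Set.ncard_image_of_injective I (f := fun g => g * y) (fun a b e => mul_right_cancel e)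
      rw [e1, Set.ncard_sdiff (show I ⊆ O from fun g hg => hg.1), hOc] at e2
      have e3 : I.ncard ≤ O.ncard := Set.ncard_le_ncard (fun g hg => hg.1) (Set.toFinite _)
      omega
    have hsplit : (Roots 2 C U).ncard = (Roots 2 C U1).ncard + I.ncard := by
      rw [← Set.ncard_union_eq ?_ (Set.toFinite _) (Set.toFinite _)]
      · congr 1
        ext g
        constructor
        · rintro ⟨hgT, hg2⟩
          by_cases hgT' : g ∈ T'
          · exact Or.inl ⟨hgT', hg2⟩
          · exact Or.inr ⟨⟨hgT, hgT'⟩, hg2⟩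
        · rintro (⟨hgT, hg2⟩ | ⟨⟨hgT, -⟩, hg2⟩)
          · exact ⟨hTle hgT, hg2⟩
          · exact ⟨hgT, hg2⟩
      · exact Set.disjoint_left.mpr fun g hg hg' => hg'.1.2 hg.1
    omega

end Cfsg.Agent.DerIdx59
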