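import Mathlib

/-! Class two `r`-groups with a commutator pairing: centralisers and counts of subgroups. -/

set_option autoImplicit false
set_option linter.unusedSectionVars false

namespace Cfsg.Agent.DerIdx59

variable {L : Type*} [Group L] [Finite L]

lemma exists_of_mem_sup {H K : Subgroup L} (hc : ∀ h ∈ H, ∀ k ∈ K, Commute h k) {w : L}
    (hw : w ∈ H ⊔ K) : ∃ h ∈ H, ∃ k ∈ K, h * k = w := by
  have hr : _ = H.subtype.range ⊔ K.subtype.range :=
    MonoidHom.noncommCoprod_range H.subtype K.subtype (fun h k => hc h h.2 k k.2)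
  rw [Subgroup.range_subtype, Subgroup.range_subtype] at hr
  rw [← hr] at hw
  obtain ⟨⟨h, k⟩, rfl⟩ := hw
  exact ⟨h, h.2, k, k.2, rfl⟩

lemma card_sup_of_commute {H K : Subgroup L} (hc : ∀ h ∈ H, ∀ k ∈ K, Commute h k)
    (hd : H ⊓ K = ⊥) : Nat.card (H ⊔ K : Subgroup L) = Nat.card H * Nat.card K := by
  let f : H × K →* L := MonoidHom.noncommCoprod H.subtype K.subtype (fun h k => hc h h.2 k k.2)
  have hinj : Function.Injective f := by
    rw [injective_iff_map_eq_one]
    rintro ⟨h, k⟩ e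
    have e' : (h : L) * k = 1 := e
    have hh : (h : L) = (k : L)⁻¹ := eq_inv_of_mul_eq_one_left e'
    have h1 : (h : L) ∈ H ⊓ K := Subgroup.mem_inf.mpr ⟨h.2, by rw [hh]; exact inv_mem k.2⟩
    rw [hd, Subgroup.mem_bot] at h1
    rw [h1, one_mul] at e'
    exact Prod.ext (Subtype.ext h1) (Subtype.ext e')
  have hr : f.range = H ⊔ K := by
    have := MonoidHom.noncommCoprod_range H.subtype K.subtype (fun h k => hc h h.2 k k.2)
    rw [Subgroup.range_subtype, Subgroup.range_subtype] at this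
    exact this
  rw [← hr, ← Nat.card_prod]
  exact (Nat.card_congr (MonoidHom.ofInjective hinj).toEquiv).symm

/-- The centraliser of `H` inside `B`. -/
def centIn (B H : Subgroup L) : Subgroup L := B ⊓ Subgroup.centralizer (H : Set L)

lemma mem_centIn {B H : Subgroup L} {g : L} : g ∈ centIn B H ↔ g ∈ B ∧ ∀ h ∈ H, h * g = g * h :=
  Iff.rfl

lemma centIn_anti {B H H' : Subgroup L} (h : H ≤ H') : centIn B H' ≤ centIn B H :=
  fun _ hg => ⟨hg.1, fun x hx => hg.2 x (h hx)⟩

lemma centIn_sup_eq {B H H' : Subgroup L} (hB : ∀ g ∈ B, ∀ h ∈ H', h * g = g * h) :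
    centIn B (H ⊔ H') = centIn B H := by
  refine le_antisymm (centIn_anti le_sup_left) fun g hg => ⟨hg.1, ?_⟩
  show g ∈ Subgroup.centralizer ((H ⊔ H' : Subgroup L) : Set L)
  rw [Subgroup.mem_centralizer_iff]
  intro x hx
  have : H ⊔ H' ≤ Subgroup.centralizer {g} := sup_le
    (fun y hy => Subgroup.mem_centralizer_singleton_iff.mpr (hg.2 y hy))
    (fun y hy => Subgroup.mem_centralizer_singleton_iff.mpr (hB g hg.1 y hy))
  exact Subgroup.mem_centralizer_singleton_iff.mp (this hx)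

lemma succ_card_le {r : ℕ} [hr : Fact r.Prime] {H H' : Subgroup L} (hH' : IsPGroup r H') (h : H < H') :
    Nat.card H * r ≤ Nat.card H' := by
  obtain ⟨a, ha⟩ := IsPGroup.iff_card.mp (hH'.to_le h.le)
  obtain ⟨b, hb⟩ := IsPGroup.iff_card.mp hH'
  have h2 : Nat.card H < Nat.card H' := by
    by_contra hle
    exact h.ne (Subgroup.eq_of_le_of_card_ge h.le (by omega))
  rw [ha, hb] at h2 ⊢
  rw [← pow_succ]
  exact Nat.pow_le_pow_right hr.out.pos (Nat.succ_le_of_lt ((Nat.pow_lt_pow_iff_right hr.out.one_lt).mp h2))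

/-- The commutator pairing bounds the growth of centralisers. -/
lemma bilin {r : ℕ} [hr : Fact r.Prime] {B C : Subgroup L} {z : L} (hz : orderOf z = r)
    (hzB : ∀ b ∈ B, Commute z b) (hcomm : ∀ b ∈ B, ∀ c ∈ C, b * c * b⁻¹ * c⁻¹ ∈ Subgroup.zpowers z)
    (hC : IsPGroup r C) {H H' : Subgroup L} (h : H ≤ H') (h' : H' ≤ C) :
    Nat.card (centIn B H) * Nat.card H ≤ Nat.card (centIn B H') * Nat.card H' := by
  suffices H0 : ∀ d, ∀ H : Subgroup L, H ≤ H' → Nat.card H' - Nat.card H = d →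
      Nat.card (centIn B H) * Nat.card H ≤ Nat.card (centIn B H') * Nat.card H' from H0 _ H h rfl
  intro d
  induction d using Nat.strong_induction_on with
  | _ d ih =>
    intro H hH hd
    rcases eq_or_lt_of_le hH with rfl | hlt
    · exact le_rfl
    obtain ⟨y, hy, hyn⟩ := SetLike.exists_of_lt hlt
    set H1 := H ⊔ Subgroup.zpowers y with hH1
    have hH1' : H1 ≤ H' := sup_le hH (Subgroup.zpowers_le.mpr hy)
    have hlt1 : H < H1 := lt_of_le_of_ne le_sup_left fun e =>
      hyn (e.ge (Subgroup.mem_sup_right (Subgroup.mem_zpowers y)))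
    have hstep := succ_card_le (hC.to_le (le_trans hH1' h')) hlt1
    have hzc : ∀ b ∈ B, ∀ w ∈ Subgroup.zpowers z, Commute b w := by
      intro b hb w hw
      obtain ⟨k, rfl⟩ := Subgroup.mem_zpowers_iff.mp hw
      exact ((hzB b hb).symm).zpow_right k
    let f : centIn B H →* Subgroup.zpowers z :=
      { toFun := fun g => ⟨(g : L) * y * (g : L)⁻¹ * y⁻¹, hcomm g g.2.1 y (h' hy)⟩
        map_one' := Subtype.ext (by simp)
        map_mul' := fun a b => Subtype.ext (by
          have hw := hzc a a.2.1 _ (hcomm b b.2.1 y (h' hy))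
          have hw2 := hcomm a a.2.1 y (h' hy)
          simp only [Subgroup.coe_mul]
          have hcw : Commute ((b : L) * y * (b : L)⁻¹ * y⁻¹) ((a : L) * y * (a : L)⁻¹ * y⁻¹) := by
            obtain ⟨k, hk⟩ := Subgroup.mem_zpowers_iff.mp hw2
            obtain ⟨l, hl⟩ := Subgroup.mem_zpowers_iff.mp (hcomm b b.2.1 y (h' hy))
            rw [← hk, ← hl]; exact (Commute.refl z).zpow_zpow l k
          rw [show (a : L) * b * y * ((a : L) * b)⁻¹ * y⁻¹ =
              ((a : L) * ((b : L) * y * (b : L)⁻¹ * y⁻¹)) * (a : L)⁻¹ * ((a : L) * y * (a : L)⁻¹ * y⁻¹) by group,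
            hw.eq, mul_inv_cancel_right, hcw.eq]) }
    have hker : Nat.card f.ker ≤ Nat.card (centIn B H1) := by
      refine Nat.card_le_card_of_injective (fun g => (⟨(g.1 : L), g.1.2.1, ?_⟩ : centIn B H1))
        (fun a b e => Subtype.ext (Subtype.ext (congrArg (fun w : centIn B H1 => (w : L)) e)))
      show (g.1 : L) ∈ Subgroup.centralizer (H1 : Set L)
      rw [Subgroup.mem_centralizer_iff]
      intro x hx
      have hg : (g.1 : L) * y * (g.1 : L)⁻¹ * y⁻¹ = 1 := congrArg Subtype.val g.2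
      have hgy : (g.1 : L) * y = y * (g.1 : L) := by
        rw [mul_inv_eq_one, mul_inv_eq_iff_eq_mul] at hg; exact hg
      have : H1 ≤ Subgroup.centralizer {(g.1 : L)} := sup_le
        (fun w hw => Subgroup.mem_centralizer_singleton_iff.mpr (g.1.2.2 w hw))
        (Subgroup.zpowers_le.mpr (Subgroup.mem_centralizer_singleton_iff.mpr hgy.symm))
      exact Subgroup.mem_centralizer_singleton_iff.mp (this hx)
    have hidx : Nat.card (centIn B H) ≤ r * Nat.card (centIn B H1) := by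
      rw [Subgroup.card_eq_card_quotient_mul_card_subgroup f.ker]
      refine Nat.mul_le_mul ?_ hker
      rw [Nat.card_congr (QuotientGroup.quotientKerEquivRange f).toEquiv, ← hz, ← Nat.card_zpowers]
      exact f.range.card_le_card_group
    have hlt2 : Nat.card H < Nat.card H1 := by
      have := hr.out.one_lt
      have : 0 < Nat.card H := Nat.card_pos
      nlinarith
    have hle1 : Nat.card H1 ≤ Nat.card H' := Subgroup.card_le_of_le hH1'
    refine le_trans ?_ (ih (Nat.card H' - Nat.card H1) (by omega) H1 hH1' rfl)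
    calc Nat.card (centIn B H) * Nat.card H ≤ r * Nat.card (centIn B H1) * Nat.card H :=
          Nat.mul_le_mul_right _ hidx
      _ = Nat.card (centIn B H1) * (Nat.card H * r) := by ring
      _ ≤ _ := Nat.mul_le_mul_left _ hstep

/-- A class two group with commutators in `⟨z⟩` and centre `A`. -/
structure CForm (r : ℕ) (A C : Subgroup L) (z : L) : Prop where
  le : A ≤ C
  central : ∀ a ∈ A, ∀ c ∈ C, a * c = c * a
  z_mem : z ∈ A
  z_ord : orderOf z = r
  z_all : ∀ a ∈ A, a ^ r = 1 → a ∈ Subgroup.zpowers z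
  comm : ∀ x ∈ C, ∀ y ∈ C, x * y * x⁻¹ * y⁻¹ ∈ Subgroup.zpowers z
  pow : ∀ x ∈ C, x ^ r ∈ A
  centre : ∀ x ∈ C, (∀ y ∈ C, x * y = y * x) → x ∈ A
  pgrp : IsPGroup r C

/-- Elementary abelian subgroups of `C` meeting `A` trivially. -/
def Good (r : ℕ) (A C U : Subgroup L) : Prop := U ≤ C ∧ U ⊓ A = ⊥ ∧ ∀ u ∈ U, u ^ r = 1

/-- Elements extending a good subgroup. -/
def Ext (r : ℕ) (C U : Subgroup L) (z : L) : Set L :=
  {y | y ∈ centIn C U ∧ y ^ r = 1 ∧ y ∉ U ⊔ Subgroup.zpowers z}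

/-- Elements of the centraliser of `U` with trivial `r`-th power. -/
def Roots (r : ℕ) (C U : Subgroup L) : Set L := {y | y ∈ centIn C U ∧ y ^ r = 1}

variable {r : ℕ} [hr : Fact r.Prime] {A C U : Subgroup L} {z : L}

lemma CForm.zle (hC : CForm r A C z) : Subgroup.zpowers z ≤ A := Subgroup.zpowers_le.mpr hC.z_mem

lemma CForm.zcomm (hC : CForm r A C z) : ∀ b ∈ C, Commute z b := fun b hb => hC.central z hC.z_mem b hb

lemma CForm.zpow_card (hC : CForm r A C z) : Nat.card (Subgroup.zpowers z) = r := by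
  rw [Nat.card_zpowers, hC.z_ord]

lemma CForm.bilin' (hC : CForm r A C z) {H H' : Subgroup L} (h : H ≤ H') (h' : H' ≤ C) :
    Nat.card (centIn C H) * Nat.card H ≤ Nat.card (centIn C H') * Nat.card H' :=
  bilin hC.z_ord hC.zcomm hC.comm hC.pgrp h h'

lemma CForm.exact' (hC : CForm r A C z) {H : Subgroup L} (h : A ≤ H) (h' : H ≤ C) :
    Nat.card (centIn C H) * Nat.card H = Nat.card C * Nat.card A := by
  have h1 := hC.bilin' h h'
  have h2 := hC.bilin' h' le_rfl
  have e1 : centIn C A = C := le_antisymm inf_le_left fun c hc => ⟨hc, fun a ha => hC.central a ha c hc⟩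
  have e2 : centIn C C ≤ A := fun c hc => hC.centre c hc.1 fun y hy => (hc.2 y hy).symm
  rw [e1] at h1
  have h3 : Nat.card (centIn C C) * Nat.card C ≤ Nat.card A * Nat.card C :=
    Nat.mul_le_mul_right _ (Subgroup.card_le_of_le e2)
  rw [mul_comm (Nat.card A)] at h3
  omega

lemma Good.comm (hC : CForm r A C z) (hU : Good r A C U) : ∀ u ∈ U, ∀ v ∈ U, u * v = v * u := by
  intro u hu v hv
  have h1 : u * v * u⁻¹ * v⁻¹ ∈ U ⊓ A := Subgroup.mem_inf.mpr
    ⟨mul_mem (mul_mem (mul_mem hu hv) (inv_mem hu)) (inv_mem hv), hC.zle (hC.comm u (hU.1 hu) v (hU.1 hv))⟩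
  rw [hU.2.1, Subgroup.mem_bot, mul_inv_eq_one, mul_inv_eq_iff_eq_mul] at h1
  exact h1

lemma Good.inf_zpowers (hC : CForm r A C z) (hU : Good r A C U) : U ⊓ Subgroup.zpowers z = ⊥ :=
  le_bot_iff.mp (hU.2.1 ▸ inf_le_inf_left U hC.zle)

lemma Good.card_sup (hC : CForm r A C z) (hU : Good r A C U) :
    Nat.card (U ⊔ A : Subgroup L) = Nat.card U * Nat.card A :=
  card_sup_of_commute (fun u hu a ha => (hC.central a ha u (hU.1 hu)).symm) hU.2.1

lemma Good.card_sup_z (hC : CForm r A C z) (hU : Good r A C U) :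
    Nat.card (U ⊔ Subgroup.zpowers z : Subgroup L) = Nat.card U * r := by
  rw [card_sup_of_commute (fun u hu a ha => (hC.central a (hC.zle ha) u (hU.1 hu)).symm)
    (hU.inf_zpowers hC), hC.zpow_card]

lemma Good.centIn_card (hC : CForm r A C z) (hU : Good r A C U) :
    Nat.card (centIn C U) * Nat.card U = Nat.card C := by
  have h := hC.exact' (H := U ⊔ A) le_sup_right (sup_le hU.1 hC.le)
  rw [hU.card_sup hC, centIn_sup_eq (fun g hg a ha => hC.central a ha g hg), ← mul_assoc] at h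
  exact Nat.eq_of_mul_eq_mul_right Nat.card_pos h

lemma Good.sup_le_centIn (hC : CForm r A C z) (hU : Good r A C U) : U ⊔ A ≤ centIn C U :=
  sup_le (fun u hu => ⟨hU.1 hu, fun v hv => hU.comm hC v hv u hu⟩)
    (fun a ha => ⟨hC.le ha, fun v hv => (hC.central a ha v (hU.1 hv)).symm⟩)

lemma Good.abelian_centIn (hC : CForm r A C z) (hU : Good r A C U)
    (h : ∀ s ∈ centIn C U, ∀ t ∈ centIn C U, s * t = t * s) : centIn C U = U ⊔ A := by
  refine (Subgroup.eq_of_le_of_card_ge (hU.sup_le_centIn hC) ?_).symm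
  set T := centIn C U
  have h1 := hC.exact' (H := T) (le_trans le_sup_right (hU.sup_le_centIn hC)) inf_le_left
  have h2 : Nat.card T ≤ Nat.card (centIn C T) :=
    Subgroup.card_le_of_le fun t ht => ⟨ht.1, fun s hs => h s hs t ht⟩
  have h3 : Nat.card T * Nat.card U = Nat.card C := hU.centIn_card hC
  rw [← h3] at h1
  have h4 : Nat.card T * Nat.card T ≤ Nat.card T * (Nat.card U * Nat.card A) := by
    calc _ ≤ Nat.card (centIn C T) * Nat.card T := Nat.mul_le_mul_right _ h2
      _ = _ := by rw [h1]; ring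
  rw [hU.card_sup hC]
  exact Nat.le_of_mul_le_mul_left h4 Nat.card_pos

lemma Good.extend (hC : CForm r A C z) (hU : Good r A C U) {y : L} (hy : y ∈ Ext r C U z) :
    Good r A C (U ⊔ Subgroup.zpowers y) ∧
      Nat.card (U ⊔ Subgroup.zpowers y : Subgroup L) = Nat.card U * r := by
  obtain ⟨hyc, hyr, hyn⟩ := hy
  have hy1 : y ≠ 1 := fun e => hyn (e ▸ one_mem _)
  have hord : orderOf y = r := orderOf_eq_prime hyr hy1
  have hcm : ∀ u ∈ U, ∀ k ∈ Subgroup.zpowers y, Commute u k := by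
    intro u hu k hk
    obtain ⟨i, rfl⟩ := Subgroup.mem_zpowers_iff.mp hk
    exact Commute.zpow_right (hyc.2 u hu) i
  have hmem : ∀ w ∈ U ⊔ Subgroup.zpowers y, ∃ u ∈ U, ∃ i : ℕ, i < r ∧ w = u * y ^ i := by
    intro w hw
    obtain ⟨u, hu, k, hk, rfl⟩ := exists_of_mem_sup hcm hw
    obtain ⟨i, hi⟩ := mem_powers_iff_mem_zpowers.mpr hk
    refine ⟨u, hu, i % r, Nat.mod_lt _ hr.out.pos, ?_⟩
    rw [← hord, pow_mod_orderOf]
    exact congrArg (u * ·) hi.symm
  have hr1 : ∀ w ∈ U ⊔ Subgroup.zpowers y, w ^ r = 1 := by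
    intro w hw
    obtain ⟨u, hu, i, -, rfl⟩ := hmem w hw
    rw [Commute.mul_pow (hcm u hu _ (pow_mem (Subgroup.mem_zpowers y) i)), hU.2.2 u hu, ← pow_mul,
      mul_comm, pow_mul, hyr, one_pow, one_mul]
  refine ⟨⟨sup_le hU.1 (Subgroup.zpowers_le.mpr hyc.1), ?_, hr1⟩, ?_⟩
  · rw [Subgroup.eq_bot_iff_forall]
    rintro w ⟨hw, hwA⟩
    have hwz := hC.z_all w hwA (hr1 w hw)
    obtain ⟨u, hu, i, hi, rfl⟩ := hmem w hw
    rcases Nat.eq_zero_or_pos i with rfl | hi0
    · rw [pow_zero, mul_one] at hwA ⊢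
      have : u ∈ U ⊓ A := ⟨hu, hwA⟩
      rwa [hU.2.1, Subgroup.mem_bot] at this
    exfalso
    have h1 : y ^ i ∈ U ⊔ Subgroup.zpowers z := by
      rw [show y ^ i = u⁻¹ * (u * y ^ i) by group]
      exact mul_mem (Subgroup.mem_sup_left (inv_mem hu)) (Subgroup.mem_sup_right hwz)
    have hcop : (orderOf y).Coprime i := by
      rw [hord]; exact hr.out.coprime_iff_not_dvd.mpr (Nat.not_dvd_of_pos_of_lt hi0 hi)
    obtain ⟨m, hm⟩ := exists_pow_eq_self_of_coprime (x := y) hcop.symm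
    exact hyn (hm ▸ pow_mem h1 m)
  · rw [card_sup_of_commute hcm, Nat.card_zpowers, hord]
    rw [Subgroup.eq_bot_iff_forall]
    rintro w ⟨hwU, hwy⟩
    obtain ⟨i, hi⟩ := mem_powers_iff_mem_zpowers.mpr hwy
    have hi' : y ^ i = w := hi
    by_contra hw1
    have hcop : (orderOf y).Coprime i := by
      rw [hord, hr.out.coprime_iff_not_dvd]
      rintro ⟨t, rfl⟩
      exact hw1 (by rw [← hi', pow_mul, hyr, one_pow])
    obtain ⟨m, hm⟩ := exists_pow_eq_self_of_coprime (x := y) hcop.symm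
    exact hyn (hm ▸ Subgroup.mem_sup_left (pow_mem (hi' ▸ hwU) m))

lemma Good.mem_ext (hC : CForm r A C z) {U' : Subgroup L} (hU' : Good r A C U') (h : U ≤ U')
    {y : L} (hy : y ∈ U') (hyn : y ∉ U) : y ∈ Ext r C U z := by
  refine ⟨⟨hU'.1 hy, fun u hu => hU'.comm hC u (h hu) y hy⟩, hU'.2.2 y hy, fun hmem => hyn ?_⟩
  obtain ⟨u, hu, k, hk, hk'⟩ := exists_of_mem_sup
    (fun a ha b hb => (hC.central b (hC.zle hb) a (hU'.1 (h ha))).symm) hmem
  have hk1 : k ∈ U' ⊓ A := Subgroup.mem_inf.mpr ⟨by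
    rw [show k = u⁻¹ * y by rw [← hk']; group]
    exact mul_mem (inv_mem (h hu)) hy, hC.zle hk⟩
  rw [hU'.2.1, Subgroup.mem_bot] at hk1
  rw [← hk', hk1, mul_one]; exact hu

lemma Good.le_roots (hC : CForm r A C z) (hU : Good r A C U) :
    ((U ⊔ Subgroup.zpowers z : Subgroup L) : Set L) ⊆ Roots r C U := by
  intro y hy
  have hy' : y ∈ U ⊔ Subgroup.zpowers z := hy
  refine ⟨hU.sup_le_centIn hC (sup_le_sup_left hC.zle U hy'), ?_⟩
  obtain ⟨u, hu, k, hk, rfl⟩ := exists_of_mem_sup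
    (fun a ha b hb => (hC.central b (hC.zle hb) a (hU.1 ha)).symm) hy'
  show (u * k) ^ r = 1
  obtain ⟨i, hi⟩ := Subgroup.mem_zpowers_iff.mp hk
  rw [Commute.mul_pow (hC.central k (hC.zle hk) u (hU.1 hu)).symm, hU.2.2 u hu, ← hi,
    ← zpow_natCast, ← zpow_mul, mul_comm i, zpow_mul, zpow_natCast, ← hC.z_ord, pow_orderOf_eq_one]
  simp

lemma Good.card_ext (hC : CForm r A C z) (hU : Good r A C U) :
    (Ext r C U z).ncard = (Roots r C U).ncard - Nat.card U * r := by
  have e : Ext r C U z = Roots r C U \ (U ⊔ Subgroup.zpowers z : Subgroup L) := by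
    ext y; simp [Ext, Roots, and_assoc]
  rw [e, Set.ncard_sdiff (hU.le_roots hC), ← Nat.card_coe_set_eq (s := ((U ⊔ Subgroup.zpowers z : Subgroup L) : Set L))]
  exact congrArg ((Roots r C U).ncard - ·) (hU.card_sup_z hC)

/-- Double counting of ordered bases. -/
lemma count_goods (hC : CForm r A C z) (u : ℕ) (ch : ℕ → ℕ)
    (hch : ∀ U : Subgroup L, ∀ k < u, Good r A C U → Nat.card U = r ^ k →
      (Roots r C U).ncard ≤ ch k + r ^ (k + 1)) :
    {U' : Subgroup L | Good r A C U' ∧ Nat.card U' = r ^ u}.ncard *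
      ∏ i ∈ Finset.range u, (r ^ u - r ^ i) ≤ ∏ i ∈ Finset.range u, ch i := by
  classical
  suffices H : ∀ j k, j + k = u → ∀ U : Subgroup L, Good r A C U → Nat.card U = r ^ k →
      {U' : Subgroup L | Good r A C U' ∧ Nat.card U' = r ^ u ∧ U ≤ U'}.ncard *
        ∏ i ∈ Finset.range j, (r ^ u - r ^ (k + i)) ≤ ∏ i ∈ Finset.range j, ch (k + i) by
    have := H u 0 (add_zero u) ⊥ ⟨bot_le, bot_inf_eq _, fun v hv => by rw [Subgroup.mem_bot.mp hv, one_pow]⟩ (by simp)
    simp only [Nat.zero_add, bot_le, and_true] at this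
    exact this
  intro j
  induction j with
  | zero =>
    intro k hk U _ hcard
    simp only [Finset.range_zero, Finset.prod_empty, mul_one]
    refine (Set.ncard_le_one (Set.toFinite _)).mpr ?_
    rintro a ⟨-, ha, ha'⟩ b ⟨-, hb, hb'⟩
    rw [Nat.zero_add] at hk
    subst hk
    rw [← Subgroup.eq_of_le_of_card_ge ha' (by omega), ← Subgroup.eq_of_le_of_card_ge hb' (by omega)]
  | succ j ih =>
    intro k hk U hU hcard
    have := Fintype.ofFinite L
    rw [Finset.prod_range_succ', Finset.prod_range_succ']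
    set X : Finset (Subgroup L) := (Set.toFinite {U' : Subgroup L | Good r A C U' ∧ Nat.card U' = r ^ u ∧ U ≤ U'}).toFinset with hX
    have hXmem : ∀ U', U' ∈ X ↔ Good r A C U' ∧ Nat.card U' = r ^ u ∧ U ≤ U' := fun U' => by simp [hX]
    rw [Set.ncard_eq_toFinset_card _ (Set.toFinite _), ← hX]
    set Y : Finset L := Finset.univ.filter (fun y => y ∈ Ext r C U z) with hY
    have hYc : Y.card ≤ ch k := by
      have h1 : Y.card = (Ext r C U z).ncard := by
        rw [← Set.ncard_coe_finset]; congr 1; ext; simp [hY]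
      rw [h1, hU.card_ext hC, hcard, ← pow_succ]
      have := hch U k (by omega) hU hcard
      omega
    set P := ∏ i ∈ Finset.range j, (r ^ u - r ^ (k + (i + 1))) with hP
    have key : ∀ y ∈ Y, (X.filter (fun U' => y ∈ U')).card * P ≤ ∏ i ∈ Finset.range j, ch (k + (i + 1)) := by
      intro y hy
      simp only [hY, Finset.mem_filter, Finset.mem_univ, true_and] at hy
      obtain ⟨hg, hc⟩ := hU.extend hC hy
      have := ih (k + 1) (by omega) _ hg (by rw [hc, hcard, pow_succ])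
      simp only [add_assoc, add_comm 1] at this
      refine le_trans (Nat.mul_le_mul_right _ ?_) this
      rw [← Set.ncard_coe_finset]
      refine Set.ncard_le_ncard ?_ (Set.toFinite _)
      intro U' hU'
      simp only [Finset.coe_filter, Set.mem_setOf_eq] at hU' ⊢
      obtain ⟨h1, h2⟩ := hU'
      rw [hXmem] at h1
      exact ⟨h1.1, h1.2.1, sup_le h1.2.2 (Subgroup.zpowers_le.mpr h2)⟩
    have hcount : X.card * (r ^ u - r ^ k) ≤ ∑ y ∈ Y, (X.filter (fun U' => y ∈ U')).card := by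
      have e1 : ∑ y ∈ Y, (X.filter (fun U' => y ∈ U')).card =
          ∑ U' ∈ X, (Y.filter (fun y => y ∈ U')).card :=
        Finset.sum_card_bipartiteAbove_eq_sum_card_bipartiteBelow (fun (y : L) (U' : Subgroup L) => y ∈ U')
      rw [e1, ← smul_eq_mul, ← Finset.sum_const]
      refine Finset.sum_le_sum fun U' hU' => ?_
      obtain ⟨hg, hc, hle⟩ := (hXmem U').mp hU'
      have hsub : ((U' : Set L) \ U) ⊆ ((Y.filter (fun y => y ∈ U') : Finset L) : Set L) := by
        intro y hy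
        simp only [Finset.coe_filter, hY, Finset.mem_filter, Finset.mem_univ, true_and, Set.mem_setOf_eq]
        exact ⟨hg.mem_ext hC hle hy.1 hy.2, hy.1⟩
      have := Set.ncard_le_ncard hsub (Set.toFinite _)
      rw [Set.ncard_coe_finset, Set.ncard_sdiff (show (U : Set L) ⊆ U' from hle),
        ← Nat.card_coe_set_eq, ← Nat.card_coe_set_eq] at this
      simp only [SetLike.coe_sort_coe] at this
      rw [hc, hcard] at this
      exact this
    calc X.card * (P * (r ^ u - r ^ (k + 0))) = X.card * (r ^ u - r ^ k) * P := by rw [add_zero]; ring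
      _ ≤ (∑ y ∈ Y, (X.filter (fun U' => y ∈ U')).card) * P := Nat.mul_le_mul_right _ hcount
      _ = ∑ y ∈ Y, (X.filter (fun U' => y ∈ U')).card * P := Finset.sum_mul _ _ _
      _ ≤ ∑ _y ∈ Y, ∏ i ∈ Finset.range j, ch (k + (i + 1)) := Finset.sum_le_sum key
      _ = Y.card * ∏ i ∈ Finset.range j, ch (k + (i + 1)) := by rw [Finset.sum_const, smul_eq_mul]
      _ ≤ _ := by rw [mul_comm, add_zero]; exact Nat.mul_le_mul_left _ hYc

end Cfsg.Agent.DerIdx59
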