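import Cfsg.Agent.DerIdx59.Abelian
import Cfsg.Agent.DerIdx59.Count

/-! A linear group that is not semiregular has small index over its elements with fixed vectors. -/

set_option autoImplicit false
set_option linter.unusedSectionVars false

namespace Cfsg.Agent.DerIdx59

open MulAction
open scoped Pointwise

variable {L V : Type*} [Group L] [Finite L] [AddCommGroup V] [Finite V] [DistribMulAction L V]
variable {r : ℕ} [hr : Fact r.Prime] {A C : Subgroup L} {z : L} {E : Subgroup L} [E.Normal]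

lemma conj_fix {r : ℕ} [Fact r.Prime] {z s : L} {e : ℕ} {k : ℤ} (hz : z ^ r = 1)
    (hk : s * z * s⁻¹ = z ^ k) (hs : s ^ r ^ e = 1) : s * z * s⁻¹ = z := by
  have h1 : ∀ n : ℕ, s ^ n * z * (s ^ n)⁻¹ = z ^ (k ^ n) := by
    intro n
    induction n with
    | zero => simp
    | succ n ih =>
      calc s ^ (n + 1) * z * (s ^ (n + 1))⁻¹ = s * (s ^ n * z * (s ^ n)⁻¹) * s⁻¹ := by group
        _ = (s * z * s⁻¹) ^ (k ^ n) := by rw [ih, conj_zpow]
        _ = z ^ (k ^ (n + 1)) := by rw [hk, ← zpow_mul, pow_succ']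
  have h2 := h1 (r ^ e)
  rw [hs] at h2
  simp only [one_mul, inv_one, mul_one] at h2
  have h3 : (r : ℤ) ∣ k ^ r ^ e - k := by
    rw [← ZMod.intCast_zmod_eq_zero_iff_dvd]
    push_cast
    rw [ZMod.pow_card_pow, sub_self]
  obtain ⟨m, hm⟩ := h3
  have h4 : z ^ (k ^ r ^ e - k) = 1 := by rw [hm, zpow_mul, zpow_natCast, hz, one_zpow]
  rw [zpow_sub, ← h2, mul_inv_eq_one] at h4
  rw [hk]; exact h4.symm

/-- The stabiliser of a vector in `C`. -/
def St (C : Subgroup L) (v : V) : Subgroup L := C ⊓ stabilizer L v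

lemma St.good (hC : CForm r A C z) (hA : SemiReg A V) {v : V} (hv : v ≠ 0) : Good r A C (St C v) := by
  refine ⟨inf_le_left, ?_, fun u hu => ?_⟩
  · rw [Subgroup.eq_bot_iff_forall]
    rintro w ⟨⟨-, hwv⟩, hwA⟩
    by_contra hne
    exact hv (hA w hwA hne v hwv)
  · by_contra hne
    exact hv (hA _ (hC.pow u hu.1) hne v ((stabilizer L v).pow_mem hu.2 r))

lemma fix_pow (hC : CForm r A C z) (hA : SemiReg A V) (hrV : ∀ v : V, r • v = 0 → v = 0)
    {U' : Subgroup L} (hU' : Good r A C U') :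
    Nat.card (fixW V U') ^ Nat.card U' ≤ Nat.card V := by
  suffices H : ∀ d, ∀ U : Subgroup L, Good r A C U → U ≤ U' → Nat.card U' - Nat.card U = d →
      Nat.card (fixW V U') ^ Nat.card U' ≤ Nat.card (fixW V U) ^ Nat.card U by
    refine le_trans (H _ ⊥ ⟨bot_le, bot_inf_eq _, fun v hv => by rw [Subgroup.mem_bot.mp hv, one_pow]⟩ bot_le rfl) ?_
    rw [Subgroup.card_bot, pow_one]
    exact Nat.card_le_card_of_injective _ Subtype.val_injective
  intro d
  induction d using Nat.strong_induction_on with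
  | _ d ih =>
    intro U hU h hd
    rcases eq_or_lt_of_le h with rfl | hlt
    · exact le_rfl
    obtain ⟨y, hy, hyn⟩ := SetLike.exists_of_lt hlt
    obtain ⟨hg, hc⟩ := hU.extend hC (hU'.mem_ext hC h hy hyn)
    set U1 := U ⊔ Subgroup.zpowers y
    have hU1 : U1 ≤ U' := sup_le h (Subgroup.zpowers_le.mpr hy)
    have hUpos : 0 < Nat.card U := Nat.card_pos
    have hr2 := hr.out.two_le
    have hle := Subgroup.card_le_of_le hU1
    have hlt2 : Nat.card U < Nat.card U1 := by rw [hc]; nlinarith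
    refine le_trans (ih (Nat.card U' - Nat.card U1) (by omega) U1 hg hU1 rfl) ?_
    rw [hc, mul_comm, pow_mul]
    refine Nat.pow_le_pow_left ?_ _
    obtain ⟨g, hgU, hgn⟩ : ∃ g ∈ centIn C U, g ∉ centIn C U1 := by
      by_contra hcon
      push Not at hcon
      have h1 := Subgroup.card_le_of_le (H := centIn C U) (K := centIn C U1) hcon
      have a := hU.centIn_card hC
      have b := hg.centIn_card hC
      have hp : 0 < Nat.card (centIn C U) := Nat.card_pos
      have h2 : Nat.card (centIn C U1) * Nat.card U < Nat.card (centIn C U1) * Nat.card U1 :=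
        (Nat.mul_lt_mul_left (Nat.card_pos)).mpr hlt2
      have h3 := Nat.mul_le_mul_right (Nat.card U) h1
      omega
    have hyC : y ∈ C := hU'.1 hy
    set z' := y * g * y⁻¹ * g⁻¹ with hz'
    have hz'Z : z' ∈ Subgroup.zpowers z := hC.comm y hyC g hgU.1
    have hz'1 : z' ≠ 1 := by
      intro e
      apply hgn
      refine ⟨hgU.1, ?_⟩
      have hgy : g * y = y * g := by
        rw [hz', mul_inv_eq_one, mul_inv_eq_iff_eq_mul] at e; exact e.symm
      show g ∈ Subgroup.centralizer (U1 : Set L)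
      rw [Subgroup.mem_centralizer_iff]
      intro w hw
      have : U1 ≤ Subgroup.centralizer {g} := sup_le
        (fun a ha => Subgroup.mem_centralizer_singleton_iff.mpr (hgU.2 a ha))
        (Subgroup.zpowers_le.mpr (Subgroup.mem_centralizer_singleton_iff.mpr hgy.symm))
      exact Subgroup.mem_centralizer_singleton_iff.mp (this hw)
    have hz'A : z' ∈ A := hC.zle hz'Z
    have hz'r : z' ^ r = 1 := by
      obtain ⟨j, hj⟩ := Subgroup.mem_zpowers_iff.mp hz'Z
      rw [← hj, ← zpow_natCast, ← zpow_mul, mul_comm, zpow_mul, zpow_natCast, ← hC.z_ord, pow_orderOf_eq_one, one_zpow]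
    have hgW : ∀ w ∈ fixW V U, g • w ∈ fixW V U := fun w hw => fixW_inv (fun u hu => by
      rw [mul_assoc, hgU.2 u hu, inv_mul_cancel_left]; exact hu) hw
    have hzW : ∀ w ∈ fixW V U, z' • w ∈ fixW V U := fun w hw => fixW_inv (fun u hu => by
      rw [mul_assoc, (hC.central z' hz'A u (hU.1 hu)).symm, inv_mul_cancel_left]; exact hu) hw
    refine le_trans (Nat.pow_le_pow_left ?_ r) (translate_card (x := y) (g := g) (z := z') hrV hgW hzW
      (fun w _ e => hA z' hz'A hz'1 w e) hz'r (hC.central z' hz'A y hyC) (hC.central z' hz'A g hgU.1)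
      (by rw [hz']; group))
    refine Nat.card_le_card_of_injective (fun w => (⟨w.1, ?_, ?_⟩ : (fixW V U ⊓ fixW V (Subgroup.zpowers y) : AddSubgroup V)))
      (fun a b e => Subtype.ext (congrArg (fun q : (fixW V U ⊓ fixW V (Subgroup.zpowers y) : AddSubgroup V) => (q : V)) e))
    · exact fun u hu => w.2 u (Subgroup.mem_sup_left hu)
    · exact fun u hu => w.2 u (Subgroup.mem_sup_right hu)

lemma form_bound [FaithfulSMul L V] (hfp : FpfOutside E V) (hC : CForm r A C z) (hCE : C ≤ E)
    (hCn : C.Normal) (hA : SemiReg A V) (hAc : IsCyclic A) (hrV : ∀ v : V, r • v = 0 → v = 0)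
    (hne : A ≠ C) [Nontrivial V]
    (hx : A = Subgroup.zpowers z → r = 2 → ∃ x ∈ C, x ∉ A ∧ x ^ r = 1) :
    (E.index + 1) ^ 2 ≤ Nat.card V := by
  classical
  have := Fintype.ofFinite V
  obtain ⟨v1, hv1⟩ := exists_ne (0 : V)
  obtain ⟨v0, hv0, hmax⟩ := Set.Finite.exists_maximalFor (fun v : V => Nat.card (St C v))
    {v : V | v ≠ 0} (Set.toFinite _) ⟨v1, hv1⟩
  have hle : ∀ v : V, v ≠ 0 → Nat.card (St C v) ≤ Nat.card (St C v0) := fun v hv => by
    by_contra hcon
    have := hmax hv (by simp only; omega)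
    simp only at this; omega
  set U0 := St C v0 with hU0
  have hG0 : Good r A C U0 := St.good hC hA hv0
  have hvW : v0 ∈ fixW V U0 := fun u hu => hu.2
  have hz1 : z ≠ 1 := fun e => by
    have := hC.z_ord; rw [e, orderOf_one] at this; exact hr.out.one_lt.ne this
  have hzr : z ^ r = 1 := by rw [← hC.z_ord, pow_orderOf_eq_one]
  have hMax : MaxGood r A C U0 z := by
    refine ⟨hG0, Set.eq_empty_iff_forall_notMem.mpr fun y hy => ?_⟩
    obtain ⟨i, w, hw, hw0, hfix⟩ := exists_fix_translate (y := y) (z := z) hrV hvW hv0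
      (hC.central z hC.z_mem y hy.1.1).symm hy.2.1 hzr
      (fun w hw => fixW_inv (fun u hu => by rw [mul_assoc, hy.1.2 u hu, inv_mul_cancel_left]; exact hu) hw)
      (fun w hw => fixW_inv (fun u hu => by
        rw [mul_assoc, (hC.central z hC.z_mem u (hG0.1 hu)).symm, inv_mul_cancel_left]; exact hu) hw)
      (fun w _ e => hA z hC.z_mem hz1 w e)
    have hlt : U0 < St C w := by
      refine lt_of_le_of_ne (fun u hu => ⟨hu.1, hw u hu⟩) fun e => hy.2.2 ?_
      have h1 : y * z ^ i ∈ St C w := ⟨mul_mem hy.1.1 (C.pow_mem (hC.le hC.z_mem) i), hfix⟩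
      rw [← e] at h1
      rw [show y = y * z ^ i * (z ^ i)⁻¹ by group]
      exact mul_mem (Subgroup.mem_sup_left h1) (Subgroup.mem_sup_right (inv_mem (pow_mem (Subgroup.mem_zpowers z) i)))
    have h1 : Nat.card U0 * r ≤ Nat.card (St C w) := succ_card_le (hC.pgrp.to_le inf_le_left) hlt
    have h2 := hle w hw0
    have h3 : 0 < Nat.card U0 := Nat.card_pos
    have h4 := Nat.mul_le_mul_left (Nat.card U0) hr.out.two_le
    omega
  obtain ⟨u, hu⟩ := (IsPGroup.iff_card (p := r)).mp (hC.pgrp.to_le hG0.1)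
  -- the family, the fixed spaces and the vectors
  set 𝒰 : Set (Subgroup L) := {U' | Good r A C U' ∧ Nat.card U' = r ^ u} with h𝒰
  set F : Finset (Subgroup L) := (Set.toFinite 𝒰).toFinset with hF
  have hFmem : ∀ U', U' ∈ F ↔ Good r A C U' ∧ Nat.card U' = r ^ u := fun U' => by simp [hF, h𝒰]
  have hU0F : U0 ∈ F := (hFmem U0).mpr ⟨hG0, hu⟩
  obtain ⟨U1, hU1, hQ⟩ := F.exists_max_image (fun U' => Nat.card (fixW V U')) ⟨U0, hU0F⟩
  set Q := Nat.card (fixW V U1) with hQdef
  have hQn : Q ^ r ^ u ≤ Nat.card V := by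
    have := fix_pow (V := V) hC hA hrV ((hFmem U1).mp hU1).1
    rwa [((hFmem U1).mp hU1).2] at this
  set T : Set V := {v | v ≠ 0 ∧ Nat.card (St C v) = r ^ u} with hT
  have hTinv : ∀ g : L, g • v0 ∈ T := by
    intro g
    refine ⟨fun e => hv0 ((smul_eq_zero_iff_eq g).mp e), ?_⟩
    rw [← hu, hU0]
    have : St C (g • v0) = (St C v0).map (MulAut.conj g).toMonoidHom := by
      ext w
      constructor
      · intro hw
        refine ⟨g⁻¹ * w * g, ⟨by have := hCn.conj_mem w hw.1 g⁻¹; simpa using this, ?_⟩, by simp [mul_assoc]⟩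
        show (g⁻¹ * w * g) • v0 = v0
        rw [mul_smul, mul_smul, show w • g • v0 = g • v0 from hw.2, inv_smul_smul]
      · rintro ⟨w', hw', rfl⟩
        refine ⟨hCn.conj_mem w' hw'.1 g, ?_⟩
        show (g * w' * g⁻¹) • g • v0 = g • v0
        rw [mul_smul, inv_smul_smul, mul_smul, show w' • v0 = v0 from hw'.2]
    rw [this]
    exact Subgroup.card_map_of_injective (MulAut.conj g).injective
  have hTcard : T.ncard ≤ F.card * (Q - 1) := by
    have hsub : T ⊆ ↑(F.biUnion fun U' => (Finset.univ.filter fun v : V => v ∈ fixW V U').erase 0) := by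
      rintro v ⟨hv, hc⟩
      simp only [Finset.coe_biUnion, Set.mem_iUnion, Finset.mem_coe, Finset.mem_erase, Finset.mem_filter,
        Finset.mem_univ, true_and]
      exact ⟨St C v, (hFmem _).mpr ⟨St.good hC hA hv, hc⟩, hv, fun w hw => hw.2⟩
    refine le_trans (Set.ncard_le_ncard hsub (Set.toFinite _)) ?_
    rw [Set.ncard_coe_finset]
    refine le_trans Finset.card_biUnion_le ?_
    rw [← smul_eq_mul, ← Finset.sum_const]
    refine Finset.sum_le_sum fun U' hU' => ?_
    rw [Finset.card_erase_of_mem (by simp)]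
    refine Nat.sub_le_sub_right ?_ 1
    rw [← Fintype.card_subtype, ← Nat.card_eq_fintype_card]
    exact hQ U' hU'
  have hF' : F.card = 𝒰.ncard := (Set.ncard_eq_toFinset_card _ _).symm
  have horb : Nat.card (orbit C v0) * r ^ u = Nat.card C := by rw [← hu]; exact card_orbit_mul C v0
  have hkey : E.index * Nat.card (orbit C v0) ≤ 𝒰.ncard * (Q - 1) :=
    le_trans (key hfp hv0 hTinv (card_orbit_mono hCE v0)) (hF' ▸ hTcard)
  -- orbits inside the fixed space
  have horbW : ∀ H : Subgroup L, (∀ h ∈ H, ∀ w ∈ U0, w * h = h * w) → Nat.card (orbit H v0) + 1 ≤ Q := by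
    intro H hH
    refine le_trans ?_ (hQ U0 hU0F)
    have hsub : insert (0 : V) (orbit H v0) ⊆ (fixW V U0 : Set V) := by
      rintro w (rfl | ⟨h, rfl⟩)
      · exact (fixW V U0).zero_mem
      · exact fixW_inv (fun w hw => by rw [mul_assoc, hH h h.2 w hw, inv_mul_cancel_left]; exact hw) hvW
    have := Set.ncard_le_ncard hsub (Set.toFinite _)
    have h0 : (0 : V) ∉ orbit H v0 := fun ⟨h, e⟩ => hv0 ((smul_eq_zero_iff_eq (h : L)).mp e)
    rw [Set.ncard_insert_of_notMem h0,
      ← Nat.card_coe_set_eq, ← Nat.card_coe_set_eq] at this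
    exact this
  have haQ : Nat.card A + 1 ≤ Q := by
    rw [← card_le_orbit_of_semiReg hA hv0]
    exact horbW A fun a ha w hw => (hC.central a ha w (hG0.1 hw)).symm
  have har : r ≤ Nat.card A := by rw [← hC.zpow_card]; exact Subgroup.card_le_of_le hC.zle
  have hCc : Nat.card (centIn C U0) * r ^ u = Nat.card C := by rw [← hu]; exact hG0.centIn_card hC
  have hru : 0 < r ^ u := pow_pos hr.out.pos _
  have hprodpos : 0 < ∏ i ∈ Finset.range u, (r ^ u - r ^ i) := Finset.prod_pos fun i hi =>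
    Nat.sub_pos_of_lt (Nat.pow_lt_pow_right hr.out.one_lt (Finset.mem_range.mp hi))
  have hcount : ∀ f : ℕ → ℕ, (∀ U : Subgroup L, ∀ k < u, Good r A C U → Nat.card U = r ^ k →
      (Roots r C U).ncard ≤ (r ^ u - r ^ k) * f k + r ^ (k + 1)) →
      𝒰.ncard ≤ ∏ i ∈ Finset.range u, f i := by
    intro f hf
    have h := count_goods hC u (fun k => (r ^ u - r ^ k) * f k) hf
    rw [Finset.prod_mul_distrib, mul_comm] at h
    exact Nat.le_of_mul_le_mul_left h hprodpos
  by_cases hbig : r ≠ 2 ∨ 4 ≤ Nat.card A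
  · have hT0 := hMax.cent_general hC hAc hbig
    rw [hT0, hG0.card_sup hC, hu] at hCc
    have hu1 : 1 ≤ u := by
      by_contra h0
      obtain rfl : u = 0 := by omega
      simp only [pow_zero, one_mul, mul_one] at hCc
      exact hne (Subgroup.eq_of_le_of_card_ge hC.le hCc.ge)
    have hcnt : 𝒰.ncard ≤ r ^ u * isoI r u := by
      refine le_trans (hcount (fun k => r * (r ^ (u - k) + 1)) ?_) ?_
      · intro U k hk hU hcard
        have h1 := hU.roots_general hC
        have h2 := hU.centIn_card hC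
        rw [hcard, ← hCc] at h2
        obtain ⟨j, rfl⟩ := Nat.exists_eq_add_of_le hk.le
        rw [Nat.add_sub_cancel_left]
        have hb : 0 < r ^ k := pow_pos hr.out.pos _
        have hA' : 0 < Nat.card A := Nat.card_pos
        have h3 : (Roots r C U).ncard ≤ r * (r ^ k * r ^ j * r ^ j) := by
          refine Nat.le_of_mul_le_mul_right ?_ (Nat.mul_pos hA' hb)
          calc (Roots r C U).ncard * (Nat.card A * r ^ k) = (Roots r C U).ncard * Nat.card A * r ^ k := by ring
            _ ≤ r * Nat.card (centIn C U) * r ^ k := Nat.mul_le_mul_right _ h1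
            _ = r * (r ^ k * r ^ j * r ^ j) * (Nat.card A * r ^ k) := by rw [mul_assoc r, h2, pow_add]; ring
        refine le_trans h3 (le_of_eq ?_)
        obtain ⟨a, ha⟩ : ∃ a, r ^ j = a + 1 := ⟨r ^ j - 1, by have := pow_pos hr.out.pos j; omega⟩
        rw [pow_add, ha, show r ^ k * (a + 1) - r ^ k = r ^ k * a by rw [Nat.mul_succ, Nat.add_sub_cancel]]
        ring
      · rw [Finset.prod_mul_distrib, Finset.prod_const, Finset.card_range]; rfl
    have hq : E.index * Nat.card A ≤ isoI r u * (Q - 1) := by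
      have he : Nat.card (orbit C v0) = Nat.card A * r ^ u :=
        Nat.eq_of_mul_eq_mul_right hru (by rw [horb, ← hCc]; ring)
      refine Nat.le_of_mul_le_mul_left ?_ hru
      calc r ^ u * (E.index * Nat.card A) = E.index * Nat.card (orbit C v0) := by rw [he]; ring
        _ ≤ 𝒰.ncard * (Q - 1) := hkey
        _ ≤ r ^ u * isoI r u * (Q - 1) := Nat.mul_le_mul_right _ hcnt
        _ = r ^ u * (isoI r u * (Q - 1)) := by ring
    rcases eq_or_ne r 2 with h2 | h2
    · subst h2
      exact two_general_arith hu1 (hbig.resolve_left (fun h => h rfl)) haQ hq hQn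
    · exact odd_arith (by have := hr.out.two_le; omega) hu1 har haQ hq hQn
  push Not at hbig
  obtain ⟨rfl, hA4⟩ := hbig
  have hAz : A = Subgroup.zpowers z := by
    refine (Subgroup.eq_of_le_of_card_ge hC.zle ?_).symm
    obtain ⟨e, he⟩ := (IsPGroup.iff_card (p := 2)).mp (hC.pgrp.to_le hC.le)
    rw [hC.zpow_card, he]
    have : e ≤ 1 := by
      by_contra hlt
      have : 2 ^ 2 ≤ 2 ^ e := Nat.pow_le_pow_right (by norm_num) (show 2 ≤ e by omega)
      omega
    exact le_trans (Nat.pow_le_pow_right (by norm_num) this) (le_of_eq (pow_one 2))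
  have hR0 : (Roots 2 C U0).ncard = 2 ^ (u + 1) := by
    have : Roots 2 C U0 = ((U0 ⊔ Subgroup.zpowers z : Subgroup L) : Set L) :=
      Set.Subset.antisymm (fun y hy => hMax.mem_of_pow hC hy.1 hy.2) (hG0.le_roots hC)
    rw [this, ← Nat.card_coe_set_eq, SetLike.coe_sort_coe, hG0.card_sup_z hC, hu, pow_succ]
  have hRU : ∀ U : Subgroup L, Good 2 A C U → 2 * (Roots 2 C U).ncard + Nat.card (centIn C U0) =
      2 * 2 ^ (u + 1) + Nat.card (centIn C U) := by
    intro U hU
    have hb : Good 2 A C ⊥ := ⟨bot_le, bot_inf_eq _, fun v hv => by rw [Subgroup.mem_bot.mp hv, one_pow]⟩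
    have h1 := hb.roots_two hC rfl hAz hU bot_le
    have h2 := hb.roots_two hC rfl hAz hG0 bot_le
    rw [hR0] at h2
    omega
  rcases hMax.cent_two hC rfl hAz with hT0 | hT0
  · rw [hu] at hT0
    rw [hT0] at hCc
    have hu1 : 1 ≤ u := by
      by_contra h0
      obtain rfl : u = 0 := by omega
      apply hne
      refine Subgroup.eq_of_le_of_card_ge hC.le ?_
      rw [← hCc, pow_zero, mul_one, mul_one]
      exact har
    have hcnt : 𝒰.ncard ≤ 2 ^ u * isoP u := by
      refine le_trans (hcount (fun k => 2 * (2 ^ (u - k - 1) + 1)) ?_) ?_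
      · intro U k hk hU hcard
        have h1 := hRU U hU
        have h2 := hU.centIn_card hC
        rw [hcard, ← hCc] at h2
        rw [hT0] at h1
        obtain ⟨j, rfl⟩ : ∃ j, u = k + (j + 1) := ⟨u - k - 1, by omega⟩
        rw [show k + (j + 1) - k - 1 = j by omega]
        have h3 : Nat.card (centIn C U) = 2 * (2 ^ k * 2 ^ (j + 1) * 2 ^ (j + 1)) :=
          Nat.eq_of_mul_eq_mul_right (pow_pos (by norm_num : 0 < 2) k) (by rw [h2, pow_add]; ring)
        rw [h3] at h1
        obtain ⟨a, ha⟩ : ∃ a, 2 ^ j = a + 1 := ⟨2 ^ j - 1, by have := @Nat.one_le_two_pow j; omega⟩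
        have e : 2 ^ (k + (j + 1)) - 2 ^ k = 2 ^ k * (2 * a + 1) := by
          rw [pow_add, pow_succ, ha, show (a + 1) * 2 = (2 * a + 1) + 1 by ring, Nat.mul_succ, Nat.add_sub_cancel]
        rw [e, ha]
        simp only [pow_succ, pow_add, ha] at h1 ⊢
        ring_nf at h1 ⊢
        omega
      · rw [Finset.prod_mul_distrib, Finset.prod_const, Finset.card_range]; rfl
    have hq : E.index * 2 ≤ isoP u * (Q - 1) := by
      have he : Nat.card (orbit C v0) = 2 * 2 ^ u :=
        Nat.eq_of_mul_eq_mul_right hru (by rw [horb, ← hCc])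
      refine Nat.le_of_mul_le_mul_left ?_ hru
      calc 2 ^ u * (E.index * 2) = E.index * Nat.card (orbit C v0) := by rw [he]; ring
        _ ≤ 𝒰.ncard * (Q - 1) := hkey
        _ ≤ 2 ^ u * isoP u * (Q - 1) := Nat.mul_le_mul_right _ hcnt
        _ = 2 ^ u * (isoP u * (Q - 1)) := by ring
    exact plus_arith hu1 (by omega) hq hQn
  · rw [hu] at hT0
    rw [hT0] at hCc
    have hu1 : 1 ≤ u := by
      by_contra h0
      obtain rfl : u = 0 := by omega
      obtain ⟨x, hxC, hxA, hxr⟩ := hx hAz rfl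
      have hb : U0 = ⊥ := Subgroup.eq_bot_of_card_eq U0 (by rw [hu, pow_zero])
      have hxc : x ∈ centIn C U0 := ⟨hxC, fun w hw => by
        rw [show w = 1 from by simpa [hb] using hw]; simp⟩
      have hm := hMax.mem_of_pow hC hxc hxr
      exact hxA (sup_le (hb.le.trans bot_le) hC.zle hm)
    have hQ9 : 9 ≤ Q := by
      have h1 := horbW (centIn C U0) fun h hh w hw => hh.2 w hw
      have h2 := card_orbit_mul (centIn C U0) v0
      have h3 : centIn C U0 ⊓ stabilizer L v0 = U0 := le_antisymm (fun w hw => ⟨hw.1.1, hw.2⟩)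
        (fun w hw => ⟨hG0.sup_le_centIn hC (Subgroup.mem_sup_left hw), hw.2⟩)
      rw [h3, hu, hT0] at h2
      have := Nat.eq_of_mul_eq_mul_right hru h2
      omega
    have hcnt : 𝒰.ncard ≤ 2 ^ u * isoM u := by
      refine le_trans (hcount (fun k => 2 * (2 ^ (u - k + 1) + 1)) ?_) ?_
      · intro U k hk hU hcard
        have h1 := hRU U hU
        have h2 := hU.centIn_card hC
        rw [hcard, ← hCc] at h2
        rw [hT0] at h1
        obtain ⟨j, rfl⟩ := Nat.exists_eq_add_of_le hk.le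
        rw [Nat.add_sub_cancel_left]
        have h3 : Nat.card (centIn C U) = 8 * (2 ^ k * 2 ^ j * 2 ^ j) :=
          Nat.eq_of_mul_eq_mul_right (pow_pos (by norm_num : 0 < 2) k) (by rw [h2, pow_add]; ring)
        rw [h3] at h1
        obtain ⟨a, ha⟩ : ∃ a, 2 ^ j = a + 1 := ⟨2 ^ j - 1, by have := @Nat.one_le_two_pow j; omega⟩
        have e : 2 ^ (k + j) - 2 ^ k = 2 ^ k * a := by
          rw [pow_add, ha, Nat.mul_succ, Nat.add_sub_cancel]
        rw [e]
        simp only [pow_succ, pow_add, ha] at h1 ⊢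
        ring_nf at h1 ⊢
        omega
      · rw [Finset.prod_mul_distrib, Finset.prod_const, Finset.card_range]; rfl
    have hq : E.index * 8 ≤ isoM u * (Q - 1) := by
      have he : Nat.card (orbit C v0) = 8 * 2 ^ u :=
        Nat.eq_of_mul_eq_mul_right hru (by rw [horb, ← hCc])
      refine Nat.le_of_mul_le_mul_left ?_ hru
      calc 2 ^ u * (E.index * 8) = E.index * Nat.card (orbit C v0) := by rw [he]; ring
        _ ≤ 𝒰.ncard * (Q - 1) := hkey
        _ ≤ 2 ^ u * isoM u * (Q - 1) := Nat.mul_le_mul_right _ hcnt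
        _ = 2 ^ u * (isoM u * (Q - 1)) := by ring
    exact minus_arith hu1 hQ9 hq hQn

end Cfsg.Agent.DerIdx59
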