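import Cfsg.Agent.DerIdx59.Reduction

/-! If elements outside `E` are fixed-point-free and some element of `E` is not, then the index of
`E` is at most the square root of the module, minus one. -/

set_option autoImplicit false
set_option linter.unusedSectionVars false

namespace Cfsg.Agent.DerIdx59

open MulAction
open scoped Pointwise

theorem linear_bound {L V : Type*} [Group L] [Finite L] [AddCommGroup V] [Finite V]
    [DistribMulAction L V] [FaithfulSMul L V] {E : Subgroup L} [E.Normal] (hfp : FpfOutside E V)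
    (hns : ∃ e ∈ E, e ≠ 1 ∧ ∃ v : V, v ≠ 0 ∧ e • v = v) :
    (E.index + 1) ^ 2 ≤ Nat.card V := by
  classical
  obtain ⟨e, heE, he1, v, hv, hev⟩ := hns
  -- an element of prime order with a fixed vector
  obtain ⟨r, hr, hrd⟩ := Nat.exists_prime_and_dvd (n := orderOf e) (fun h => he1 (orderOf_eq_one_iff.mp h))
  have : Fact r.Prime := ⟨hr⟩
  set x := e ^ (orderOf e / r) with hx
  have hxr : orderOf x = r := orderOf_pow_orderOf_div (orderOf_pos e).ne' hrd
  have hxv : x • v = v := (stabilizer L v).pow_mem hev _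
  have hxE : x ∈ E := pow_mem heE _
  -- a Sylow subgroup of `E` containing it
  let xE : E := ⟨x, hxE⟩
  have hxE' : IsPGroup r (Subgroup.zpowers xE) := IsPGroup.of_card (n := 1) (by
    rw [Nat.card_zpowers, pow_one, ← Subgroup.orderOf_coe]; exact hxr)
  obtain ⟨P, hP⟩ := hxE'.exists_le_sylow
  set S : Subgroup L := (P : Subgroup E).map E.subtype with hS
  have hSr : IsPGroup r S := P.isPGroup'.map E.subtype
  have hSE : S ≤ E := Subgroup.map_subtype_le _
  have hxS : x ∈ S := ⟨xE, hP (Subgroup.mem_zpowers xE), rfl⟩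
  set H : Subgroup L := Subgroup.normalizer (S : Set L) with hH
  have hEH : E ⊔ H = ⊤ := by
    rw [sup_comm, hH, hS]
    exact Sylow.normalizer_sup_eq_top P
  by_cases hred : ∃ W : AddSubgroup V, (∀ h ∈ H, ∀ w ∈ W, h • w ∈ W) ∧ W ≠ ⊥ ∧ W ≠ ⊤
  · obtain ⟨W, hW, h0, h1⟩ := hred
    exact reducible_bound hfp hEH hW h0 h1
  push Not at hred
  have hirr : Irr H V := fun W hW => by
    by_cases h0 : W = ⊥
    · exact Or.inl h0
    · exact Or.inr (hred W (fun h hh w hw => hW ⟨h, hh⟩ w hw) h0)
  have : FaithfulSMul H V := ⟨fun {a b} h => Subtype.ext (FaithfulSMul.eq_of_smul_eq_smul fun w => h w)⟩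
  set E' : Subgroup H := E.subgroupOf H with hE'
  have : E'.Normal := Subgroup.normal_subgroupOf
  have hidx : E'.index = E.index := by
    show E.relIndex H = _
    rw [← Subgroup.relIndex_sup_right, sup_comm, hEH, Subgroup.relIndex_top_right]
  have hSH : S ≤ H := Subgroup.le_normalizer
  have hfp' : FpfOutside E' V := fun g hg w hw => hfp (g : L) (fun h => hg h) w hw
  rw [← hidx]
  refine normal_case (L := H) (S := S.subgroupOf H) hfp' hirr ?_ ?_ (fun s hs => hSE hs)
    (x := ⟨x, hSH hxS⟩) hxS (Subtype.ext ?_) (fun h => ?_) hv hxv (r := r)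
  · rw [hH]; exact Subgroup.normal_in_normalizer
  · exact hSr.of_equiv (Subgroup.subgroupOfEquivOfLe hSH).symm
  · show x ^ r = 1
    rw [← hxr, pow_orderOf_eq_one]
  · have : x = 1 := congrArg Subtype.val h
    rw [this, orderOf_one] at hxr
    exact hr.one_lt.ne hxr

end Cfsg.Agent.DerIdx59
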