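import Cfsg.Agent.DerIdx59.PrimePower
import Mathlib.GroupTheory.Transfer

/-! A transitive subgroup whose regular Sylow subgroup is central in its normaliser. -/

set_option autoImplicit false
set_option linter.unusedSectionVars false

namespace Cfsg.Agent.DerIdx59

open MulAction
open scoped Pointwise

variable {G Ω : Type*} [Group G] [Finite G] [MulAction G Ω] [FaithfulSMul G Ω] [Finite Ω]

lemma eq_regular_of_central {p : ℕ} [hp : Fact p.Prime] {P C : Subgroup G} (hPC : P ≤ C)
    (hPr : IsPGroup p P) (hreg : Nat.card P = Nat.card Ω) (hPt : IsPretransitive P Ω)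
    (hmax : ∀ Q : Subgroup G, Q ≤ C → IsPGroup p Q → P ≤ Q → Q = P)
    (hcentral : ∀ g ∈ C, (∀ u ∈ P, g * u * g⁻¹ ∈ P) → ∀ u ∈ P, u * g = g * u) : C = P := by
  classical
  have hPr' : IsPGroup p (P.subgroupOf C) := hPr.of_equiv (Subgroup.subgroupOfEquivOfLe hPC).symm
  let S : Sylow p C :=
    { toSubgroup := P.subgroupOf C
      isPGroup' := hPr'
      is_maximal' := fun {Q} hQ hle => by
        have h1 : Q.map C.subtype = P := hmax _ (Subgroup.map_subtype_le _) (hQ.map _)
          (fun u hu => ⟨⟨u, hPC hu⟩, hle hu, rfl⟩)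
        ext x
        constructor
        · intro hx
          show (x : G) ∈ P
          rw [← h1]; exact ⟨x, hx, rfl⟩
        · intro hx; exact hle hx }
  have hnorm : Subgroup.normalizer ((S : Subgroup C) : Set C) ≤ Subgroup.centralizer ((S : Subgroup C) : Set C) := by
    intro g hg
    rw [Subgroup.mem_centralizer_iff]
    intro u hu
    refine Subtype.ext ?_
    refine hcentral g g.2 (fun v hv => ?_) u hu
    exact (Subgroup.mem_normalizer_iff.mp hg ⟨v, hPC hv⟩).mp hv
  have hcompl := MonoidHom.ker_transferSylow_isComplement' S hnorm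
  set K := (MonoidHom.transferSylow S hnorm).ker with hK
  have hKc : Nat.card K * Nat.card Ω = Nat.card C := by
    rw [← hreg, ← hcompl.card_mul]
    congr 1
    exact (Nat.card_congr (Subgroup.subgroupOfEquivOfLe hPC).toEquiv).symm
  have hcop : (Nat.card K).Coprime K.index := by
    have h1 : K.index = Nat.card P := by
      have h2 := K.card_mul_index
      rw [← hKc, ← hreg] at h2
      exact Nat.eq_of_mul_eq_mul_left Nat.card_pos h2
    obtain ⟨k, hk⟩ := IsPGroup.iff_card.mp hPr
    rw [h1, hk]
    exact Nat.Coprime.pow_right k ((hp.out.coprime_iff_not_dvd.mpr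
      (MonoidHom.not_dvd_card_ker_transferSylow S hnorm)).symm)
  have : IsPretransitive C Ω := ⟨fun a b => by
    obtain ⟨u, hu⟩ := exists_smul_eq P a b
    exact ⟨⟨u, hPC u.2⟩, hu⟩⟩
  rcases isEmpty_or_nonempty Ω with hΩ | ⟨⟨a⟩⟩
  · have : Subsingleton G := ⟨fun x y => FaithfulSMul.eq_of_smul_eq_smul fun ω : Ω => isEmptyElim ω⟩
    exact Subsingleton.elim _ _
  have hSt : Nat.card (stabilizer C a) = Nat.card K := by
    have h := Subgroup.card_mul_index (stabilizer C a)
    rw [index_stabilizer_of_transitive, ← hKc] at h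
    exact Nat.eq_of_mul_eq_mul_right (Nat.card_pos_iff.mpr ⟨⟨a⟩, inferInstance⟩) h
  have hle : stabilizer C a ≤ K := by
    intro c hc
    have h1 : orderOf (QuotientGroup.mk' K c) ∣ Nat.card K :=
      (orderOf_map_dvd _ c).trans (hSt ▸ (stabilizer C a).orderOf_dvd_natCard hc)
    have h2 : orderOf (QuotientGroup.mk' K c) ∣ K.index := orderOf_dvd_natCard _
    have h3 := Nat.eq_one_of_dvd_coprimes hcop h1 h2
    rw [orderOf_eq_one_iff, QuotientGroup.mk'_apply, QuotientGroup.eq_one_iff] at h3
    exact h3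
  have heq : K = stabilizer C a := (Subgroup.eq_of_le_of_card_ge hle hSt.ge).symm
  have hKbot : K = ⊥ := by
    rw [Subgroup.eq_bot_iff_forall]
    intro k hk
    refine Subtype.ext (FaithfulSMul.eq_of_smul_eq_smul fun ω : Ω => ?_)
    obtain ⟨c, rfl⟩ := exists_smul_eq C a ω
    have hn : c⁻¹ * k * c ∈ K := by
      have := (inferInstance : K.Normal).conj_mem k hk c⁻¹
      simpa using this
    rw [heq, mem_stabilizer_iff, mul_smul, mul_smul, inv_smul_eq_iff] at hn
    rw [OneMemClass.coe_one, one_smul]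
    exact hn
  refine (Subgroup.eq_of_le_of_card_ge hPC ?_).symm
  rw [← hKc, hKbot, Subgroup.card_bot, one_mul, hreg]

end Cfsg.Agent.DerIdx59
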