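import Cfsg.Agent.DerIdx59.LinearMain
import Cfsg.Agent.DerIdx59.SelfCent
import Cfsg.Agent.DerIdx59.Char
import Cfsg.Agent.FGS80.Burnside

/-! The index of the derangement subgroup is at most the square root of the degree minus one,
except for Frobenius groups with abelian kernel. -/

set_option autoImplicit false
set_option linter.unusedSectionVars false

namespace Cfsg.Agent.DerIdx59

open MulAction RecogB
open scoped Pointwise commutatorElement

lemma card_quotient_le {H : Type*} [Group H] {X : Type*} [MulAction H X] [Finite X] (K : Subgroup H) :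
    Nat.card (orbitRel.Quotient H X) ≤ Nat.card (orbitRel.Quotient K X) := by
  refine Nat.card_le_card_of_surjective (Quotient.map' id fun a b hab => ?_) ?_
  · obtain ⟨k, hk⟩ := hab
    exact ⟨(k : H), hk⟩
  · intro q
    induction q using Quotient.inductionOn' with
    | h x => exact ⟨Quotient.mk'' x, rfl⟩

lemma two_le_rank (H : Type*) [Group H] {Ω : Type*} [MulAction H Ω] [Finite Ω] (h2 : 2 ≤ Nat.card Ω) :
    2 ≤ Nat.card (orbitRel.Quotient H (Ω × Ω)) := by
  obtain ⟨a⟩ : Nonempty Ω := (Nat.card_pos_iff.mp (by omega)).1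
  have : Nontrivial Ω := Finite.one_lt_card_iff_nontrivial.mp (by omega)
  obtain ⟨b, hb⟩ := exists_ne a
  refine Finite.one_lt_card_iff_nontrivial.mpr ⟨⟨Quotient.mk'' (a, a), Quotient.mk'' (a, b), fun e => hb ?_⟩⟩
  obtain ⟨g, hg⟩ := Quotient.exact' e
  have h1 : g • a = a := congrArg Prod.fst hg
  have h2 : g • b = a := congrArg Prod.snd hg
  exact smul_left_cancel g (h2.trans h1.symm)

section

variable {G Ω : Type*} [Group G] [Finite G] [MulAction G Ω] [FaithfulSMul G Ω] [Finite Ω]

/-- Conjugation as an action on a normalised subgroup, written additively. -/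
@[instance_reducible]
def conjAdd {P L : Subgroup G} (h : ∀ g ∈ L, ∀ u ∈ P, g * u * g⁻¹ ∈ P) :
    DistribMulAction L (Additive P) where
  smul g x := Additive.ofMul ⟨(g : G) * (Additive.toMul x : P) * (g : G)⁻¹, h g g.2 _ (Additive.toMul x).2⟩
  one_smul x := congrArg Additive.ofMul (Subtype.ext (by simp; rfl))
  mul_smul g k x := congrArg Additive.ofMul (Subtype.ext (by
    show ((g : G) * (k : G)) * (Additive.toMul x : P) * ((g : G) * (k : G))⁻¹ =
      (g : G) * ((k : G) * (Additive.toMul x : P) * (k : G)⁻¹) * (g : G)⁻¹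
    group))
  smul_zero g := congrArg Additive.ofMul (Subtype.ext (show (g : G) * 1 * (g : G)⁻¹ = 1 by group))
  smul_add g x y := congrArg Additive.ofMul (Subtype.ext (by
    show (g : G) * ((Additive.toMul x : P) * (Additive.toMul y : P)) * (g : G)⁻¹ =
      (g : G) * (Additive.toMul x : P) * (g : G)⁻¹ * ((g : G) * (Additive.toMul y : P) * (g : G)⁻¹)
    group))

/-- Either the index is small, or the Frobenius case with abelian kernel. -/
theorem bound_or_frobenius [IsPretransitive G Ω] (h4 : 4 ≤ Nat.card Ω) :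
    ((derSub G Ω).index + 1) ^ 2 ≤ Nat.card Ω ∨
      ((∃ P : Subgroup G, P.Normal ∧ P ≠ ⊥ ∧ ∀ x ∈ P, ∀ y ∈ P, x * y = y * x) ∧
        (∃ g : G, g ≠ 1 ∧ ∃ ω : Ω, g • ω = ω) ∧ ∀ g : G, g ≠ 1 → Nat.card (fixedBy Ω g) ≤ 1) := by
  classical
  have hDn := derSub_normal (G := G) (Ω := Ω)
  have hDt := derSub_transitive (G := G) (Ω := Ω)
  set D := derSub G Ω with hD
  by_cases hq : D.index = 1
  · left; rw [hq]; omega
  by_cases hpp : IsPrimePow (Nat.card Ω)
  swap
  · exact Or.inl (bound_of_not_primePow (G := G) (by omega) hq hpp)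
  obtain ⟨p, d, hp, hd, hn⟩ := hpp
  have hp' : p.Prime := hp.nat_prime
  have : Fact p.Prime := ⟨hp'⟩
  have hΩpos : 0 < Nat.card Ω := by omega
  have hΩne : Nonempty Ω := (Nat.card_pos_iff.mp hΩpos).1
  -- a Sylow subgroup of `D` is transitive
  let P0 : Sylow p D := Classical.arbitrary _
  set P : Subgroup G := (P0 : Subgroup D).map D.subtype with hP
  have hPD : P ≤ D := Subgroup.map_subtype_le _
  have hPr : IsPGroup p P := P0.isPGroup'.map _
  have hPc : Nat.card P = p ^ (Nat.card D).factorization p := by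
    rw [hP, Subgroup.card_map_of_injective D.subtype_injective, P0.card_eq_multiplicity]
  have hmax : ∀ Q : Subgroup G, Q ≤ D → IsPGroup p Q → P ≤ Q → Q = P := by
    intro Q h1 h2 h3
    refine (Subgroup.eq_of_le_of_card_ge h3 ?_).symm
    rw [hPc]; exact card_le_of_pgroup h1 h2
  have hPt : IsPretransitive P Ω := by
    refine ⟨fun a b => ?_⟩
    have horb : Nat.card Ω ≤ (orbit P a).ncard := by
      have h1 := Subgroup.card_mul_index (stabilizer P a)
      rw [index_stabilizer, hPc] at h1
      have h2 : Nat.card (stabilizer P a) ≤ p ^ (Nat.card (D ⊓ stabilizer G a : Subgroup G)).factorization p := by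
        have hle : (stabilizer P a).map P.subtype ≤ D ⊓ stabilizer G a := by
          rintro _ ⟨u, hu, rfl⟩; exact ⟨hPD u.2, hu⟩
        have h3 := card_le_of_pgroup (r := p) hle ((hPr.to_subgroup _).map _)
        rwa [Subgroup.card_map_of_injective P.subtype_injective] at h3
      rw [← card_stab_mul (D := D) a, Nat.factorization_mul hΩpos.ne' Nat.card_pos.ne', Finsupp.add_apply,
        pow_add] at h1
      have h5 : p ^ (Nat.card Ω).factorization p = Nat.card Ω := by
        rw [← hn, hp'.factorization_pow, Finsupp.single_eq_same]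
      rw [h5] at h1
      set Q := p ^ (Nat.card (D ⊓ stabilizer G a : Subgroup G)).factorization p
      have hQ : 0 < Q := pow_pos hp'.pos _
      have h6 := Nat.mul_le_mul_right (orbit P a).ncard h2
      rw [h1, mul_comm Q] at h6
      exact Nat.le_of_mul_le_mul_right h6 hQ
    have : orbit P a = Set.univ := Set.eq_of_subset_of_ncard_le (Set.subset_univ _)
      (by rwa [Set.ncard_univ]) (Set.toFinite _)
    exact (this.ge (Set.mem_univ b) : b ∈ orbit P a)
  -- its normaliser and the stabiliser supplementing `D`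
  set Z := Subgroup.normalizer (P : Set G) with hZ
  have hZD : Z ⊔ D = ⊤ := Sylow.normalizer_sup_eq_top P0
  obtain ⟨α, -, hsup⟩ := supplement_in_normalizer hZD hq
  set L := Z ⊓ stabilizer G α with hL
  have hLN : ∀ g ∈ L, ∀ u ∈ P, g * u * g⁻¹ ∈ P := fun g hg u hu =>
    (Subgroup.mem_normalizer_iff.mp hg.1 u).mp hu
  have hqn := index_dvd (G := G) (Ω := Ω) inferInstance
  by_cases hbound : (D.index + 1) ^ 2 ≤ Nat.card Ω
  · exact Or.inl hbound
  -- normalised subgroups are transitive or fix `α`
  have hdich : ∀ K ≤ P, (∀ g ∈ L, ∀ u ∈ K, g * u * g⁻¹ ∈ K) → (∀ u ∈ K, u • α = α) ∨ IsPretransitive K Ω := by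
    intro K hKP hKL
    have hdv := dvd_of_supplement (inf_le_right : L ≤ stabilizer G α) hsup (orbit K α) (mem_orbit_self α) (by
      rintro k hk _ ⟨w, rfl⟩
      refine ⟨⟨_, hKL k hk w w.2⟩, ?_⟩
      show (k * (w : G) * k⁻¹) • α = k • ((w : G) • α)
      rw [mul_smul, mul_smul, inv_smul_eq_iff.mpr (show α = k • α from (hk.2 : k • α = α).symm)])
    obtain ⟨j, hj⟩ := IsPGroup.iff_card.mp (hPr.to_le hKP)
    have hdiv : (orbit K α).ncard ∣ p ^ j := by
      rw [← index_stabilizer, ← hj]; exact Subgroup.index_dvd_card _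
    obtain ⟨i, -, hi⟩ := (Nat.dvd_prime_pow hp').mp hdiv
    have hle : (orbit K α).ncard ≤ Nat.card Ω := by
      rw [← Set.ncard_univ]; exact Set.ncard_le_ncard (Set.subset_univ _) (Set.toFinite _)
    rw [hi, ← hn] at hle
    have hid := (Nat.pow_le_pow_iff_right hp'.one_lt).mp hle
    rcases Nat.eq_zero_or_pos i with rfl | hi0
    · left
      intro u hu
      obtain ⟨b, hb⟩ := Set.ncard_eq_one.mp (by rwa [pow_zero] at hi)
      have e1 : α ∈ orbit K α := mem_orbit_self α
      have e2 : u • α ∈ orbit K α := ⟨⟨u, hu⟩, rfl⟩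
      rw [hb, Set.mem_singleton_iff] at e1 e2
      rw [e2, ← e1]
    rcases Nat.lt_or_ge i d with hlt | hge
    · exfalso
      apply hbound
      rw [← hn, show d = i + (d - i) by omega, pow_add]
      refine sq_le_of_dvd (le_trans hp'.two_le (Nat.le_self_pow (by omega) p))
        (le_trans hp'.two_le (Nat.le_self_pow (by omega) p)) (hi ▸ hdv) ?_
      rw [← pow_add, show i + (d - i) = d by omega, hn]
      exact hqn
    · right
      have huniv : orbit K α = Set.univ := Set.eq_of_subset_of_ncard_le (Set.subset_univ _)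
        (by rw [Set.ncard_univ, hi, ← hn]; exact Nat.pow_le_pow_right hp'.pos hge) (Set.toFinite _)
      refine ⟨fun a b => ?_⟩
      obtain ⟨k, hk⟩ := (huniv.ge (Set.mem_univ a) : a ∈ orbit K α)
      obtain ⟨l, hl⟩ := (huniv.ge (Set.mem_univ b) : b ∈ orbit K α)
      refine ⟨l * k⁻¹, ?_⟩
      have hk' : k • α = a := hk
      have hl' : l • α = b := hl
      rw [← hk', ← hl', mul_smul, inv_smul_smul]
  -- `P` is regular and abelian
  let Zc : Subgroup G := P ⊓ Subgroup.centralizer (P : Set G)
  have hZcL : ∀ g ∈ L, ∀ u ∈ Zc, g * u * g⁻¹ ∈ Zc := by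
    intro g hg u hu
    refine ⟨hLN g hg u hu.1, fun v hv => ?_⟩
    have h1 : g⁻¹ * v * g ∈ P := by
      have := hLN g⁻¹ (inv_mem hg) v hv
      simpa using this
    have h2 := hu.2 _ h1
    calc v * (g * u * g⁻¹) = g * ((g⁻¹ * v * g) * u) * g⁻¹ := by group
      _ = g * (u * (g⁻¹ * v * g)) * g⁻¹ := by rw [h2]
      _ = g * u * g⁻¹ * v := by group
  have hZct : IsPretransitive Zc Ω := by
    refine (hdich Zc inf_le_left hZcL).resolve_left fun hfix => ?_
    have : Nontrivial P := by
      rw [← Finite.one_lt_card_iff_nontrivial, hPc]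
      refine Nat.one_lt_pow ?_ hp'.one_lt
      intro h0
      have h1 : p ∣ Nat.card D := by
        rw [← card_stab_mul (D := D) α, ← hn]
        exact Dvd.dvd.mul_right (dvd_pow_self p (by omega)) _
      have := hp'.factorization_pos_of_dvd Nat.card_pos.ne' h1
      omega
    have := hPr.center_nontrivial
    obtain ⟨⟨c, hc⟩, hc1⟩ := exists_ne (1 : Subgroup.center P)
    apply hc1
    refine Subtype.ext (Subtype.ext (FaithfulSMul.eq_of_smul_eq_smul fun ω : Ω => ?_))
    obtain ⟨u, rfl⟩ := exists_smul_eq P α ω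
    have hcZ : (c : G) ∈ Zc := ⟨c.2, fun v hv => congrArg Subtype.val (Subgroup.mem_center_iff.mp hc ⟨v, hv⟩)⟩
    show (c : G) • (u : G) • α = (1 : G) • (u : G) • α
    rw [one_smul, smul_smul, ← hcZ.2 u u.2, mul_smul, hfix c hcZ]
  have hPst : ∀ u ∈ P, u • α = α → u = 1 := by
    intro u hu huα
    refine FaithfulSMul.eq_of_smul_eq_smul fun ω : Ω => ?_
    obtain ⟨c, rfl⟩ := exists_smul_eq Zc α ω
    show u • (c : G) • α = (1 : G) • (c : G) • α
    rw [one_smul, smul_smul, c.2.2 u hu, mul_smul, huα]
  have hPab : ∀ x ∈ P, ∀ y ∈ P, x * y = y * x := by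
    intro x hx y hy
    obtain ⟨c, hc⟩ := exists_smul_eq Zc α (x • α)
    have hcx : (c : G)⁻¹ * x = 1 := hPst _ (mul_mem (inv_mem c.2.1) hx) (by
      rw [mul_smul, inv_smul_eq_iff]; exact hc.symm)
    rw [inv_mul_eq_one.mp hcx |>.symm]
    exact (c.2.2 y hy).symm
  have hPsemi : ∀ u ∈ P, u ≠ 1 → ∀ ω : Ω, u • ω ≠ ω := by
    intro u hu hu1 ω hω
    obtain ⟨v, rfl⟩ := exists_smul_eq P α ω
    apply hu1
    refine hPst u hu (smul_left_cancel (v : G) ?_)
    rw [smul_smul, hPab v v.2 u hu, mul_smul]
    exact hω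
  have hPcard : Nat.card P = Nat.card Ω := by
    refine Nat.card_eq_of_bijective (fun u : P => (u : G) • α) ⟨fun u v h => ?_, fun ω => exists_smul_eq P α ω⟩
    refine Subtype.ext (inv_mul_eq_one.mp (hPst _ (mul_mem (inv_mem u.2) v.2) ?_))
    rw [mul_smul, inv_smul_eq_iff]; exact h.symm
  have hcommfix : ∀ g : G, g • α = α → (∀ u ∈ P, g * u = u * g) → g = 1 := by
    intro g hg hcm
    refine FaithfulSMul.eq_of_smul_eq_smul fun ω : Ω => ?_
    obtain ⟨v, rfl⟩ := exists_smul_eq P α ω
    show g • (v : G) • α = (1 : G) • (v : G) • α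
    rw [one_smul, smul_smul, hcm v v.2, mul_smul, hg]
  -- the linear group
  letI cgP : CommGroup P := { (inferInstance : Group P) with mul_comm := fun a b => Subtype.ext (hPab a a.2 b b.2) }
  letI act : DistribMulAction L (Additive P) := conjAdd hLN
  have hact : ∀ (g : L) (u : P), g • Additive.ofMul u = Additive.ofMul u → (g : G) * u = u * (g : G) := by
    intro g u h
    have h1 : (g : G) * u * (g : G)⁻¹ = u := congrArg (fun x : Additive P => ((Additive.toMul x : P) : G)) h
    exact mul_inv_eq_iff_eq_mul.mp h1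
  have : FaithfulSMul L (Additive P) := ⟨fun {g k} h => by
    refine Subtype.ext (inv_mul_eq_one.mp (hcommfix _ ?_ fun u hu => ?_)).symm
    · exact (mul_mem (inv_mem k.2) g.2 : (k : G)⁻¹ * g ∈ L).2
    · refine hact (k⁻¹ * g) ⟨u, hu⟩ ?_
      rw [mul_smul, h, inv_smul_smul]⟩
  set E := D.subgroupOf L with hE
  have : E.Normal := hDn.subgroupOf L
  have hEidx : E.index = D.index := by
    show D.relIndex L = _
    rw [← Subgroup.relIndex_sup_right, hsup, Subgroup.relIndex_top_right]
  have hfp : FpfOutside E (Additive P) := by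
    intro g hg v hv
    by_contra hne
    set u : P := Additive.toMul v with hu
    have hc := hact g u hv
    have h1 : (g : G) • (u : G) • α = (u : G) • α := by
      rw [smul_smul, hc, mul_smul, (g.2.2 : (g : G) • α = α)]
    have h2 := fix_unique (G := G) (g := (g : G)) hg h1 g.2.2
    exact hne (congrArg Additive.ofMul (Subtype.ext (hPst u u.2 h2) : u = 1))
  have hVcard : Nat.card (Additive P) = Nat.card Ω := by rw [← hPcard]; rfl
  by_cases hns : ∃ e ∈ E, e ≠ 1 ∧ ∃ v : Additive P, v ≠ 0 ∧ e • v = v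
  · left
    have := linear_bound hfp hns
    rwa [hEidx, hVcard] at this
  push Not at hns
  have hfree : ∀ g ∈ L, ∀ u ∈ P, u ≠ 1 → g * u * g⁻¹ = u → g = 1 := by
    intro g hg u hu hu1 h
    have hfix : (⟨g, hg⟩ : L) • Additive.ofMul (⟨u, hu⟩ : P) = Additive.ofMul ⟨u, hu⟩ :=
      congrArg Additive.ofMul (Subtype.ext h)
    have hne : Additive.ofMul (⟨u, hu⟩ : P) ≠ 0 := fun e => hu1 (congrArg (fun x : Additive P => ((Additive.toMul x : P) : G)) e)
    by_cases hgE : (⟨g, hg⟩ : L) ∈ E
    · by_contra hg1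
      exact hns _ hgE (fun e => hg1 (congrArg Subtype.val e)) _ hne hfix
    · exact absurd (hfp _ hgE _ hfix) hne
  by_cases hPn : P.Normal
  · -- the Frobenius case
    right
    have hLeq : ∀ g : G, g • α = α → g ∈ L := fun g hg =>
      ⟨Subgroup.mem_normalizer_iff.mpr fun u => ⟨fun hu => hPn.conj_mem u hu g,
        fun hu => by have := hPn.conj_mem _ hu g⁻¹; simpa [mul_assoc] using this⟩, hg⟩
    refine ⟨⟨P, hPn, ?_, hPab⟩, ?_, ?_⟩
    · intro h
      rw [h, Subgroup.card_bot] at hPcard
      omega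
    · by_contra hcon
      push Not at hcon
      apply hq
      rw [Subgroup.index_eq_one, eq_top_iff]
      intro g _
      by_cases hg : g = 1
      · rw [hg]; exact one_mem _
      · exact Subgroup.subset_closure fun ω => hcon g hg ω
    · intro g hg
      rw [Finite.card_le_one_iff_subsingleton]
      refine ⟨fun ⟨b, hb⟩ ⟨c, hc⟩ => Subtype.ext ?_⟩
      obtain ⟨v, rfl⟩ := exists_smul_eq P α b
      obtain ⟨w, rfl⟩ := exists_smul_eq P α c
      by_contra hne
      apply hg
      set g' := (v : G)⁻¹ * g * v with hg'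
      have hg'α : g' • α = α := by
        rw [hg', mul_smul, mul_smul]
        exact inv_smul_eq_iff.mpr hb
      set u := (v : G)⁻¹ * w with hu
      have huP : u ∈ P := mul_mem (inv_mem v.2) w.2
      have hu' : g' • u • α = u • α := by
        rw [hg', hu, mul_smul, mul_smul (v : G)⁻¹ (w : G), mul_smul, smul_inv_smul]
        exact congrArg ((v : G)⁻¹ • ·) hc
      have hu1 : u ≠ 1 := fun e => hne (by
        show (v : G) • α = (w : G) • α
        rw [inv_mul_eq_one.mp e])
      have h5 : u⁻¹ * (g' * u * g'⁻¹) = 1 := hPst _ (mul_mem (inv_mem huP) (hPn.conj_mem u huP g')) (by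
        rw [mul_smul, mul_smul, mul_smul, inv_smul_eq_iff.mpr hg'α.symm, hu', inv_smul_smul])
      have h6 := hfree g' (hLeq g' hg'α) u huP hu1 (inv_mul_eq_one.mp h5).symm
      rw [hg'] at h6
      calc g = (v : G) * ((v : G)⁻¹ * g * v) * (v : G)⁻¹ := by group
        _ = 1 := by rw [h6]; group
  -- the normal closure of `P`
  exfalso
  set N := Subgroup.normalClosure (P : Set G) with hN
  have hPN : P ≤ N := Subgroup.le_normalClosure
  have hND : N ≤ D := Subgroup.normalClosure_le_normal hPD
  set E0 := L ⊓ N with hE0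
  have hdec : ∀ g ∈ N, (∀ u ∈ P, g * u * g⁻¹ ∈ P) → ∃ x ∈ P, ∃ w ∈ E0, g = x * w := by
    intro g hgN hgP
    obtain ⟨x, hx⟩ := exists_smul_eq P α (g • α)
    have hgZ : g ∈ Z := Subgroup.mem_normalizer_fintype (S := (P : Set G)) hgP
    refine ⟨x, x.2, (x : G)⁻¹ * g, Subgroup.mem_inf.mpr ⟨Subgroup.mem_inf.mpr ⟨Z.mul_mem (Z.inv_mem (Subgroup.le_normalizer x.2)) hgZ, ?_⟩,
      N.mul_mem (N.inv_mem (hPN x.2)) hgN⟩, (mul_inv_cancel_left _ _).symm⟩
    show ((x : G)⁻¹ * g) • α = α
    rw [mul_smul, inv_smul_eq_iff]; exact hx.symm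
  have hmaxN : ∀ C : Subgroup G, C ≤ D → ∀ Q : Subgroup G, Q ≤ C → IsPGroup p Q → P ≤ Q → Q = P :=
    fun C hC Q h1 h2 h3 => hmax Q (le_trans h1 hC) h2 h3
  have he2 : 2 ≤ Nat.card E0 := by
    by_contra hlt
    have hE1 : E0 = ⊥ := Subgroup.eq_bot_of_card_le E0 (by omega)
    apply hPn
    have : N = P := eq_regular_of_central hPN hPr hPcard hPt (hmaxN N hND) fun g hg hgP u hu => by
      obtain ⟨x, hx, w, hw, rfl⟩ := hdec g hg hgP
      rw [hE1, Subgroup.mem_bot] at hw
      rw [hw, mul_one]
      exact hPab u hu x hx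
    rw [← this]
    exact Subgroup.normalClosure_normal
  have hTI : TIData (P.subgroupOf N) (E0.subgroupOf N) Ω :=
    { comm := fun x y => Subtype.ext (Subtype.ext (hPab _ x.2 _ y.2))
      cent := by
        intro u hu hu1 g hg
        let C : Subgroup G := N ⊓ Subgroup.centralizer {(u : G)}
        have hPC : P ≤ C := le_inf hPN fun v hv => Subgroup.mem_centralizer_singleton_iff.mpr (hPab v hv u hu)
        have hC : C = P := eq_regular_of_central hPC hPr hPcard hPt (hmaxN C (le_trans inf_le_left hND))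
          fun k hk hkP v hv => by
          obtain ⟨x, hx, w, hw, rfl⟩ := hdec k hk.1 hkP
          have hxw := Subgroup.mem_centralizer_singleton_iff.mp hk.2
          have hw1 : w = 1 := by
            refine hfree w hw.1 u hu (fun e => hu1 (Subtype.ext e)) ?_
            have : w * (u : G) = (u : G) * w := by
              have hxu := hPab x hx u hu
              calc w * (u : G) = x⁻¹ * (x * w * (u : G)) := by group
                _ = x⁻¹ * ((u : G) * x * w) := by rw [hxw]; group
                _ = (u : G) * w := by rw [← hxu]; group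
            rw [this, mul_inv_cancel_right]
          rw [hw1, mul_one]
          exact hPab v hv x hx
        show (g : G) ∈ P
        rw [← hC]
        exact ⟨g.2, Subgroup.mem_centralizer_singleton_iff.mpr (congrArg Subtype.val hg)⟩
      norm := by
        intro g hg
        obtain ⟨x, hx, w, hw, h⟩ := hdec g g.2 fun u hu => hg ⟨u, hPN hu⟩ hu
        exact ⟨⟨x, hPN hx⟩, hx, ⟨w, hw.2⟩, hw, Subtype.ext h⟩
      nE := fun w hw u hu => hLN w hw.1 u hu
      free := fun w hw u hu hu1 h => Subtype.ext
        (hfree w hw.1 u hu (fun e => hu1 (Subtype.ext e)) (congrArg Subtype.val h))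
      gen := by
        intro K hK hPK
        rw [eq_top_iff]
        intro g _
        have hle : N ≤ K.map N.subtype := by
          refine (Subgroup.closure_le _).mpr ?_
          intro y hy
          obtain ⟨a, ha, hay⟩ := Group.mem_conjugatesOfSet_iff.mp hy
          obtain ⟨c, rfl⟩ := isConj_iff.mp hay
          -- move the conjugation into the normal closure
          obtain ⟨z, hz⟩ := exists_smul_eq P α (c • α)
          have hsupN : Z ⊔ N = ⊤ := by
            have hsyl : ∀ Q : Subgroup N, IsPGroup p Q → P.subgroupOf N ≤ Q → Q = P.subgroupOf N := fun Q hQ hle => by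
              have h1 := hmax (Q.map N.subtype) (le_trans (Subgroup.map_subtype_le _) hND) (hQ.map _)
                (fun v hv => ⟨⟨v, hPN hv⟩, hle hv, rfl⟩)
              ext v
              refine ⟨fun hv => ?_, fun hv => hle hv⟩
              show (v : G) ∈ P
              rw [← h1]; exact ⟨v, hv, rfl⟩
            let S : Sylow p N := ⟨P.subgroupOf N, hPr.of_equiv (Subgroup.subgroupOfEquivOfLe hPN).symm,
              fun {Q} hQ hle => hsyl Q hQ hle⟩
            have h := Sylow.normalizer_sup_eq_top S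
            have hmapS : (S : Subgroup N).map N.subtype = P := by
              show (P.subgroupOf N).map N.subtype = P
              rw [Subgroup.subgroupOf_map_subtype, inf_of_le_left hPN]
            rwa [hmapS] at h
          have hc : c ∈ Z ⊔ N := by rw [hsupN]; trivial
          rw [sup_comm, Subgroup.mem_sup_of_normal_left] at hc
          obtain ⟨k, hk, l, hl, rfl⟩ := hc
          have ha' : l * a * l⁻¹ ∈ P := (Subgroup.mem_normalizer_iff.mp hl a).mp ha
          have hin : (⟨l * a * l⁻¹, hPN ha'⟩ : N) ∈ K := hPK ha'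
          refine ⟨_, hK.conj_mem _ hin ⟨k, hk⟩, ?_⟩
          show k * (l * a * l⁻¹) * k⁻¹ = k * l * a * (k * l)⁻¹
          group
        obtain ⟨g', hg', he⟩ := hle g.2
        exact (Subtype.ext he : g' = g) ▸ hg'
      semi := fun u hu hu1 ω => hPsemi u hu (fun e => hu1 (Subtype.ext e)) ω
      card_eq := by rw [Nat.card_congr (Subgroup.subgroupOfEquivOfLe hPN).toEquiv, hPcard]
      trans := ⟨fun a b => by
        obtain ⟨u, hu⟩ := exists_smul_eq P a b
        exact ⟨⟨u, hPN u.2⟩, hu⟩⟩ }
  have : IsPretransitive N Ω := hTI.trans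
  have hrankN : Nat.card (orbitRel.Quotient N (Ω × Ω)) ≠ 2 := by
    intro h
    apply hq
    have hDle : Nat.card (orbitRel.Quotient D (Ω × Ω)) ≤ 2 := by
      rw [← h]
      refine le_trans (card_quotient_le (N.subgroupOf D)) (le_of_eq ?_)
      refine Nat.card_congr (Quotient.congr (Equiv.refl _) fun a b => ?_)
      constructor
      · rintro ⟨k, hk⟩; exact ⟨⟨((k : D) : G), k.2⟩, hk⟩
      · rintro ⟨k, hk⟩; exact ⟨⟨⟨(k : G), hND k.2⟩, k.2⟩, hk⟩
    have h1 := rank_derSub (G := G) (Ω := Ω)
    have h2 := two_le_rank G (Ω := Ω) (by omega)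
    rw [← hD] at h1
    have h3 : (Nat.card (orbitRel.Quotient G (Ω × Ω)) - 1) * D.index ≤ 1 := by rw [← h1]; omega
    have h4' : 0 < D.index := Nat.pos_of_ne_zero Subgroup.index_ne_zero_of_finite
    have h5 := Nat.mul_le_mul_right D.index (show 1 ≤ Nat.card (orbitRel.Quotient G (Ω × Ω)) - 1 by omega)
    omega
  have := Fintype.ofFinite N
  have := Fintype.ofFinite Ω
  have hEcard : Nat.card (E0.subgroupOf N) = Nat.card E0 :=
    Nat.card_congr (Subgroup.subgroupOfEquivOfLe inf_le_right).toEquiv
  obtain ⟨hlow, hext⟩ := char_bound hTI (hEcard ▸ he2) (by omega) hrankN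
  rw [hEcard] at hlow hext
  -- semiregularity bounds the product
  set e := Nat.card E0 with he
  have hqe : D.index * e ≤ Nat.card Ω - 1 := by
    have hne : (Nontrivial (Additive P)) := Finite.one_lt_card_iff_nontrivial.mp (by omega)
    obtain ⟨v, hv⟩ := exists_ne (0 : Additive P)
    have hEo : e ≤ Nat.card (orbit E v) := by
      have hsr : SemiReg E (Additive P) := fun a ha ha1 w hw => by
        by_contra hw0; exact hns a ha ha1 w hw0 hw
      rw [card_le_orbit_of_semiReg hsr hv]
      refine Nat.card_le_card_of_injective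
        (fun w => (⟨⟨w.1, w.2.1⟩, hND w.2.2⟩ : E)) (fun a b h => Subtype.ext (congrArg (fun x : E => ((x : L) : G)) h))
    have := key (T := {0}ᶜ) hfp hv (fun g => fun h0 => hv ((smul_eq_zero_iff_eq g).mp h0)) hEo
    rwa [hEidx, Set.ncard_compl, Set.ncard_singleton, hVcard] at this
  have hq2 : 2 ≤ D.index := by
    have := Subgroup.index_ne_zero_of_finite (H := D); omega
  obtain ⟨e', he'⟩ : ∃ e', e = e' + 1 := ⟨e - 1, by omega⟩
  have hsub : e * (e - 1) = e * e' := by rw [he', Nat.add_sub_cancel]
  have hqle : D.index ≤ e' := Nat.le_of_mul_le_mul_left (by rw [mul_comm]; omega) (show 0 < e by omega)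
  have heq' : e' = D.index := by
    by_contra hne
    have h7 : D.index * (D.index + 2) ≤ D.index * e := Nat.mul_le_mul_left _ (by omega)
    have : (D.index + 1) ^ 2 = D.index * (D.index + 2) + 1 := by ring
    omega
  have heqn : e * (e - 1) = Nat.card Ω - 1 := by
    have hm : e * e' = D.index * e := by rw [heq', mul_comm]
    omega
  have he3 := hext heqn
  have hn7 : Nat.card Ω = 7 := by
    have h1 : e = 3 := by omega
    rw [h1] at heqn
    omega
  -- degree seven
  have : Fact (Nat.Prime 7) := ⟨by norm_num⟩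
  have hFc : Fintype.card Ω = 7 := by rw [← Nat.card_eq_fintype_card, hn7]
  have : FaithfulSMul N Ω := ⟨fun {a b} h => Subtype.ext (FaithfulSMul.eq_of_smul_eq_smul fun w => h w)⟩
  rcases FGS80.Burnside.isSolvable_or_two_transitive (G := N) hFc with hsol | h2t
  · have hNne : N ≠ ⊥ := fun h => by
      rw [h] at hPN
      rw [le_bot_iff.mp hPN, Subgroup.card_bot] at hPcard
      omega
    obtain ⟨m, hm⟩ := (Group.isSolvable_def N).mp hsol
    have hex : ∃ k, derivedSeries N (k + 1) = ⊥ := ⟨m, le_bot_iff.mp (hm ▸ derivedSeries_antitone N (Nat.le_succ m))⟩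
    set k := Nat.find hex
    have hk : derivedSeries N k ≠ ⊥ := by
      intro h
      rcases Nat.eq_zero_or_pos k with h0 | h0
      · rw [h0, derivedSeries_zero] at h
        have hb := congrArg (Subgroup.map N.subtype) h
        rw [← MonoidHom.range_eq_map, Subgroup.range_subtype, Subgroup.map_bot] at hb
        exact hNne hb
      · exact Nat.find_min hex (show k - 1 < k by omega) (by rw [Nat.sub_add_cancel h0]; exact h)
    set A := (derivedSeries N k).map N.subtype with hA
    have : N.Normal := Subgroup.normalClosure_normal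
    have hAn : A.Normal := inferInstance
    have hAN : A ≤ N := Subgroup.map_subtype_le _
    have hAc : ∀ x ∈ A, ∀ y ∈ A, x * y = y * x := by
      rintro _ ⟨x, hx, rfl⟩ _ ⟨y, hy, rfl⟩
      have h1 : ⁅x, y⁆ ∈ derivedSeries N (k + 1) := by
        rw [derivedSeries_succ]; exact Subgroup.commutator_mem_commutator hx hy
      rw [Nat.find_spec hex, Subgroup.mem_bot, commutatorElement_eq_one_iff_mul_comm] at h1
      exact congrArg Subtype.val h1
    have hAne : A ≠ ⊥ := by
      rw [hA]
      intro h
      exact hk ((Subgroup.map_eq_bot_iff_of_injective _ N.subtype_injective).mp h)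
    have hblk : IsBlock G (orbit A α) := IsBlock.orbit_of_normal α
    have hdvd := hblk.ncard_block_mul_ncard_orbit_eq ⟨α, mem_orbit_self α⟩
    rw [hn7] at hdvd
    have hA7 : (orbit A α).ncard = 7 := by
      refine ((Nat.dvd_prime (by norm_num)).mp ⟨_, hdvd.symm⟩).resolve_left fun h1 => hAne ?_
      rw [Subgroup.eq_bot_iff_forall]
      intro a ha
      refine FaithfulSMul.eq_of_smul_eq_smul fun ω : Ω => ?_
      obtain ⟨c, rfl⟩ := exists_smul_eq G α ω
      have h2 : c⁻¹ * a * c ∈ A := by have := hAn.conj_mem a ha c⁻¹; simpa using this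
      obtain ⟨b, hb⟩ := Set.ncard_eq_one.mp h1
      have e1 : α ∈ orbit A α := mem_orbit_self α
      have e2 : (c⁻¹ * a * c) • α ∈ orbit A α := ⟨⟨_, h2⟩, rfl⟩
      rw [hb, Set.mem_singleton_iff] at e1 e2
      have e3 := e2.trans e1.symm
      rw [mul_smul, mul_smul, inv_smul_eq_iff] at e3
      rw [one_smul]; exact e3
    have huniv : orbit A α = Set.univ := Set.eq_of_subset_of_ncard_le (Set.subset_univ _)
      (by rw [Set.ncard_univ, hn7, hA7]) (Set.toFinite _)
    have hAreg : Nat.card A = 7 := by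
      rw [← hn7]
      refine Nat.card_eq_of_bijective (fun u : A => (u : G) • α) ⟨fun u v h => ?_, fun ω =>
        (huniv.ge (Set.mem_univ ω) : ω ∈ orbit A α)⟩
      refine Subtype.ext (inv_mul_eq_one.mp ?_)
      refine FaithfulSMul.eq_of_smul_eq_smul fun ω : Ω => ?_
      obtain ⟨c, hc⟩ := (huniv.ge (Set.mem_univ ω) : ω ∈ orbit A α)
      have hc' : (c : G) • α = ω := hc
      rw [one_smul, ← hc', smul_smul, hAc _ (mul_mem (inv_mem u.2) v.2) c c.2, mul_smul]
      congr 1
      rw [mul_smul, inv_smul_eq_iff]; exact h.symm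
    have hp7 : p = 7 := by
      have h1 : p ∣ 7 := by rw [← hn7, ← hn]; exact dvd_pow_self p (by omega)
      exact (Nat.prime_dvd_prime_iff_eq hp' (by norm_num)).mp h1
    subst hp7
    have hAr : IsPGroup 7 A := IsPGroup.of_card (n := 1) (by rw [hAreg]; norm_num)
    have hsupA : P ⊔ A = P := hmax _ (sup_le hPD (le_trans hAN hND))
      (hPr.to_sup_of_normal_right hAr) le_sup_left
    have hAP : A ≤ P := hsupA ▸ le_sup_right
    exact hPn (Subgroup.eq_of_le_of_card_ge hAP (by rw [hAreg, hPcard, hn7]) ▸ hAn)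
  · apply hrankN
    refine le_antisymm ?_ (two_le_rank N (Ω := Ω) (by omega))
    have : Nontrivial Ω := Finite.one_lt_card_iff_nontrivial.mp (by omega)
    obtain ⟨b, hb⟩ := exists_ne α
    let f : Bool → orbitRel.Quotient N (Ω × Ω) := fun t => if t then Quotient.mk'' (α, α) else Quotient.mk'' (α, b)
    have hf : Function.Surjective f := by
      intro q
      induction q using Quotient.inductionOn' with
      | h x =>
        obtain ⟨x, y⟩ := x
        by_cases hxy : x = y
        · subst hxy
          obtain ⟨g, hg⟩ := exists_smul_eq N x α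
          exact ⟨true, Quotient.sound' ⟨g, by simp [hg]⟩⟩
        · obtain ⟨g, h1, h2⟩ := is_two_pretransitive_iff.mp h2t hxy hb.symm
          exact ⟨false, Quotient.sound' ⟨g, by simp [h1, h2]⟩⟩
    have := Nat.card_le_card_of_surjective f hf
    simpa using this

end

end Cfsg.Agent.DerIdx59
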