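import Cfsg.Agent.DerIdx59.Steps

/-! The degree is a prime power and the Sylow subgroup of the derangement subgroup is regular,
unless the index is small. -/

set_option autoImplicit false
set_option linter.unusedSectionVars false

namespace Cfsg.Agent.DerIdx59

open MulAction RecogB
open scoped Pointwise

variable {G Ω : Type*} [Group G] [Finite G] [MulAction G Ω] [FaithfulSMul G Ω] [Finite Ω]

lemma card_stab_mul {D : Subgroup G} [IsPretransitive D Ω] (a : Ω) :
    Nat.card Ω * Nat.card (D ⊓ stabilizer G a : Subgroup G) = Nat.card D := by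
  have : Nat.card (D ⊓ stabilizer G a : Subgroup G) = Nat.card (stabilizer D a) := by
    refine Nat.card_congr
      { toFun := fun x => ⟨⟨x.1, x.2.1⟩, x.2.2⟩
        invFun := fun x => ⟨x.1.1, x.1.2, x.2⟩
        left_inv := fun x => rfl
        right_inv := fun x => rfl }
  rw [this, ← index_stabilizer_of_transitive D a, Subgroup.index_mul_card]

lemma supplement_in_normalizer [IsPretransitive G Ω] {Z : Subgroup G} (hZ : Z ⊔ derSub G Ω = ⊤)
    (hq : (derSub G Ω).index ≠ 1) :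
    ∃ β : Ω, (∃ x ∈ Z, x ∉ derSub G Ω ∧ x • β = β) ∧ (Z ⊓ stabilizer G β) ⊔ derSub G Ω = ⊤ := by
  have := derSub_normal (G := G) (Ω := Ω)
  set D := derSub G Ω with hD
  have hne : D.subgroupOf Z ≠ ⊤ := by
    intro h
    rw [Subgroup.subgroupOf_eq_top] at h
    rw [sup_eq_right.mpr h] at hZ
    exact hq (Subgroup.index_eq_one.mpr hZ)
  obtain ⟨β, ⟨x, hx, hxβ⟩, hsup⟩ := exists_stab_supplement (Z := Z) (Ω := Ω) (D.subgroupOf Z) hne
    (fun x hx => by
      obtain ⟨ω, hω⟩ := exists_fix_of_not_mem (g := (x : G)) hx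
      exact ⟨ω, hω, fun y hy => fix_unique (G := G) hx hy hω⟩)
  refine ⟨β, ⟨x, x.2, hx, hxβ⟩, ?_⟩
  rw [eq_top_iff]
  refine le_trans hZ.ge (sup_le ?_ le_sup_right)
  intro g hg
  have hm : (⟨g, hg⟩ : Z) ∈ stabilizer Z β ⊔ D.subgroupOf Z := by rw [hsup]; trivial
  have hm' := Subgroup.mem_map_of_mem Z.subtype hm
  rw [Subgroup.map_sup] at hm'
  refine SetLike.le_def.mp (sup_le_sup ?_ ?_) hm'
  · rintro _ ⟨y, hy, rfl⟩; exact ⟨y.2, hy⟩
  · rintro _ ⟨y, hy, rfl⟩; exact hy

/-- For each prime divisor of the degree the index divides one less than a proper power of it. -/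
lemma exists_prime_power_dvd [IsPretransitive G Ω] {r : ℕ} [hr : Fact r.Prime]
    (hrn : r ∣ Nat.card Ω) (hq : (derSub G Ω).index ≠ 1) :
    ∃ s, 2 ≤ s ∧ s ∣ Nat.card Ω ∧ (∃ k, s = r ^ k) ∧ (derSub G Ω).index ∣ s - 1 := by
  classical
  have := derSub_normal (G := G) (Ω := Ω)
  have := derSub_transitive (G := G) (Ω := Ω)
  set D := derSub G Ω with hD
  have hΩ : Nonempty Ω := by
    by_contra h
    rw [not_nonempty_iff] at h
    exact hq (Subgroup.index_eq_one.mpr (eq_top_iff.mpr fun g _ =>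
      (FaithfulSMul.eq_of_smul_eq_smul (fun ω : Ω => isEmptyElim ω) : g = 1) ▸ one_mem D))
  obtain ⟨a⟩ := hΩ
  set X := stabilizer G a with hX
  -- a Sylow subgroup of the point stabiliser in `D`
  let P0 : Sylow r (D.subgroupOf X) := Classical.arbitrary _
  set P1 : Subgroup G := ((P0 : Subgroup (D.subgroupOf X)).map (D.subgroupOf X).subtype).map X.subtype with hP1
  have hP1le : P1 ≤ D ⊓ X := by
    rintro _ ⟨y, ⟨z, -, rfl⟩, rfl⟩
    exact ⟨z.2, z.1.2⟩
  have hP1r : IsPGroup r P1 := (P0.isPGroup'.map _).map _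
  set e1 := (Nat.card (D ⊓ X : Subgroup G)).factorization r with he1
  have hP1c : Nat.card P1 = r ^ e1 := by
    rw [hP1, Subgroup.card_map_of_injective X.subtype_injective,
      Subgroup.card_map_of_injective (D.subgroupOf X).subtype_injective, P0.card_eq_multiplicity, he1]
    congr 3
    rw [← Subgroup.inf_subgroupOf_right]
    exact Nat.card_congr (Subgroup.subgroupOfEquivOfLe (inf_le_right : D ⊓ X ≤ X)).toEquiv
  set Z1 := Subgroup.normalizer (P1 : Set G) with hZ1
  have hZ1D : Z1 ⊔ D = ⊤ := by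
    rw [eq_top_iff]
    refine le_trans (stab_sup_derSub (G := G) a).ge (sup_le ?_ le_sup_right)
    exact le_trans (frattini_in D X P0) (sup_le_sup inf_le_right le_rfl)
  -- a Sylow subgroup of its normaliser in `D`
  have hP1N : P1 ≤ D ⊓ Z1 := le_inf (le_trans hP1le inf_le_left) Subgroup.le_normalizer
  have hP1' : P1 ≤ D ⊓ Z1 := hP1N
  let P1Y : Subgroup (D.subgroupOf Z1) := (P1.subgroupOf Z1).subgroupOf (D.subgroupOf Z1)
  have hP1Yr : IsPGroup r P1Y := by
    refine IsPGroup.of_injective hP1r (⟨⟨fun y => ⟨(y.1.1 : G), y.2⟩, rfl⟩, fun _ _ => rfl⟩ : P1Y →* P1) ?_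
    intro x y h
    exact Subtype.ext (Subtype.ext (Subtype.ext (congrArg (fun w : P1 => (w : G)) h)))
  obtain ⟨R0, hR0⟩ := hP1Yr.exists_le_sylow
  set R : Subgroup G := ((R0 : Subgroup (D.subgroupOf Z1)).map (D.subgroupOf Z1).subtype).map Z1.subtype with hR
  have hRle : R ≤ D ⊓ Z1 := by
    rintro _ ⟨y, ⟨z, -, rfl⟩, rfl⟩
    exact ⟨z.2, z.1.2⟩
  have hRr : IsPGroup r R := (R0.isPGroup'.map _).map _
  have hP1R : P1 ≤ R := fun g hg =>
    ⟨⟨g, (hP1' hg).2⟩, ⟨⟨⟨g, (hP1' hg).2⟩, (hP1' hg).1⟩, hR0 hg, rfl⟩, rfl⟩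
  set Z := Z1 ⊓ Subgroup.normalizer (R : Set G) with hZ
  have hZD : Z ⊔ D = ⊤ := by
    rw [eq_top_iff]
    exact le_trans hZ1D.ge (sup_le (frattini_in D Z1 R0) le_sup_right)
  obtain ⟨β, ⟨x, hxZ, hxD, hxβ⟩, hsup⟩ := supplement_in_normalizer hZD hq
  -- `β` is fixed by `P1`
  have hβ : ∀ u ∈ P1, u • β = β := by
    intro u hu
    have hx' : x⁻¹ * u * x ∈ P1 := by
      have := (Subgroup.mem_normalizer_iff.mp (inv_mem hxZ.1) u).mp hu
      simpa using this
    set F : Set Ω := {ω | ∀ v ∈ P1, v • ω = ω} with hF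
    -- the normaliser in `D` is transitive on the fixed points
    set Y : Subgroup G := D ⊓ Z1 with hY
    have hZ1F : ∀ g ∈ Z1, ∀ ω ∈ F, g • ω ∈ F := by
      intro g hg ω hω v hv
      have h1 : g⁻¹ * v * g ∈ P1 := by
        have := (Subgroup.mem_normalizer_iff.mp (inv_mem hg) v).mp hv
        simpa using this
      have := hω _ h1
      rwa [mul_smul, mul_smul, inv_smul_eq_iff] at this
    have haF : a ∈ F := fun v hv => (hP1le hv).2
    have hYF : ∀ ω ∈ F, ∃ y ∈ Y, y • a = ω := by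
      intro ω hω
      obtain ⟨d, hd⟩ := exists_smul_eq D a ω
      have hd' : (d : G) • a = ω := hd
      -- two Sylow subgroups of the stabiliser of `a`
      let K : Subgroup (D.subgroupOf X) := (((P1.map (MulAut.conj (d : G)⁻¹).toMonoidHom).subgroupOf X)).subgroupOf (D.subgroupOf X)
      have hKle : P1.map (MulAut.conj (d : G)⁻¹).toMonoidHom ≤ D ⊓ X := by
        rintro _ ⟨v, hv, rfl⟩
        refine ⟨Subgroup.Normal.conj_mem ‹D.Normal› v (hP1le hv).1 (d : G)⁻¹, ?_⟩
        show ((d : G)⁻¹ * v * (d : G)⁻¹⁻¹) • a = a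
        rw [inv_inv, mul_smul, mul_smul, hd', hω v hv, inv_smul_eq_iff, hd']
      have hKr : IsPGroup r (P1.map (MulAut.conj (d : G)⁻¹).toMonoidHom) := hP1r.map _
      have hKr' : IsPGroup r K := by
        refine IsPGroup.of_injective hKr (⟨⟨fun y => ⟨(y.1.1 : G), y.2⟩, rfl⟩, fun _ _ => rfl⟩ : K →* _) ?_
        intro p q h
        exact Subtype.ext (Subtype.ext (Subtype.ext (congrArg (fun w : (P1.map (MulAut.conj (d : G)⁻¹).toMonoidHom : Subgroup G) => (w : G)) h)))
      obtain ⟨Q, hQ⟩ := hKr'.exists_le_sylow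
      obtain ⟨e, he⟩ := exists_smul_eq (D.subgroupOf X) P0 Q
      set f : G := ((e : X) : G) with hf
      have hfD : f ∈ D := e.2
      have hfX : f • a = a := (e : X).2
      have hmem : ∀ v ∈ P1, f⁻¹ * ((d : G)⁻¹ * v * d) * f ∈ P1 := by
        intro v hv
        have h1 : (d : G)⁻¹ * v * d ∈ P1.map (MulAut.conj (d : G)⁻¹).toMonoidHom := ⟨v, hv, by simp⟩
        have h2 : (⟨⟨_, (hKle h1).2⟩, (hKle h1).1⟩ : D.subgroupOf X) ∈ (Q : Subgroup (D.subgroupOf X)) := hQ h1
        rw [← he, Sylow.coe_subgroup_smul, Subgroup.mem_pointwise_smul_iff_inv_smul_mem] at h2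
        rw [← map_inv] at h2
        simp only [MulAut.smul_def, MulAut.conj_apply, inv_inv] at h2
        refine ⟨_, ⟨_, h2, rfl⟩, ?_⟩
        simp [hf]
      refine ⟨(d : G) * f, ⟨mul_mem d.2 hfD, ?_⟩, by rw [mul_smul, hfX, hd']⟩
      rw [hZ1]
      suffices hm : ((d : G) * f)⁻¹ ∈ Subgroup.normalizer (P1 : Set G) by simpa using inv_mem hm
      refine Subgroup.mem_normalizer_fintype (S := (P1 : Set G)) fun v hv => ?_
      have := hmem v hv
      simpa [mul_assoc] using this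
    let T : SubMulAction Z1 Ω := ⟨F, fun g {ω} hω => hZ1F g g.2 ω hω⟩
    have : IsPretransitive (D.subgroupOf Z1) T := by
      refine ⟨fun p q => ?_⟩
      obtain ⟨y1, hy1, h1⟩ := hYF p.1 p.2
      obtain ⟨y2, hy2, h2⟩ := hYF q.1 q.2
      refine ⟨⟨⟨y2 * y1⁻¹, (Z1).mul_mem hy2.2 ((Z1).inv_mem hy1.2)⟩, show y2 * y1⁻¹ ∈ D from D.mul_mem hy2.1 (D.inv_mem hy1.1)⟩, Subtype.ext ?_⟩
      show (y2 * y1⁻¹) • p.1 = q.1
      rw [← h1, ← h2, mul_smul, inv_smul_smul]
    have : Nonempty T := ⟨⟨a, haF⟩⟩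
    have := Fintype.ofFinite Z1
    have := Fintype.ofFinite T
    have : Fintype (D.subgroupOf Z1) := Fintype.ofFinite _
    have hs := coset_fix_sum (Ω := T) (D.subgroupOf Z1) (⟨x, hxZ.1⟩ : Z1)
    have hle : ∀ y : D.subgroupOf Z1, Nat.card (fixedBy T ((⟨x, hxZ.1⟩ : Z1) * (y : Z1))) ≤ 1 := by
      intro y
      rw [Finite.card_le_one_iff_subsingleton]
      refine ⟨fun p q => Subtype.ext (Subtype.ext (fix_unique (G := G) (g := x * (y : Z1)) (fun h => hxD ?_)
        (congrArg Subtype.val p.2) (congrArg Subtype.val q.2)))⟩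
      have hy : ((y : Z1) : G) ∈ D := y.2
      simpa using mul_mem h (inv_mem hy)
    have h1 : ∑ y : D.subgroupOf Z1, Nat.card (fixedBy T ((⟨x, hxZ.1⟩ : Z1) * (y : Z1))) =
        ∑ _y : D.subgroupOf Z1, 1 := by
      rw [hs]; simp [Nat.card_eq_fintype_card]
    have h2 := (Finset.sum_eq_sum_iff_of_le (fun y _ => hle y)).mp h1 1 (Finset.mem_univ _)
    obtain ⟨⟨p, hp⟩⟩ := (Nat.card_pos_iff.mp (by omega :
      0 < Nat.card (fixedBy T ((⟨x, hxZ.1⟩ : Z1) * ((1 : D.subgroupOf Z1) : Z1))))).1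
    have hp' : (x * 1) • p.1 = p.1 := congrArg Subtype.val hp
    rw [mul_one] at hp'
    rw [fix_unique (G := G) hxD hxβ hp']
    exact p.2 u hu
  -- the orbit of `R`
  have hK : Z ⊓ stabilizer G β ≤ stabilizer G β := inf_le_right
  have hdvd := dvd_of_supplement hK hsup (orbit R β) (mem_orbit_self β) (by
    rintro k hk _ ⟨w, rfl⟩
    have h1 : k * (w : G) * k⁻¹ ∈ R := (Subgroup.mem_normalizer_iff.mp hk.1.2 w).mp w.2
    refine ⟨⟨_, h1⟩, ?_⟩
    show (k * (w : G) * k⁻¹) • β = k • ((w : G) • β)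
    rw [mul_smul, mul_smul, inv_smul_eq_iff.mpr (show β = k • β from (hk.2 : k • β = β).symm)])
  have hn := card_stab_mul (D := D) β
  have ha := card_stab_mul (D := D) a
  rw [← hn] at ha
  have hβc : Nat.card (D ⊓ stabilizer G β : Subgroup G) = Nat.card (D ⊓ X : Subgroup G) := by
    refine (Nat.eq_of_mul_eq_mul_left ?_ ha).symm
    exact Nat.card_pos_iff.mpr ⟨⟨a⟩, inferInstance⟩
  have hRst : R ⊓ stabilizer G β = P1 := by
    refine (Subgroup.eq_of_le_of_card_ge (le_inf hP1R fun u hu => hβ u hu) ?_).symm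
    have h1 := card_le_of_pgroup (r := r) (K := R ⊓ stabilizer G β) (E := D ⊓ stabilizer G β)
      (le_inf (le_trans inf_le_left (le_trans hRle inf_le_left)) inf_le_right) (hRr.to_le inf_le_left)
    rw [hβc, ← he1, ← hP1c] at h1
    exact h1
  have hs : (orbit R β).ncard * Nat.card P1 = Nat.card R := by
    rw [← hRst, ← index_stabilizer]
    have : Nat.card (R ⊓ stabilizer G β : Subgroup G) = Nat.card (stabilizer R β) := Nat.card_congr
      { toFun := fun x => ⟨⟨x.1, x.2.1⟩, x.2.2⟩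
        invFun := fun x => ⟨x.1.1, x.1.2, x.2⟩
        left_inv := fun x => rfl
        right_inv := fun x => rfl }
    rw [this, Subgroup.index_mul_card]
  obtain ⟨k, hk⟩ := IsPGroup.iff_card.mp hRr
  have hDfac : (Nat.card D).factorization r = (Nat.card Ω).factorization r + e1 := by
    rw [← hn, hβc, Nat.factorization_mul (Nat.card_pos_iff.mpr ⟨⟨a⟩, inferInstance⟩).ne' Nat.card_pos.ne']
    rfl
  have hkle : k ≤ (Nat.card Ω).factorization r + e1 := by
    have h1 := card_le_of_pgroup (E := D) (le_trans hRle inf_le_left) hRr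
    rw [hk, hDfac] at h1
    exact (Nat.pow_le_pow_iff_right hr.out.one_lt).mp h1
  have hv : 1 ≤ (Nat.card Ω).factorization r :=
    hr.out.factorization_pos_of_dvd (Nat.card_pos_iff.mpr ⟨⟨a⟩, inferInstance⟩).ne' hrn
  have hk1 : e1 < k := by
    -- the normaliser of `P1` in `D` has a larger `r`-subgroup
    by_contra hlt
    have hdv : r ^ (e1 + 1) ∣ Nat.card D := by
      refine (hr.out.pow_dvd_iff_le_factorization Nat.card_pos.ne').mpr ?_
      omega
    have hP1D : Nat.card (P1.subgroupOf D) = r ^ e1 := by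
      rw [← hP1c]; exact Nat.card_congr (Subgroup.subgroupOfEquivOfLe (le_trans hP1le inf_le_left)).toEquiv
    obtain ⟨K, hKc, hKle⟩ := Sylow.exists_subgroup_card_pow_succ hdv hP1D
    have hKr : IsPGroup r K := IsPGroup.of_card hKc
    -- `P1` is normal in it
    have hnorm : K ≤ Subgroup.normalizer ((P1.subgroupOf D : Subgroup D) : Set D) := by
      have hidx : ((P1.subgroupOf D).subgroupOf K).index = (Nat.card K).minFac := by
        rw [hKc, Nat.pow_minFac (by omega), hr.out.minFac_eq]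
        have h1 := ((P1.subgroupOf D).subgroupOf K).card_mul_index
        rw [Nat.card_congr (Subgroup.subgroupOfEquivOfLe hKle).toEquiv, hP1D, hKc, pow_succ] at h1
        exact Nat.eq_of_mul_eq_mul_left (pow_pos hr.out.pos _) h1
      have := Subgroup.normal_of_index_eq_minFac_card hidx
      exact Subgroup.normal_subgroupOf_iff_le_normalizer hKle |>.mp this
    let K' : Subgroup (D.subgroupOf Z1) := ((K.map D.subtype).subgroupOf Z1).subgroupOf (D.subgroupOf Z1)
    have hKG : K.map D.subtype ≤ D ⊓ Z1 := by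
      rintro _ ⟨w, hw, rfl⟩
      refine ⟨w.2, Subgroup.mem_normalizer_iff.mpr fun v => ?_⟩
      have hn' := Subgroup.mem_normalizer_iff.mp (hnorm hw)
      constructor
      · intro hv
        exact (hn' ⟨v, (hP1le hv).1⟩).mp hv
      · intro hv
        have hvD : v ∈ D := by
          have h1 := mul_mem (mul_mem (inv_mem w.2) (hP1le hv).1) w.2
          simpa [mul_assoc] using h1
        exact (hn' ⟨v, hvD⟩).mpr hv
    have hK'r : IsPGroup r K' := by
      refine IsPGroup.of_injective (hKr.map D.subtype) (⟨⟨fun y => ⟨(y.1.1 : G), y.2⟩, rfl⟩, fun _ _ => rfl⟩ : K' →* _) ?_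
      intro p q h
      exact Subtype.ext (Subtype.ext (Subtype.ext (congrArg (fun w : (K.map D.subtype : Subgroup G) => (w : G)) h)))
    have h1 := R0.isPGroup'
    have h2 := card_le_of_pgroup (r := r) (E := D ⊓ Z1) hKG (hKr.map _)
    rw [Subgroup.card_map_of_injective D.subtype_injective, hKc] at h2
    have h3 : Nat.card R = r ^ (Nat.card (D ⊓ Z1 : Subgroup G)).factorization r := by
      rw [hR, Subgroup.card_map_of_injective Z1.subtype_injective,
        Subgroup.card_map_of_injective (D.subgroupOf Z1).subtype_injective, R0.card_eq_multiplicity]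
      congr 3
      rw [← Subgroup.inf_subgroupOf_right]
      exact Nat.card_congr (Subgroup.subgroupOfEquivOfLe (inf_le_right : D ⊓ Z1 ≤ Z1)).toEquiv
    rw [← h3, hk] at h2
    have := (Nat.pow_le_pow_iff_right hr.out.one_lt).mp h2
    omega
  refine ⟨(orbit R β).ncard, ?_, ?_, ⟨k - e1, ?_⟩, hdvd⟩
  all_goals
    have horb : (orbit R β).ncard = r ^ (k - e1) := by
      rw [hP1c, hk] at hs
      refine Nat.eq_of_mul_eq_mul_right (pow_pos hr.out.pos e1) ?_
      rw [hs, ← pow_add, Nat.sub_add_cancel hk1.le]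
    rw [horb]
  · exact le_trans hr.out.two_le (Nat.le_self_pow (by omega) r)
  · exact (hr.out.pow_dvd_iff_le_factorization (Nat.card_pos_iff.mpr ⟨⟨a⟩, inferInstance⟩).ne').mpr (by omega)

lemma bound_of_not_primePow [IsPretransitive G Ω] (h2 : 2 ≤ Nat.card Ω)
    (hq : (derSub G Ω).index ≠ 1) (hpp : ¬ IsPrimePow (Nat.card Ω)) :
    ((derSub G Ω).index + 1) ^ 2 ≤ Nat.card Ω := by
  obtain ⟨r, hr, hrn⟩ := Nat.exists_prime_and_dvd (n := Nat.card Ω) (by omega)
  have : Fact r.Prime := ⟨hr⟩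
  obtain ⟨s, hs, hsn, ⟨k, hk⟩, hqs⟩ := exists_prime_power_dvd (G := G) hrn hq
  obtain ⟨t, ht⟩ := hsn
  have ht2 : 2 ≤ t := by
    by_contra hlt
    interval_cases t
    · omega
    · rw [mul_one, hk] at ht
      apply hpp
      rw [ht]
      refine hr.isPrimePow.pow ?_
      intro h0; rw [h0, pow_zero] at hk; omega
  rw [ht]
  exact sq_le_of_dvd hs ht2 hqs (ht ▸ index_dvd (G := G) inferInstance)

end Cfsg.Agent.DerIdx59
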