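import Cfsg.Agent.DerIdx59.Linear

/-! Reduction of a non-semiregular linear group to a symplectic type normal subgroup. -/

set_option autoImplicit false
set_option linter.unusedSectionVars false

namespace Cfsg.Agent.DerIdx59

open MulAction
open scoped Pointwise

variable {L V : Type*} [Group L] [Finite L] [AddCommGroup V] [Finite V] [DistribMulAction L V]
variable {E : Subgroup L} [E.Normal]

lemma centralizer_normal {H : Subgroup L} (hH : H.Normal) : (Subgroup.centralizer (H : Set L)).Normal :=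
  ⟨fun c hc g => fun h hh => by
    have h1 := hc _ (show g⁻¹ * h * g ∈ H by have := hH.conj_mem h hh g⁻¹; simpa using this)
    calc h * (g * c * g⁻¹) = g * ((g⁻¹ * h * g) * c) * g⁻¹ := by group
      _ = g * (c * (g⁻¹ * h * g)) * g⁻¹ := by rw [h1]
      _ = g * c * g⁻¹ * h := by group⟩

/-- In an `r`-group a nontrivial normal section has an element central modulo the bottom. -/
lemma exists_central_step {r : ℕ} [hr : Fact r.Prime] {S A B : Subgroup L} (hS : IsPGroup r S)
    (hA : ∀ s ∈ S, ∀ a ∈ A, s * a * s⁻¹ ∈ A) (hB : ∀ s ∈ S, ∀ b ∈ B, s * b * s⁻¹ ∈ B)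
    (hAB : A < B) (hBS : B ≤ S) :
    ∃ t ∈ B, t ∉ A ∧ t ^ r ∈ A ∧ ∀ s ∈ S, t * s * t⁻¹ * s⁻¹ ∈ A := by
  classical
  let A' := A.subgroupOf S
  have : A'.Normal := ⟨fun a ha s => hA s s.2 a ha⟩
  let π := QuotientGroup.mk' A'
  let B' : Subgroup (S ⧸ A') := (B.subgroupOf S).map π
  have hBn : (B.subgroupOf S).Normal := ⟨fun b hb s => hB s s.2 b hb⟩
  have : B'.Normal := hBn.map π (QuotientGroup.mk'_surjective A')
  have hQ : IsPGroup r (S ⧸ A') := hS.to_quotient A'
  obtain ⟨b, hb, hbA⟩ := SetLike.exists_of_lt hAB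
  have hne : B' ≠ ⊥ := by
    intro h
    apply hbA
    have h1 : π ⟨b, hBS hb⟩ ∈ B' := Subgroup.mem_map_of_mem π (show (⟨b, hBS hb⟩ : S) ∈ B.subgroupOf S from hb)
    rw [h, Subgroup.mem_bot, QuotientGroup.mk'_apply, QuotientGroup.eq_one_iff] at h1
    exact h1
  have : Nontrivial B' := (Subgroup.nontrivial_iff_ne_bot B').mpr hne
  have hQ' : IsPGroup r (ConjAct (S ⧸ A')) := hQ.of_equiv ConjAct.toConjAct
  obtain ⟨k, hk⟩ := IsPGroup.iff_card.mp (hQ.to_subgroup B')
  have hrd : r ∣ Nat.card B' := by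
    rw [hk]; refine dvd_pow_self r ?_
    intro h0
    have : 1 < Nat.card B' := Finite.one_lt_card
    rw [hk, h0, pow_zero] at this; omega
  have h1 : (1 : B') ∈ fixedPoints (ConjAct (S ⧸ A')) B' := fun g => smul_one g
  obtain ⟨c, hc, hc1⟩ := hQ'.exists_fixed_point_of_prime_dvd_card_of_fixed_point B' hrd h1
  -- a suitable power has order `r`
  obtain ⟨e, he⟩ := hQ.to_subgroup B' c
  obtain ⟨m, hm, hm'⟩ := (Nat.dvd_prime_pow hr.out).mp (orderOf_dvd_of_pow_eq_one he)
  have hm0 : m ≠ 0 := fun h => hc1 (orderOf_eq_one_iff.mp (by rw [hm', h, pow_zero])).symm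
  set d := c ^ r ^ (m - 1) with hd
  have hdr : d ^ r = 1 := by
    rw [hd, ← pow_mul, ← pow_succ, Nat.sub_add_cancel (by omega : 1 ≤ m), ← hm', pow_orderOf_eq_one]
  have hd1 : d ≠ 1 := fun h => by
    have h2 := Nat.le_of_dvd (pow_pos hr.out.pos _) (orderOf_dvd_of_pow_eq_one h)
    rw [hm'] at h2
    exact absurd h2 (not_le.mpr (Nat.pow_lt_pow_right hr.out.one_lt (by omega)))
  have hdfix : ∀ g : S ⧸ A', g * (d : S ⧸ A') * g⁻¹ = d := by
    intro g
    have h := congrArg Subtype.val (hc (ConjAct.toConjAct g))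
    have h' : g * (c : S ⧸ A') * g⁻¹ = c := h
    rw [hd, SubmonoidClass.coe_pow]
    conv_rhs => rw [← h']
    rw [conj_pow]
  obtain ⟨t, ht, htd⟩ := Subgroup.mem_map.mp d.2
  refine ⟨t.1, ht, fun h => hd1 ?_, ?_, fun s hs => ?_⟩
  · refine Subtype.ext ?_
    rw [← htd, OneMemClass.coe_one, QuotientGroup.mk'_apply, QuotientGroup.eq_one_iff]
    exact h
  · have h2 : ((t ^ r : S) : S ⧸ A') = 1 := by
      show π (t ^ r) = 1
      rw [map_pow, htd, ← SubmonoidClass.coe_pow, hdr, OneMemClass.coe_one]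
    exact (QuotientGroup.eq_one_iff (N := A') _).mp h2
  · have h2 : π (t * ⟨s, hs⟩ * t⁻¹ * ⟨s, hs⟩⁻¹) = 1 := by
      rw [map_mul, map_mul, map_mul, map_inv, map_inv, htd]
      have := hdfix (π ⟨s, hs⟩)
      rw [mul_inv_eq_one, mul_inv_eq_iff_eq_mul]
      rw [mul_inv_eq_iff_eq_mul] at this
      exact this.symm
    exact (QuotientGroup.eq_one_iff (N := A') _).mp h2

lemma coprime_of_fixW {r : ℕ} [hr : Fact r.Prime] {S : Subgroup L} (hS : IsPGroup r S)
    (h : fixW V S = ⊥) : ∀ v : V, r • v = 0 → v = 0 := by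
  intro v hv
  by_contra hv0
  let W : AddSubgroup V :=
    { carrier := {w | r • w = 0}
      zero_mem' := smul_zero r
      add_mem' := fun {a b} (ha : r • a = 0) (hb : r • b = 0) => by
        show r • (a + b) = 0
        rw [smul_add, ha, hb, add_zero]
      neg_mem' := fun {a} (ha : r • a = 0) => by
        show r • (-a) = 0
        rw [smul_neg, ha, neg_zero] }
  let : MulAction S W :=
    { smul := fun s w => ⟨(s : L) • w.1, by
        show r • ((s : L) • w.1) = 0
        rw [smul_comm, show r • w.1 = 0 from w.2, smul_zero]⟩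
      one_smul := fun w => Subtype.ext (one_smul L w.1)
      mul_smul := fun a b w => Subtype.ext (mul_smul (a : L) (b : L) w.1) }
  have hrd : r ∣ Nat.card W := by
    rw [← addOrderOf_eq_prime hv hv0, ← AddSubgroup.addOrderOf_mk v (show v ∈ W from hv)]
    exact addOrderOf_dvd_natCard _
  obtain ⟨w, hw, hw0⟩ := hS.exists_fixed_point_of_prime_dvd_card_of_fixed_point W hrd
    (a := 0) (fun s => Subtype.ext (smul_zero (s : L)))
  refine hw0 (Subtype.ext ?_)
  have hm : (w : V) ∈ fixW V S := fun s hs => congrArg Subtype.val (hw ⟨s, hs⟩)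
  rw [h] at hm
  exact hm.symm

/-- The case of a normal Sylow subgroup. -/
lemma normal_case [FaithfulSMul L V] (hfp : FpfOutside E V) (hirr : Irr L V) {r : ℕ} [hr : Fact r.Prime]
    {S : Subgroup L} (hSn : S.Normal) (hSr : IsPGroup r S) (hSE : S ≤ E) {x : L} (hxS : x ∈ S)
    (hxr : x ^ r = 1) (hx1 : x ≠ 1) {v0 : V} (hv0 : v0 ≠ 0) (hxv : x • v0 = v0) :
    (E.index + 1) ^ 2 ≤ Nat.card V := by
  classical
  have := Fintype.ofFinite V
  have : Nontrivial V := ⟨⟨v0, 0, hv0⟩⟩
  have hE : E ≠ ⊥ := fun h => hx1 (by have := hSE hxS; rwa [h, Subgroup.mem_bot] at this)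
  have hSne : S ≠ ⊥ := fun h => hx1 (by rwa [h, Subgroup.mem_bot] at hxS)
  have hrV := coprime_of_fixW hSr (fixW_eq_bot (V := V) hirr hSn hSne)
  -- a maximal abelian normal subgroup of `L` inside `S`
  obtain ⟨A, ⟨hAn, hAS, hAab⟩, hAmax⟩ := Set.Finite.exists_maximalFor (fun A : Subgroup L => Nat.card A)
    {A : Subgroup L | A.Normal ∧ A ≤ S ∧ ∀ a ∈ A, ∀ b ∈ A, a * b = b * a} (Set.toFinite _)
    ⟨⊥, inferInstance, bot_le, fun a ha b hb => by rw [Subgroup.mem_bot.mp ha, Subgroup.mem_bot.mp hb]⟩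
  have hmax : ∀ A' : Subgroup L, A'.Normal → A' ≤ S → (∀ a ∈ A', ∀ b ∈ A', a * b = b * a) → A ≤ A' → A' = A := by
    intro A' h1 h2 h3 h4
    refine (Subgroup.eq_of_le_of_card_ge h4 ?_).symm
    exact hAmax ⟨h1, h2, h3⟩ (Subgroup.card_le_of_le h4)
  rcases abelian_cases hfp hE hirr hrV A hAn (hSr.to_le hAS) hAab with h | ⟨hAsr, hAΩ⟩
  · exact h
  have hAc := cyclic_of_omega A (hSr.to_le hAS) hAab hAΩ
  have hA1 : A ≠ ⊥ := by
    intro h
    let Z : Subgroup L := S ⊓ Subgroup.centralizer (S : Set L)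
    have hZn : Z.Normal := by
      have : (Subgroup.centralizer (S : Set L)).Normal := centralizer_normal hSn
      exact Subgroup.normal_inf_normal S _
    obtain ⟨t, htS, ht1, -, htc⟩ := exists_central_step (A := (⊥ : Subgroup L)) (B := S) hSr
      (fun s hs a ha => by rw [Subgroup.mem_bot.mp ha]; simp)
      (fun s hs b hb => mul_mem (mul_mem hs hb) (inv_mem hs)) (bot_lt_iff_ne_bot.mpr hSne) le_rfl
    have htZ : t ∈ Z := ⟨htS, fun s hs => by
      have := Subgroup.mem_bot.mp (htc s hs)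
      rw [mul_inv_eq_one, mul_inv_eq_iff_eq_mul] at this
      exact this.symm⟩
    have := hmax Z hZn inf_le_left (fun a ha b hb => (ha.2 b hb.1).symm) (h ▸ bot_le)
    rw [this] at htZ
    exact ht1 (h ▸ htZ)
  have hxA : x ∉ A := fun h => hv0 (hAsr x h hx1 v0 hxv)
  -- an element of order `r` in `A`
  obtain ⟨⟨a0, ha0⟩, hgen⟩ := IsCyclic.exists_generator (α := A)
  have hA0 : ∀ a ∈ A, ∃ k : ℤ, a0 ^ k = a := fun a ha => by
    obtain ⟨k, hk⟩ := Subgroup.mem_zpowers_iff.mp (hgen ⟨a, ha⟩)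
    exact ⟨k, congrArg Subtype.val hk⟩
  obtain ⟨z, hzA, hzo⟩ : ∃ z ∈ A, orderOf z = r := by
    obtain ⟨k, hk⟩ := IsPGroup.iff_card.mp (hSr.to_le hAS)
    have hd : r ∣ Nat.card A := by
      rw [hk]; refine dvd_pow_self r ?_
      intro h0; exact hA1 (Subgroup.eq_bot_of_card_eq A (by rw [hk, h0, pow_zero]))
    obtain ⟨z, hz⟩ := exists_prime_orderOf_dvd_card' (G := A) r hd
    exact ⟨z, z.2, by rw [Subgroup.orderOf_coe]; exact hz⟩
  have hzr : z ^ r = 1 := by rw [← hzo, pow_orderOf_eq_one]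
  have hzall : ∀ a ∈ A, a ^ r = 1 → a ∈ Subgroup.zpowers z := by
    intro a ha har
    have hs : Set.ncard {b : L | b ∈ A ∧ b ^ r = 1} ≤ r := by
      refine le_trans (le_of_eq ?_) hAΩ
      rw [← Nat.card_coe_set_eq]
      exact Nat.card_congr
        { toFun := fun b => ⟨⟨b.1, b.2.1⟩, Subtype.ext (by simpa using b.2.2)⟩
          invFun := fun b => ⟨b.1.1, b.1.2, by simpa using congrArg Subtype.val b.2⟩
          left_inv := fun b => rfl
          right_inv := fun b => rfl }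
    have hsub : (Subgroup.zpowers z : Set L) ⊆ {b : L | b ∈ A ∧ b ^ r = 1} := by
      rintro b ⟨k, rfl⟩
      exact ⟨zpow_mem hzA k, by rw [← zpow_natCast, ← zpow_mul, mul_comm, zpow_mul, zpow_natCast, hzr, one_zpow]⟩
    have he := Set.eq_of_subset_of_ncard_le hsub (by
      rw [← Nat.card_coe_set_eq (s := (Subgroup.zpowers z : Set L)), SetLike.coe_sort_coe, Nat.card_zpowers, hzo]
      exact hs) (Set.toFinite _)
    exact he.ge ⟨ha, har⟩
  have hzS : ∀ s ∈ S, Commute z s := by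
    intro s hs
    have h1 := hzall _ (hAn.conj_mem z hzA s) (by rw [conj_pow, hzr]; group)
    obtain ⟨k, hk⟩ := Subgroup.mem_zpowers_iff.mp h1
    obtain ⟨e, he⟩ := hSr ⟨s, hs⟩
    have h2 := conj_fix hzr hk.symm (by simpa using congrArg Subtype.val he)
    rw [mul_inv_eq_iff_eq_mul] at h2
    exact h2.symm
  let B : Subgroup L := S ⊓ Subgroup.centralizer (A : Set L)
  have hBn : B.Normal := by
    have : (Subgroup.centralizer (A : Set L)).Normal := centralizer_normal hAn
    exact Subgroup.normal_inf_normal S _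
  have hAB : A ≤ B := fun a ha => ⟨hAS ha, fun b hb => hAab b hb a ha⟩
  rcases eq_or_lt_of_le hAB with hBA | hlt
  · -- the centraliser of `A` in `S` is `A`
    obtain ⟨i, ⟨hiA, hix⟩, himin⟩ := Set.Finite.exists_minimalFor (fun i : L => orderOf i)
      {i : L | i ∈ A ∧ x * i ≠ i * x} (Set.toFinite _) (by
        by_contra hcon
        rw [Set.not_nonempty_iff_eq_empty, Set.eq_empty_iff_forall_notMem] at hcon
        apply hxA
        rw [hBA]
        refine ⟨hxS, fun a ha => ?_⟩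
        by_contra hne
        exact hcon a ⟨ha, fun e => hne e.symm⟩)
    set z' := x * i * x⁻¹ * i⁻¹ with hz'
    have hxiA : x * i * x⁻¹ ∈ A := hAn.conj_mem i hiA x
    have hz'A : z' ∈ A := mul_mem hxiA (inv_mem hiA)
    have hz'1 : z' ≠ 1 := fun e => hix (by
      rw [hz', mul_inv_eq_one, mul_inv_eq_iff_eq_mul] at e; exact e)
    have hiS : i ∈ S := hAS hiA
    obtain ⟨ei, hei⟩ := hSr ⟨i, hiS⟩
    have hei' : i ^ r ^ ei = 1 := by simpa using congrArg Subtype.val hei
    have hi1 : i ≠ 1 := fun e => hix (by rw [e]; simp)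
    have hxir : x * i ^ r = i ^ r * x := by
      by_contra hne
      obtain ⟨m, hm, hm'⟩ := (Nat.dvd_prime_pow hr.out).mp (orderOf_dvd_of_pow_eq_one hei')
      have hm0 : m ≠ 0 := fun h => hi1 (orderOf_eq_one_iff.mp (by rw [hm', h, pow_zero]))
      have h2 : orderOf (i ^ r) < orderOf i := by
        rw [orderOf_pow, hm', Nat.gcd_eq_right (dvd_pow_self r hm0)]
        exact Nat.div_lt_self (pow_pos hr.out.pos _) hr.out.one_lt
      have h3 := himin ⟨pow_mem hiA r, hne⟩ h2.le
      simp only at h3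
      omega
    have hz'r : z' ^ r = 1 := by
      rw [hz', Commute.mul_pow (hAab _ hxiA _ (inv_mem hiA)), conj_pow, inv_pow,
        show x * i ^ r * x⁻¹ = i ^ r by rw [hxir]; group, mul_inv_cancel]
    have hzz' : z' ∈ Subgroup.zpowers z := hzall z' hz'A hz'r
    have hz'x : Commute z' x := by
      obtain ⟨k, hk⟩ := Subgroup.mem_zpowers_iff.mp hzz'
      rw [← hk]; exact (hzS x hxS).zpow_left k
    have hX := translate_card (W := (⊤ : AddSubgroup V)) (x := x) (g := i) (z := z') hrV (fun _ _ => trivial)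
      (fun _ _ => trivial) (fun w _ e => hAsr z' hz'A hz'1 w e) hz'r hz'x (hAab z' hz'A i hiA)
      (by rw [hz']; group)
    set Wx := fixW V (Subgroup.zpowers x) with hWx
    have hQ : Nat.card Wx ^ r ≤ Nat.card V := by
      refine le_trans (le_trans (Nat.pow_le_pow_left ?_ r) hX) (Nat.card_le_card_of_injective _ Subtype.val_injective)
      refine Nat.card_le_card_of_injective (fun w => (⟨w.1, trivial, w.2⟩ :
        ((⊤ : AddSubgroup V) ⊓ fixW V (Subgroup.zpowers x) : AddSubgroup V)))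
        (fun a b e => Subtype.ext (congrArg (fun q : ((⊤ : AddSubgroup V) ⊓ fixW V (Subgroup.zpowers x) : AddSubgroup V) => (q : V)) e))
    -- conjugates of `x` lie in the coset `A x`
    have hconj : ∀ g : L, g * x * g⁻¹ * x⁻¹ ∈ A := by
      intro g
      obtain ⟨k, hk⟩ := hA0 _ (hAn.conj_mem a0 ha0 x)
      obtain ⟨l, hl⟩ := hA0 _ (hAn.conj_mem a0 ha0 g⁻¹)
      have h1 : (g * x * g⁻¹) * a0 * (g * x * g⁻¹)⁻¹ = x * a0 * x⁻¹ := by
        calc (g * x * g⁻¹) * a0 * (g * x * g⁻¹)⁻¹ = g * (x * (g⁻¹ * a0 * g⁻¹⁻¹) * x⁻¹) * g⁻¹ := by group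
          _ = g * ((x * a0 * x⁻¹) ^ l) * g⁻¹ := by rw [← hl, conj_zpow]
          _ = g * (a0 ^ l) ^ k * g⁻¹ := by rw [← hk, ← zpow_mul, ← zpow_mul, mul_comm]
          _ = (g * (g⁻¹ * a0 * g⁻¹⁻¹) * g⁻¹) ^ k := by rw [hl, conj_zpow, conj_zpow, conj_zpow]
          _ = a0 ^ k := by congr 1; group
          _ = x * a0 * x⁻¹ := hk
      have h2 : x⁻¹ * (g * x * g⁻¹) ∈ B := by
        refine Subgroup.mem_inf.mpr ⟨mul_mem (inv_mem hxS) (hSn.conj_mem x hxS g), ?_⟩
        intro a ha
        obtain ⟨j, rfl⟩ := hA0 a ha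
        have h3 : Commute a0 (x⁻¹ * (g * x * g⁻¹)) := by
          show a0 * (x⁻¹ * (g * x * g⁻¹)) = x⁻¹ * (g * x * g⁻¹) * a0
          have h4 : (g * x * g⁻¹) * a0 = x * a0 * x⁻¹ * (g * x * g⁻¹) := mul_inv_eq_iff_eq_mul.mp h1
          calc a0 * (x⁻¹ * (g * x * g⁻¹)) = x⁻¹ * (x * a0 * x⁻¹ * (g * x * g⁻¹)) := by group
            _ = x⁻¹ * (g * x * g⁻¹) * a0 := by rw [← h4]; group
        exact (h3.zpow_left j).eq
      have h3 := hBn.conj_mem _ h2 x
      rw [← hBA] at h3
      rw [show g * x * g⁻¹ * x⁻¹ = x * (x⁻¹ * (g * x * g⁻¹)) * x⁻¹ by group]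
      exact h3
    set Y : Finset L := (Set.toFinite {y : L | ∃ g, g * x * g⁻¹ = y}).toFinset with hY
    have hYc : Y.card ≤ Nat.card A := by
      rw [hY, ← Set.ncard_eq_toFinset_card, ← Nat.card_coe_set_eq]
      exact Nat.card_le_card_of_injective
        (fun y => (⟨y.1 * x⁻¹, by obtain ⟨g, hg⟩ := y.2; rw [← hg]; exact hconj g⟩ : A))
        (fun a b e => Subtype.ext (mul_right_cancel (congrArg (fun q : A => (q : L)) e)))
    let T : Set V := ↑(Y.biUnion fun y => (Finset.univ.filter fun v : V => v ∈ fixW V (Subgroup.zpowers y)).erase 0)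
    have hTinv : ∀ g : L, g • v0 ∈ T := by
      intro g
      simp only [T, Finset.coe_biUnion, Set.mem_iUnion, Finset.mem_coe, Finset.mem_erase, Finset.mem_filter,
        Finset.mem_univ, true_and]
      refine ⟨g * x * g⁻¹, by simp [hY], fun e => hv0 ((smul_eq_zero_iff_eq g).mp e), ?_⟩
      intro w hw
      obtain ⟨j, rfl⟩ := Subgroup.mem_zpowers_iff.mp hw
      refine (stabilizer L (g • v0)).zpow_mem ?_ j
      show (g * x * g⁻¹) • g • v0 = g • v0
      rw [mul_smul, inv_smul_smul, mul_smul, hxv]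
    have hTc : T.ncard ≤ Nat.card A * (Nat.card Wx - 1) := by
      rw [Set.ncard_coe_finset]
      refine le_trans Finset.card_biUnion_le (le_trans ?_ (Nat.mul_le_mul_right _ hYc))
      rw [← smul_eq_mul, ← Finset.sum_const]
      refine Finset.sum_le_sum fun y hy => ?_
      rw [Finset.card_erase_of_mem (by simp)]
      refine Nat.sub_le_sub_right ?_ 1
      rw [← Fintype.card_subtype, ← Nat.card_eq_fintype_card]
      obtain ⟨g, hg⟩ : ∃ g, g * x * g⁻¹ = y := by simpa [hY] using hy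
      refine Nat.card_le_card_of_injective (fun w => (⟨g⁻¹ • w.1, ?_⟩ : Wx))
        (fun a b e => Subtype.ext (MulAction.injective g⁻¹ (congrArg (fun q : Wx => (q : V)) e)))
      intro u hu
      obtain ⟨j, rfl⟩ := Subgroup.mem_zpowers_iff.mp hu
      refine (stabilizer L (g⁻¹ • w.1)).zpow_mem ?_ j
      have h1 : y • w.1 = w.1 := w.2 y (Subgroup.mem_zpowers y)
      subst hg
      rw [mul_smul, mul_smul] at h1
      show x • g⁻¹ • w.1 = g⁻¹ • w.1
      rw [eq_inv_smul_iff]; exact h1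
    have hm : Nat.card A ≤ Nat.card (orbit E v0) := by
      rw [← card_le_orbit_of_semiReg hAsr hv0]
      exact card_orbit_mono (le_trans hAS hSE) v0
    have hk := le_trans (key hfp hv0 hTinv hm) hTc
    have hq : E.index ≤ Nat.card Wx - 1 := Nat.le_of_mul_le_mul_left (by rwa [mul_comm]) (Nat.card_pos (α := A))
    have hW1 : 1 ≤ Nat.card Wx := Nat.card_pos
    exact two_sided_arith hr.out.two_le hW1 (by omega) hQ
  · -- the centraliser of `A` in `S` is larger
    have hBc : ∀ b ∈ B, ∀ a ∈ A, a * b = b * a := fun b hb a ha => hb.2 a ha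
    let C : Subgroup L :=
      { carrier := {c | c ∈ B ∧ c ^ r ∈ A ∧ ∀ s ∈ S, c * s * c⁻¹ * s⁻¹ ∈ A}
        one_mem' := ⟨one_mem B, by rw [one_pow]; exact one_mem A, fun s _ => by simp⟩
        mul_mem' := by
          rintro c d ⟨hc, hcr, hcs⟩ ⟨hd, hdr, hds⟩
          refine ⟨mul_mem hc hd, ?_, fun s hs => ?_⟩
          · have he : d * c * d⁻¹ * c⁻¹ ∈ A := hds c hc.1
            rw [mul_pow_twist (c := d * c * d⁻¹ * c⁻¹) (hBc c hc _ he) (hBc d hd _ he) (by group)]
            exact mul_mem (pow_mem he _) (mul_mem hcr hdr)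
          · rw [show c * d * s * (c * d)⁻¹ * s⁻¹ = c * (d * s * d⁻¹ * s⁻¹) * c⁻¹ * (c * s * c⁻¹ * s⁻¹) by group]
            exact mul_mem (hAn.conj_mem _ (hds s hs) c) (hcs s hs)
        inv_mem' := by
          rintro c ⟨hc, hcr, hcs⟩
          refine ⟨inv_mem hc, by rw [inv_pow]; exact inv_mem hcr, fun s hs => ?_⟩
          have h1 := inv_mem (hAn.conj_mem _ (hcs s hs) c⁻¹)
          have e : (c⁻¹ * (c * s * c⁻¹ * s⁻¹) * c⁻¹⁻¹)⁻¹ = c⁻¹ * s * c * s⁻¹ := by group
          rw [e] at h1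
          simpa using h1 }
    have hCB : C ≤ B := fun c hc => hc.1
    have hCS : C ≤ S := fun c hc => hc.1.1
    have hAC : A ≤ C := fun a ha => ⟨hAB ha, pow_mem ha r, fun s hs => by
      rw [show a * s * a⁻¹ * s⁻¹ = a * (s * a⁻¹ * s⁻¹) by group]
      exact mul_mem ha (hAn.conj_mem _ (inv_mem ha) s)⟩
    have hCn : C.Normal := ⟨fun c hc g => ⟨hBn.conj_mem c hc.1 g, by rw [conj_pow]; exact hAn.conj_mem _ hc.2.1 g,
      fun s hs => by
        have hs' : g⁻¹ * s * g ∈ S := by have := hSn.conj_mem s hs g⁻¹; simpa using this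
        have := hAn.conj_mem _ (hc.2.2 _ hs') g
        rw [show g * (c * (g⁻¹ * s * g) * c⁻¹ * (g⁻¹ * s * g)⁻¹) * g⁻¹ =
          g * c * g⁻¹ * s * (g * c * g⁻¹)⁻¹ * s⁻¹ by group] at this
        exact this⟩⟩
    obtain ⟨t, htB, htA, htr, htc⟩ := exists_central_step hSr (fun s _ a ha => hAn.conj_mem a ha s)
      (fun s _ b hb => hBn.conj_mem b hb s) hlt inf_le_left
    have hAC' : A ≠ C := fun e => htA (e.ge ⟨htB, htr, htc⟩)
    have hcomm : ∀ b ∈ B, ∀ c ∈ C, b * c * b⁻¹ * c⁻¹ ∈ Subgroup.zpowers z := by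
      intro b hb c hc
      have h0 : c * b * c⁻¹ * b⁻¹ ∈ A := hc.2.2 b hb.1
      have h1 : b * c * b⁻¹ * c⁻¹ ∈ A := by
        rw [show b * c * b⁻¹ * c⁻¹ = (c * b * c⁻¹ * b⁻¹)⁻¹ by group]; exact inv_mem h0
      refine hzall _ h1 ?_
      set e := b * c * b⁻¹ * c⁻¹ with he
      have h2 : (b * c * b⁻¹) ^ r = c ^ r := by
        rw [conj_pow, ← hBc b hb _ hc.2.1]; group
      have h3 : b * c * b⁻¹ = e * c := by rw [he]; group
      rw [h3, Commute.mul_pow (hBc c (hCB hc) e h1)] at h2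
      exact mul_right_cancel (h2.trans (one_mul _).symm)
    have hCF : CForm r A C z :=
      { le := hAC
        central := fun a ha c hc => hBc c (hCB hc) a ha
        z_mem := hzA
        z_ord := hzo
        z_all := hzall
        comm := fun x hx y hy => hcomm x (hCB hx) y hy
        pow := fun x hx => hx.2.1
        centre := fun w hw hwc => by
          let Z : Subgroup L := C ⊓ Subgroup.centralizer (C : Set L)
          have hZn : Z.Normal := by
            have : (Subgroup.centralizer (C : Set L)).Normal := centralizer_normal hCn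
            exact Subgroup.normal_inf_normal C _
          have hle : A ≤ Z := fun a ha => ⟨hAC ha, fun c hc => (hBc c (hCB hc) a ha).symm⟩
          have := hmax Z hZn (le_trans inf_le_left hCS) (fun a ha b hb => (ha.2 b hb.1).symm) hle
          rw [← this]
          exact ⟨hw, fun y hy => (hwc y hy).symm⟩
        pgrp := hSr.to_le hCS }
    refine form_bound hfp hCF (le_trans hCS hSE) hCn hAsr hAc hrV hAC' (fun hAz hr2 => ?_)
    have hSB : S ≤ B := fun s hs => ⟨hs, fun a ha => by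
      rw [hAz] at ha
      obtain ⟨k, rfl⟩ := Subgroup.mem_zpowers_iff.mp ha
      exact ((hzS s hs).zpow_left k).eq⟩
    have hT0 : centIn B C ≤ A := by
      set T0 := centIn B C with hT0
      have hT0n : T0.Normal := by
        have : (Subgroup.centralizer (C : Set L)).Normal := centralizer_normal hCn
        exact Subgroup.normal_inf_normal B _
      have hAT : A ≤ T0 := fun a ha => ⟨hAB ha, fun c hc => (hBc c (hCB hc) a ha).symm⟩
      rcases eq_or_lt_of_le hAT with h | h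
      · exact h.ge
      exfalso
      obtain ⟨w, hw, hwA, hwr, hwc⟩ := exists_central_step hSr (fun s _ a ha => hAn.conj_mem a ha s)
        (fun s _ b hb => hT0n.conj_mem b hb s) h (le_trans inf_le_left inf_le_left)
      exact hwA (hCF.centre w ⟨hw.1, hwr, hwc⟩ fun y hy => (hw.2 y hy).symm)
    have hb := bilin hzo (fun b hb => hBc b hb z hzA) hcomm hCF.pgrp hAC le_rfl
    have e1 : centIn B A = B := le_antisymm inf_le_left fun b hb => ⟨hb, fun a ha => hBc b hb a ha⟩
    rw [e1] at hb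
    have h2 : Nat.card B ≤ Nat.card C := by
      refine Nat.le_of_mul_le_mul_right (le_trans hb ?_) (Nat.card_pos (α := A))
      rw [mul_comm]
      exact Nat.mul_le_mul_left _ (Subgroup.card_le_of_le hT0)
    have hBC : C = B := Subgroup.eq_of_le_of_card_ge hCB h2
    exact ⟨x, hBC ▸ hSB hxS, hxA, hxr⟩

end Cfsg.Agent.DerIdx59
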