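import Cfsg.Agent.RecogB.DerIndex
import Cfsg.Agent.DerIdx59.Arith

/-! Point stabilisers in Sylow normalisers supplementing the derangement subgroup. -/

set_option autoImplicit false
set_option linter.unusedSectionVars false

namespace Cfsg.Agent.DerIdx59

open MulAction RecogB
open scoped Pointwise

/-- A stabiliser supplements a normal subgroup outside which fixed points are unique. -/
lemma exists_stab_supplement {Z Ω : Type*} [Group Z] [Finite Z] [MulAction Z Ω] [Finite Ω]
    (D' : Subgroup Z) [D'.Normal] (hD : D' ≠ ⊤)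
    (huniq : ∀ x : Z, x ∉ D' → ∃! ω : Ω, x • ω = ω) :
    ∃ β : Ω, (∃ x : Z, x ∉ D' ∧ x • β = β) ∧ stabilizer Z β ⊔ D' = ⊤ := by
  classical
  have := Fintype.ofFinite Z
  have := Fintype.ofFinite Ω
  obtain ⟨x0, hx0⟩ : ∃ x, x ∉ D' := by
    by_contra h
    push Not at h
    exact hD (eq_top_iff.mpr fun x _ => h x)
  have : Nonempty Ω := ⟨(huniq x0 hx0).exists.choose⟩
  choose! fp hfp hfpu using huniq
  set X : Finset Z := Finset.univ.filter fun x => x ∉ D' with hX
  have hXmem : ∀ x, x ∈ X ↔ x ∉ D' := fun x => by simp [hX]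
  have hXc : X.card + Nat.card D' = Nat.card Z := by
    rw [Nat.card_eq_fintype_card, Nat.card_eq_fintype_card, Fintype.card_subtype, hX, add_comm,
      Finset.card_filter_add_card_filter_not, Finset.card_univ]
  let cnt : Ω → ℕ := fun β => (X.filter fun x => fp x = β).card
  have hcnt : ∀ β, cnt β + Nat.card (D' ⊓ stabilizer Z β : Subgroup Z) = Nat.card (stabilizer Z β) := by
    intro β
    rw [Nat.card_eq_fintype_card, Nat.card_eq_fintype_card, Fintype.card_subtype, Fintype.card_subtype,
      ← Finset.card_union_of_disjoint]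
    · congr 1
      ext x
      simp only [Finset.mem_union, Finset.mem_filter, hXmem, Finset.mem_univ, true_and, Subgroup.mem_inf,
        mem_stabilizer_iff]
      constructor
      · rintro (⟨h1, h2⟩ | ⟨-, h2⟩)
        · rw [← h2]; exact hfp x h1
        · exact h2
      · intro h
        by_cases h1 : x ∈ D'
        · exact Or.inr ⟨h1, h⟩
        · exact Or.inl ⟨h1, (hfpu x h1 β h).symm⟩
    · rw [Finset.disjoint_left]
      intro x h1 h2
      simp only [Finset.mem_filter, hXmem, Finset.mem_univ, true_and, Subgroup.mem_inf] at h1 h2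
      exact h1.1 h2.1
  have hsmul : ∀ (z : Z) (β : Ω), cnt (z • β) = cnt β := by
    intro z β
    have hcj : ∀ (w x : Z), x ∉ D' → w * x * w⁻¹ ∉ D' ∧ fp (w * x * w⁻¹) = w • fp x := by
      intro w x hx
      have h1 : w * x * w⁻¹ ∉ D' := fun h => hx (by
        have := Subgroup.Normal.conj_mem ‹D'.Normal› _ h w⁻¹
        simpa [mul_assoc] using this)
      refine ⟨h1, (hfpu _ h1 _ ?_).symm⟩
      show (w * x * w⁻¹) • w • fp x = w • fp x
      rw [mul_smul, inv_smul_smul, mul_smul, hfp x hx]
    refine (Finset.card_bij' (fun x _ => z * x * z⁻¹) (fun x _ => z⁻¹ * x * z⁻¹⁻¹) ?_ ?_ ?_ ?_).symm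
    · intro x hx
      simp only [Finset.mem_filter, hXmem] at hx ⊢
      exact ⟨(hcj z x hx.1).1, by rw [(hcj z x hx.1).2, hx.2]⟩
    · intro x hx
      simp only [Finset.mem_filter, hXmem] at hx ⊢
      exact ⟨(hcj z⁻¹ x hx.1).1, by rw [(hcj z⁻¹ x hx.1).2, hx.2, inv_smul_smul]⟩
    · intro x _; group
    · intro x _; group
  -- the contribution of an orbit
  have horb : ∀ β, (Finset.univ.filter fun γ => γ ∈ orbit Z β).card * cnt β ≤ X.card ∧
      Nat.card Z = (Finset.univ.filter fun γ => γ ∈ orbit Z β).card * Nat.card (stabilizer Z β) := by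
    intro β
    constructor
    · rw [← smul_eq_mul, ← Finset.sum_const]
      calc ∑ _γ ∈ Finset.univ.filter (fun γ => γ ∈ orbit Z β), cnt β
          = ∑ γ ∈ Finset.univ.filter (fun γ => γ ∈ orbit Z β), cnt γ := by
            refine Finset.sum_congr rfl fun γ hγ => ?_
            obtain ⟨z, hz⟩ := (Finset.mem_filter.mp hγ).2
            rw [← show z • β = γ from hz, hsmul]
        _ ≤ ∑ γ : Ω, cnt γ := Finset.sum_le_sum_of_subset (Finset.subset_univ _)
        _ = X.card := (Finset.card_eq_sum_card_fiberwise (fun x _ => Finset.mem_univ (fp x))).symm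
    · rw [← Fintype.card_subtype, ← Nat.card_eq_fintype_card,
        show Nat.card {γ // γ ∈ orbit Z β} = (orbit Z β).ncard from Nat.card_coe_set_eq _, ← index_stabilizer,
        Subgroup.index_mul_card]
  refine ⟨fp x0, ⟨x0, hx0, hfp x0 hx0⟩, ?_⟩
  set β := fp x0 with hβ
  set O := Finset.univ.filter (fun γ => γ ∈ orbit Z β) with hO
  -- a stabiliser leaving `D'` has at least half of its elements outside
  have hhalf : ∀ γ, 0 < cnt γ → Nat.card (stabilizer Z γ) ≤ 2 * cnt γ := by
    intro γ hpos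
    have h1 := hcnt γ
    have h2 : (D' ⊓ stabilizer Z γ : Subgroup Z) ≤ stabilizer Z γ := inf_le_right
    obtain ⟨t, ht⟩ := Subgroup.card_dvd_of_le h2
    have ht2 : 2 ≤ t := by
      by_contra hlt
      interval_cases t <;> omega
    have := Nat.mul_le_mul_left (Nat.card (D' ⊓ stabilizer Z γ : Subgroup Z)) ht2
    omega
  have hall : ∀ x, x ∈ X → fp x ∈ O := by
    intro x hx
    by_contra hn
    set O' := Finset.univ.filter (fun γ => γ ∈ orbit Z (fp x)) with hO'
    have hdisj : Disjoint O O' := by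
      rw [Finset.disjoint_left]
      intro γ h1 h2
      simp only [hO, hO', Finset.mem_filter, Finset.mem_univ, true_and] at h1 h2 hn
      rw [← orbit_eq_iff] at h1 h2
      exact hn (orbit_eq_iff.mp (h2.symm.trans h1))
    have hsum : O.card * cnt β + O'.card * cnt (fp x) ≤ X.card := by
      rw [← smul_eq_mul, ← smul_eq_mul, ← Finset.sum_const, ← Finset.sum_const]
      calc (∑ _γ ∈ O, cnt β) + ∑ _γ ∈ O', cnt (fp x)
          = (∑ γ ∈ O, cnt γ) + ∑ γ ∈ O', cnt γ := by
            congr 1 <;> refine Finset.sum_congr rfl fun γ hγ => ?_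
            · obtain ⟨z, hz⟩ := (Finset.mem_filter.mp hγ).2
              rw [← show z • β = γ from hz, hsmul]
            · obtain ⟨z, hz⟩ := (Finset.mem_filter.mp hγ).2
              rw [← show z • fp x = γ from hz, hsmul]
        _ = ∑ γ ∈ O ∪ O', cnt γ := (Finset.sum_union hdisj).symm
        _ ≤ ∑ γ : Ω, cnt γ := Finset.sum_le_sum_of_subset (Finset.subset_univ _)
        _ = X.card := (Finset.card_eq_sum_card_fiberwise (fun x _ => Finset.mem_univ (fp x))).symm
    have c1 : 0 < cnt β := Finset.card_pos.mpr ⟨x0, Finset.mem_filter.mpr ⟨(hXmem x0).mpr hx0, rfl⟩⟩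
    have c2 : 0 < cnt (fp x) := Finset.card_pos.mpr ⟨x, Finset.mem_filter.mpr ⟨hx, rfl⟩⟩
    have d1 := Nat.mul_le_mul_left O.card (hhalf β c1)
    have d2 := Nat.mul_le_mul_left O'.card (hhalf (fp x) c2)
    rw [← (horb β).2] at d1
    rw [← (horb (fp x)).2, ← mul_assoc, mul_comm O'.card 2, mul_assoc] at d2
    rw [← mul_assoc, mul_comm O.card 2, mul_assoc] at d1
    have : 0 < Nat.card D' := Nat.card_pos
    omega
  have hXeq : O.card * cnt β = X.card := by
    rw [← smul_eq_mul, ← Finset.sum_const, Finset.card_eq_sum_card_fiberwise hall]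
    refine Finset.sum_congr rfl fun γ hγ => ?_
    obtain ⟨z, hz⟩ := (Finset.mem_filter.mp hγ).2
    rw [← show z • β = γ from hz]
    exact (hsmul z β).symm
  have hDcard : O.card * Nat.card (D' ⊓ stabilizer Z β : Subgroup Z) = Nat.card D' := by
    have h1 := congrArg (O.card * ·) (hcnt β)
    simp only [mul_add] at h1
    rw [← (horb β).2, hXeq] at h1
    omega
  have hrel : D'.relIndex (stabilizer Z β) = D'.index := by
    have h1 : Nat.card (D'.subgroupOf (stabilizer Z β)) * D'.relIndex (stabilizer Z β) = Nat.card (stabilizer Z β) :=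
      (D'.subgroupOf (stabilizer Z β)).card_mul_index
    rw [← Subgroup.inf_subgroupOf_right, Nat.card_congr (Subgroup.subgroupOfEquivOfLe (inf_le_right : D' ⊓ stabilizer Z β ≤ stabilizer Z β)).toEquiv] at h1
    have h2 := D'.card_mul_index
    rw [(horb β).2, ← hDcard, ← h1, mul_assoc] at h2
    have hpos : 0 < O.card := by
      apply Finset.card_pos.mpr
      exact ⟨β, Finset.mem_filter.mpr ⟨Finset.mem_univ _, mem_orbit_self β⟩⟩
    exact (Nat.eq_of_mul_eq_mul_left Nat.card_pos (Nat.eq_of_mul_eq_mul_left hpos h2)).symm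
  have h2 : (stabilizer Z β ⊔ D').index = 1 := by
    have h3 := Subgroup.relIndex_mul_index (show D' ≤ stabilizer Z β ⊔ D' from le_sup_right)
    rw [Subgroup.relIndex_sup_right, hrel] at h3
    exact Nat.eq_of_mul_eq_mul_left
      (Nat.pos_of_ne_zero Subgroup.index_ne_zero_of_finite) (h3.trans (mul_one _).symm)
  exact Subgroup.index_eq_one.mp h2

variable {G Ω : Type*} [Group G] [MulAction G Ω]

lemma stab_sup_derSub [Finite G] [IsPretransitive G Ω] (a : Ω) :
    stabilizer G a ⊔ derSub G Ω = ⊤ := by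
  have := derSub_transitive (G := G) (Ω := Ω)
  have := derSub_normal (G := G) (Ω := Ω)
  rw [eq_top_iff]
  intro g _
  obtain ⟨d, hd⟩ := exists_smul_eq (derSub G Ω) a (g • a)
  have hs : (d : G)⁻¹ * g ∈ stabilizer G a := by
    rw [mem_stabilizer_iff, mul_smul, ← hd]; exact inv_smul_smul (d : G) a
  rw [sup_comm, Subgroup.mem_sup_of_normal_left]
  exact ⟨d, d.2, _, hs, by simp⟩

/-- A supplement of `D` inside a stabiliser divides invariant sets. -/
lemma dvd_of_supplement [Finite G] [Finite Ω] [IsPretransitive G Ω] {K : Subgroup G} {a : Ω}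
    (hK : K ≤ stabilizer G a) (hKD : K ⊔ derSub G Ω = ⊤) (S : Set Ω) (ha : a ∈ S)
    (hS : ∀ k ∈ K, ∀ x ∈ S, k • x ∈ S) : (derSub G Ω).index ∣ S.ncard - 1 := by
  have := derSub_normal (G := G) (Ω := Ω)
  rw [← Set.ncard_sdiff_singleton_of_mem ha, ← Nat.card_coe_set_eq]
  refine dvd_card_of_invariant (H := K) (S \ {a}) (fun x hx k => ⟨hS k k.2 x hx.1, fun e => hx.2 ?_⟩) ?_
  · have h2 : (k : G) • a = a := hK k.2
    exact smul_left_cancel (k : G) ((show (k : G) • x = a from e).trans h2.symm)
  · intro x hx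
    have hle : stabilizer K x ≤ (derSub G Ω).subgroupOf K := fun s hs => by
      rw [Subgroup.mem_subgroupOf]
      by_contra hn
      exact hx.2 (fix_unique (a := x) (b := a) hn hs (hK s.2))
    have he : ((derSub G Ω).subgroupOf K).index = (derSub G Ω).index := by
      show (derSub G Ω).relIndex K = _
      rw [← Subgroup.relIndex_sup_right, hKD, Subgroup.relIndex_top_right]
    rw [← he, Nat.card_coe_set_eq, ← index_stabilizer]
    exact Subgroup.index_dvd_of_le hle

/-- The Frattini argument inside a subgroup. -/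
lemma frattini_in [Finite G] (D X : Subgroup G) [D.Normal] {r : ℕ} [Fact r.Prime]
    (P : Sylow r (D.subgroupOf X)) :
    X ≤ (X ⊓ Subgroup.normalizer ((((P : Subgroup (D.subgroupOf X)).map (D.subgroupOf X).subtype).map X.subtype : Subgroup G) : Set G)) ⊔ D := by
  have h := Sylow.normalizer_sup_eq_top P
  intro g hg
  have hm : (⟨g, hg⟩ : X) ∈ Subgroup.normalizer (((P : Subgroup (D.subgroupOf X)).map (D.subgroupOf X).subtype : Subgroup X) : Set X) ⊔ D.subgroupOf X := by
    rw [h]; trivial
  have hm' := Subgroup.mem_map_of_mem X.subtype hm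
  rw [Subgroup.map_sup] at hm'
  refine SetLike.le_def.mp (sup_le_sup ?_ ?_) hm'
  · exact le_inf (Subgroup.map_subtype_le _) (Subgroup.le_normalizer_map _)
  · rintro _ ⟨y, hy, rfl⟩; exact hy

lemma exists_sylow_map [Finite G] (E : Subgroup G) (r : ℕ) [Fact r.Prime] :
    ∃ P : Subgroup G, P ≤ E ∧ IsPGroup r P ∧ Nat.card P = r ^ (Nat.card E).factorization r := by
  have P : Sylow r E := Classical.arbitrary _
  refine ⟨(P : Subgroup E).map E.subtype, Subgroup.map_subtype_le _, P.isPGroup'.map _, ?_⟩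
  rw [Subgroup.card_map_of_injective E.subtype_injective]
  exact P.card_eq_multiplicity

lemma card_le_of_pgroup [Finite G] {E K : Subgroup G} {r : ℕ} [hr : Fact r.Prime] (hK : K ≤ E)
    (hr' : IsPGroup r K) : Nat.card K ≤ r ^ (Nat.card E).factorization r := by
  obtain ⟨k, hk⟩ := IsPGroup.iff_card.mp hr'
  rw [hk]
  refine Nat.pow_le_pow_right hr.out.pos ?_
  exact (hr.out.pow_dvd_iff_le_factorization Nat.card_pos.ne').mp (hk ▸ Subgroup.card_dvd_of_le hK)

end Cfsg.Agent.DerIdx59
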